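import Cfsg.Agent.H4.Ident
import Cfsg.Agent.H4.ZStar
import Cfsg.Agent.H8.Coprime
import Cfsg.Agent.L.Cnt

/-! Explicit models of centralizers of involutions. -/

set_option autoImplicit false
open Cfsg CfH9 Subgroup

namespace CfH4

variable {G : Type*} [Group G] {M : Type*} [Group M]

/-- `φ` is an isomorphism of `M` onto the centralizer of `φ z`. -/
structure CM (φ : M →* G) (z : M) : Prop where
  inj : Function.Injective φ
  zc : ∀ m, m * z = z * m
  cent : ∀ g, g * φ z = φ z * g → ∃ m, φ m = g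

theorem exists_CM {t : G} (e : Cx(t) ≃* M) : ∃ (φ : M →* G) (z : M), CM φ z ∧ φ z = t := by
  have h : ((Cx(t)).subtype.comp e.symm.toMonoidHom) (e ⟨t, mem_Cx.2 rfl⟩) = t := by simp
  refine ⟨_, _, ⟨(subtype_injective _).comp e.symm.injective, fun m => ?_, fun g hg => ?_⟩, h⟩
  · obtain ⟨m, rfl⟩ := e.surjective m
    rw [← map_mul, ← map_mul]
    exact congrArg e (Subtype.ext (mem_Cx.1 m.2))
  · rw [h] at hg
    exact ⟨e ⟨g, mem_Cx.2 hg⟩, by simp⟩

namespace CM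

variable {φ : M →* G} {z : M} (h : CM φ z)
include h

theorem range_eq : φ.range = Cx(φ z) := by
  ext g
  refine ⟨?_, fun hg => h.cent g (mem_Cx.1 hg)⟩
  rintro ⟨m, rfl⟩
  rw [mem_Cx, ← map_mul, ← map_mul, h.zc]

theorem mem (m : M) : φ m ∈ Cx(φ z) := h.range_eq.le ⟨m, rfl⟩

theorem equiv : Nonempty (Cx(φ z) ≃* M) :=
  ⟨(MulEquiv.subgroupCongr h.range_eq.symm).trans (MonoidHom.ofInjective h.inj).symm⟩

theorem card : Nat.card Cx(φ z) = Nat.card M := Nat.card_congr h.equiv.some.toEquiv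

theorem conj (g : G) : CM ((MulAut.conj g).toMonoidHom.comp φ) z := by
  refine ⟨(MulAut.conj g).injective.comp h.inj, h.zc, fun x hx => ?_⟩
  obtain ⟨m, hm⟩ := h.cent (g⁻¹ * x * g) (by
    have : x * (g * φ z * g⁻¹) = g * φ z * g⁻¹ * x := hx
    calc _ = g⁻¹ * (x * (g * φ z * g⁻¹)) * g := by group
      _ = _ := by rw [this]; group)
  exact ⟨m, by simp [hm, mul_assoc]⟩

theorem of_isConj {t : G} (ht : IsConj (φ z) t) : ∃ ψ : M →* G, CM ψ z ∧ ψ z = t := by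
  obtain ⟨g, rfl⟩ := isConj_iff.1 ht
  exact ⟨_, h.conj g, rfl⟩

theorem comp {σ : M →* M} (hσ : Function.Surjective σ) (hi : Function.Injective σ) (hz : σ z = z) :
    CM (φ.comp σ) z := by
  refine ⟨h.inj.comp hi, h.zc, fun g hg => ?_⟩
  rw [MonoidHom.comp_apply, hz] at hg
  obtain ⟨m, rfl⟩ := h.cent g hg
  obtain ⟨m, rfl⟩ := hσ m
  exact ⟨m, rfl⟩

theorem restrict (K : Subgroup G) (hK : ∀ m, φ m ∈ K) : CM (φ.codRestrict K hK) z := by
  refine ⟨fun a b e => h.inj (congrArg Subtype.val e), h.zc, fun g hg => ?_⟩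
  obtain ⟨m, hm⟩ := h.cent g (congrArg Subtype.val hg)
  exact ⟨m, Subtype.ext hm⟩

theorem eq_iff {a b : M} : φ a = φ b ↔ a = b := h.inj.eq_iff

theorem eq_one_iff {a : M} : φ a = 1 ↔ a = 1 := by rw [← map_one φ, h.eq_iff]

theorem card_of_isConj {t : G} (ht : IsConj (φ z) t) : Nat.card Cx(t) = Nat.card M := by
  obtain ⟨ψ, h1, rfl⟩ := h.of_isConj ht
  exact h1.card

theorem pow_of_isConj {t g : G} (ht : IsConj (φ z) t) {n : ℕ} (hn : ∀ m : M, m ^ n = 1)
    (hg : g * t = t * g) : g ^ n = 1 := by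
  obtain ⟨ψ, h1, rfl⟩ := h.of_isConj ht
  obtain ⟨m, rfl⟩ := h1.cent g hg
  rw [← map_pow, hn, map_one]

/-- The normalizer of the image of a subgroup whose centre has `z` as unique involution. -/
theorem Nm_le [Finite G] (S : Subgroup M) (hz : z ∈ S) (hz2 : z * z = 1) (hz1 : z ≠ 1)
    (hS : ∀ w ∈ S, w * w = 1 → w ≠ 1 → (∀ s ∈ S, w * s = s * w) → w = z) :
    Nm(S.map φ) ≤ Cx(φ z) := fun g hg => by
  obtain ⟨w, hw, e⟩ := conj_mem_of_mem_normalizer hg (mem_map_of_mem φ hz)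
  rw [mem_Cx', ← e, hS w hw ?_ ?_ fun s hs => ?_]
  · rw [← h.eq_one_iff, map_mul, e]
    exact CfL.sq_of_isConj (isConj_iff.2 ⟨g, rfl⟩) (by rw [← map_mul, hz2, map_one])
  · rintro rfl
    rw [map_one, eq_comm, conj_eq_one_iff, h.eq_one_iff] at e
    exact hz1 e
  · obtain ⟨s', -, e'⟩ := conj_mem_of_mem_normalizer' hg (mem_map_of_mem φ hs)
    have := mem_Cx.1 (h.mem s')
    rw [← h.eq_iff, map_mul, map_mul, e]
    rw [e'] at this
    calc _ = g * (φ z * (g⁻¹ * φ s * g)) * g⁻¹ := by group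
      _ = _ := by rw [← this]; group

theorem sylIn [Finite G] [Finite M] {S : Subgroup M} (hS : SylIn 2 S ⊤) (hz : z ∈ S) (hz2 : z * z = 1)
    (hz1 : z ≠ 1) (hS' : ∀ w ∈ S, w * w = 1 → w ≠ 1 → (∀ s ∈ S, w * s = s * w) → w = z) :
    SylIn 2 (S.map φ) ⊤ := by
  have h1 := hS.map φ
  rw [← MonoidHom.range_eq_map, h.range_eq] at h1
  exact h1.of_Nm_le le_top (inf_le_right.trans (h.Nm_le S hz hz2 hz1 hS'))

end CM

/-- An isolated involution `z` gives `G = C(z) O(G)`. -/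
theorem Cx_sup_oddCore [Finite G] {z : G} (hz : orderOf z = 2) (hiso : IsIsolated z) :
    Cx(z) ⊔ oddCore G = ⊤ := by
  have h1 := zstar G z hz hiso
  refine eq_top_iff.2 fun g _ => ?_
  obtain ⟨c, hc, he⟩ := iso_conj (p := 2) hiso (k := 1) (K := pPrimeCore 2 G ⊔ zpowers z)
    (by rw [pow_one, ← hz, pow_orderOf_eq_one]) (mem_sup_right (mem_zpowers z)) (g := g) (by
      have := mul_mem_sup (h1 g) (mem_zpowers z)
      simpa using this)
  have h2 : pPrimeCore 2 G ⊔ zpowers z ≤ Cx(z) ⊔ oddCore G :=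
    sup_le le_sup_right ((zpowers_le.2 (mem_Cx.2 rfl)).trans le_sup_left)
  have := mul_mem (inv_mem (h2 hc)) (mem_sup_left he)
  simpa using this

end CfH4
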