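import Cfsg.Agent.OD.Pre
import Cfsg.Agent.H4.ZStar

/-! A coprime automorphism fixing the centralizer of an involution. -/

set_option autoImplicit false
open Cfsg CfH4 CfH9 CfH7 Subgroup

namespace CfH4

theorem factor_of_finite {J X : Type*} [Finite X] {φ ψ : J → X} (hs : Function.Surjective ψ)
    (h : ∀ a b, φ a = φ b → ψ a = ψ b) {a b : J} (hab : ψ a = ψ b) : φ a = φ b := by
  obtain ⟨σ, hσ⟩ := hs.hasRightInverse
  have h1 : Function.Injective (φ ∘ σ) := fun x y e => by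
    have := h _ _ e
    rwa [hσ, hσ] at this
  have h2 := Finite.injective_iff_surjective.1 h1
  have h3 : ∀ c, φ c = φ (σ (ψ c)) := fun c => by
    obtain ⟨y, hy⟩ := h2 (φ c)
    have := h _ _ hy
    rw [hσ] at this
    rw [← this]; exact hy.symm
  rw [h3 a, h3 b, hab]

variable {G : Type*} [Group G]

/-- elements centralizing or inverting `k` -/
def cstar (k : G) : Subgroup G where
  carrier := {x | x * k * x⁻¹ = k ∨ x * k * x⁻¹ = k⁻¹}
  one_mem' := Or.inl (by simp)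
  mul_mem' := by
    intro a b ha hb
    have e : a * b * k * (a * b)⁻¹ = a * (b * k * b⁻¹) * a⁻¹ := by group
    have e2 : a * k⁻¹ * a⁻¹ = (a * k * a⁻¹)⁻¹ := by group
    rcases ha with ha | ha <;> rcases hb with hb | hb <;>
      simp only [Set.mem_ofPred_eq, e, hb, ha, e2, inv_inv, true_or, or_true]
  inv_mem' := by
    intro a ha
    rcases ha with ha | ha
    · left; conv_lhs => rw [← ha]
      group
    · right
      have : a * k⁻¹ * a⁻¹ = k :=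
        (by group : a * k⁻¹ * a⁻¹ = (a * k * a⁻¹)⁻¹).trans (by rw [ha, inv_inv])
      conv_lhs => rw [← this]
      group

theorem mem_cstar {k x : G} : x ∈ cstar k ↔ x * k * x⁻¹ = k ∨ x * k * x⁻¹ = k⁻¹ := Iff.rfl

theorem mem_Cx_of_cstar [Finite G] {k x : G} (h : x ∈ cstar k) (ho : Odd (orderOf x)) :
    x ∈ Cx(k) := by
  have h2 : x ^ 2 ∈ Cx(k) := by
    rw [mem_Cx']
    have e : x ^ 2 * k * (x ^ 2)⁻¹ = x * (x * k * x⁻¹) * x⁻¹ := by rw [pow_two]; group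
    have e2 : x * k⁻¹ * x⁻¹ = (x * k * x⁻¹)⁻¹ := by group
    rcases h with h | h <;> simp only [e, h, e2, inv_inv]
  obtain ⟨m, hm⟩ := ho
  have : x = (x ^ 2) ^ (m + 1) := by
    rw [← pow_mul, show 2 * (m + 1) = orderOf x + 1 by omega, pow_succ, pow_orderOf_eq_one,
      one_mul]
  rw [this]; exact pow_mem h2 _

structure CopH (N : Subgroup G) (α τ : G) (r : ℕ) : Prop where
  oα : orderOf α = r
  nd : ¬ r ∣ Nat.card N
  oτ : orderOf τ = 2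
  mem : τ ∈ N
  cen : N ⊓ Cx(τ) ≤ Cx(α)

namespace CopH

variable [Finite G] {N : Subgroup G} [hN : N.Normal] {α τ : G} {r : ℕ} [hr : Fact r.Prime]
  (h : CopH N α τ r)
include h

theorem τα : τ ∈ Cx(α) := h.cen ⟨h.mem, mem_Cx.2 rfl⟩

theorem fix {g : G} (hg : g ∈ N) (h1 : g * τ * g⁻¹ ∈ Cx(α)) : g ∈ Cx(α) := by
  have h2 : g⁻¹ * α * g ∈ Cx(τ) := by
    rw [mem_Cx] at h1 ⊢
    calc g⁻¹ * α * g * τ = g⁻¹ * (α * (g * τ * g⁻¹)) * g := by group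
      _ = _ := by rw [← h1]; group
  have h3 : α ∈ Cx(τ) := mem_Cx.2 (mem_Cx.1 h.τα).symm
  have h4 : g⁻¹ * α * g * α⁻¹ ∈ N := by
    simpa [mul_assoc] using mul_mem (inv_mem hg) (hN.conj_mem g hg α)
  have h5 : Commute (g⁻¹ * α * g * α⁻¹) α := mem_Cx.1 (h.cen (mi h4 (mul_mem h2 (inv_mem h3))))
  have h6 : (g⁻¹ * α * g * α⁻¹) ^ r = 1 := by
    have := h5.mul_pow r
    rw [inv_mul_cancel_right, pow_eq_one_of_orderOf h.oα, mul_one,
      pow_eq_one_of_orderOf ((orderOf_conj'' g α).trans h.oα)] at this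
    exact this.symm
  have h7 := eq_one_of_pow_pow_of_coprime (p := r) (k := 1) (by rwa [pow_one])
    (coprime_orderOf_of_mem (coprime_iff_not_dvd.2 h.nd) h4)
  rw [mul_inv_eq_one] at h7
  rw [mem_Cx]
  conv_lhs => rw [← h7]
  group

theorem syl {β : G} {L : Subgroup G} (hβ : orderOf β = r) (h1 : β ∈ L)
    (h2 : L ≤ N ⊔ zpowers α) : SylIn r (zpowers β) L := by
  have h3 : SylIn r (zpowers α) (N ⊔ zpowers α) := by
    refine sylIn_of_not_dvd le_sup_right (isPGroup_zpowers_of_orderOf_prime h.oα) fun h3 => h.nd ?_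
    have h4 := card_sup_mul_card_inf (A := zpowers α) (B := N) le_normalizer_of_normal
    have h5 := card_mul_relIndex (le_sup_right : zpowers α ≤ N ⊔ zpowers α)
    rw [sup_comm, ← h5, mul_assoc] at h4
    exact h3.trans ⟨_, (Nat.eq_of_mul_eq_mul_left Nat.card_pos h4).symm⟩
  exact (h3.of_card_le (isPGroup_zpowers_of_orderOf_prime hβ) (zpowers_le.2 (h2 h1))
    (by rw [Nat.card_zpowers, Nat.card_zpowers, hβ, h.oα])).mono (zpowers_le.2 h1) h2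

theorem zp {β : G} (hβ : orderOf β = r) (h1 : β ∈ N ⊔ zpowers α) (h2 : β ∈ Cx(τ)) :
    α ∈ zpowers β := by
  have h3 : α ∈ Cx(τ) := mem_Cx.2 (mem_Cx.1 h.τα).symm
  obtain ⟨c, hc, he⟩ := (h.syl (L := (N ⊔ zpowers α) ⊓ Cx(τ)) h.oα
    ⟨mem_sup_right (mem_zpowers α), h3⟩ inf_le_left).conj (h.syl hβ ⟨h1, h2⟩ inf_le_left)
  obtain ⟨n, hn, a, ha, rfl⟩ := mem_sup_of_normal_left.1 hc.1
  have h4 : a ∈ Cx(τ) := zpowers_le.2 h3 ha
  have h5 : n * a ∈ Cx(α) := mul_mem (h.cen ⟨hn, (mul_mem_cancel_right h4).1 hc.2⟩)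
    (zpowers_le.2 (mem_Cx.2 rfl) ha)
  rw [← he, cj_zpowers, mem_Cx'.1 h5]
  exact mem_zpowers α

theorem exists_syl2 : ∃ S, SylIn 2 S N ∧ S ≤ Cx(α) := by
  obtain ⟨S, hS, h1⟩ := exists_sylIn_ge (H := N ⊓ Cx(α)) (isPGroup_zpowers_of_orderOf_prime h.oτ)
    (zpowers_le.2 ⟨h.mem, h.τα⟩)
  exact ⟨S, hS.of_Nm_le inf_le_left fun n hn => ⟨hn.1, h.fix hn.1
    (hS.le (conj_mem_of_mem_normalizer hn.2 (h1 (mem_zpowers τ)))).2⟩, hS.le.trans inf_le_right⟩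

theorem key {t a : G} (ht : t ∈ N) (ht2 : t * t = 1) (ha : a ∈ N)
    (h1 : τ * t ∈ Cx(a * α * a⁻¹)) : t ∈ Cx(α) := by
  have hττ : τ * τ = 1 := by rw [← pow_two]; exact pow_eq_one_of_orderOf h.oτ
  have hK : ∀ g ∈ N, g * α * g⁻¹ ∈ N ⊔ zpowers α := fun g hg =>
    mul_mem (mul_mem (mem_sup_left hg) (mem_sup_right (mem_zpowers α))) (mem_sup_left (inv_mem hg))
  have hτ : τ ∈ cstar (τ * t) := Or.inr (by
    rw [← mul_assoc, hττ, one_mul, mul_inv_rev, inv_eq_of_mul_eq_one_right ht2])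
  obtain ⟨P, hP, hτP⟩ := exists_sylIn_ge (H := N ⊓ cstar (τ * t))
    (isPGroup_zpowers_of_orderOf_prime h.oτ) (zpowers_le.2 ⟨h.mem, hτ⟩)
  have h2 : a * α * a⁻¹ ∈ cstar (τ * t) := Or.inl (mem_Cx'.1 (mem_Cx.2 (mem_Cx.1 h1).symm))
  obtain ⟨n, hn, x, hx, he⟩ := hP.frattini
    (mem_Nm_inf (mem_Nm_of_normal _ N) (le_normalizer h2))
  have hx' : x = n⁻¹ * (a * α * a⁻¹) := by rw [he]; group
  have h3 : x ∈ (N ⊔ zpowers α) ⊓ Nm(P) ⊓ cstar (τ * t) :=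
    mi (mi (hx' ▸ mul_mem (mem_sup_left (inv_mem (mi1 hn))) (hK a ha)) hx)
      (hx' ▸ mul_mem (inv_mem (mi2 hn)) h2)
  have h4 : r ∣ orderOf x := by
    have h5 : QuotientGroup.mk' N x = QuotientGroup.mk' N α := by
      rw [hx']
      simp [(QuotientGroup.eq_one_iff _).2 hn.1, (QuotientGroup.eq_one_iff _).2 ha]
    have h6 : orderOf (QuotientGroup.mk' N α) = r := by
      refine orderOf_eq_prime (by rw [← map_pow, pow_eq_one_of_orderOf h.oα, map_one])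
        fun h6 => h.nd ?_
      exact h.oα ▸ N.orderOf_dvd_natCard ((QuotientGroup.eq_one_iff _).1 h6)
    rw [← h6, ← h5]; exact orderOf_map_dvd _ x
  obtain ⟨β, hβ, hβo⟩ := exists_orderOf_eq_prime (h4.trans (orderOf_dvd_natCard _ h3))
  obtain ⟨S, hS, hSα⟩ := h.exists_syl2
  obtain ⟨g, hg, hPg⟩ := hS.exists_le_cj hP.pgrp (hP.le.trans inf_le_left)
  have h5 : g * α * g⁻¹ ∈ Cz(P) := by
    rw [← le_Cx_iff, ← cj_Cx]; exact hPg.trans (cj_mono g hSα)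
  obtain ⟨y, hy, hy'⟩ := (h.syl (L := (N ⊔ zpowers α) ⊓ Nm(P)) ((orderOf_conj' g α).trans h.oα)
    ⟨hK g hg, Cz_le_Nm P h5⟩ inf_le_left).conj (h.syl hβo hβ.1 inf_le_left)
  have h6 : β ∈ Cz(P) := by
    have := cj_mono y (zpowers_le.2 h5)
    rw [hy', cj_eq_of_mem_normalizer (mem_Nm_Cz hy.2)] at this
    exact this (mem_zpowers β)
  have h7 := zpowers_le.2 hβ.2 (h.zp hβo hβ.1.1 (Cz_le_Cx (hτP (mem_zpowers τ)) h6))
  have h8 := mem_Cx_of_cstar h7 (h.oα ▸ hr.out.odd_of_ne_two fun e =>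
    h.nd (e ▸ h.oτ ▸ N.orderOf_dvd_natCard h.mem))
  exact (mul_mem_cancel_left h.τα).1 (mem_Cx.2 (mem_Cx.1 h8).symm)

theorem core {b a : G} (hb : b ∈ N) (hbα : b ∈ Cx(α)) (ha : a ∈ N) :
    τ * (b * τ * b⁻¹) ∈ Cx(a * α * a⁻¹) := by
  have hττ : τ * τ = 1 := by rw [← pow_two]; exact pow_eq_one_of_orderOf h.oτ
  by_cases h0 : a * α * a⁻¹ = α
  · rw [h0]; exact mul_mem h.τα (mul_mem (mul_mem hbα h.τα) (inv_mem hbα))
  let X := {x : G // (∃ g ∈ N, g * α * g⁻¹ = x) ∧ x ≠ a * α * a⁻¹}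
  let J := {g : G // g ∈ N ∧ g * α * g⁻¹ ≠ a * α * a⁻¹}
  have hc : ∀ g ∈ N, g * τ * g⁻¹ ∈ N := fun g _ => hN.conj_mem τ h.mem g
  let ψ : J → X := fun g => ⟨g.1 * α * g.1⁻¹, ⟨g.1, g.2.1, rfl⟩, g.2.2⟩
  let φ : J → X := fun g => ⟨g.1 * τ * g.1⁻¹ * (a * α * a⁻¹) * (g.1 * τ * g.1⁻¹)⁻¹,
    ⟨g.1 * τ * g.1⁻¹ * a, mul_mem (hc _ g.2.1) ha, by group⟩, fun e => g.2.2 (by
      have h1 := h.fix (mul_mem (inv_mem ha) g.2.1) (mem_Cx'.2 (by
        calc _ = a⁻¹ * (g.1 * τ * g.1⁻¹ * (a * α * a⁻¹) * (g.1 * τ * g.1⁻¹)⁻¹) * a := by group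
          _ = α := by rw [e]; group))
      conv_rhs => rw [← mem_Cx'.1 h1]
      group)⟩
  have h1 : φ ⟨1, one_mem _, by simpa using Ne.symm h0⟩ =
      φ ⟨b, hb, by rw [mem_Cx'.1 hbα]; exact Ne.symm h0⟩ := by
    refine factor_of_finite (ψ := ψ) ?_ ?_ (Subtype.ext (by simp [ψ, mem_Cx'.1 hbα]))
    · rintro ⟨x, ⟨g, hg, rfl⟩, hx⟩
      exact ⟨⟨g, hg, hx⟩, rfl⟩
    · rintro ⟨g, hg, hg'⟩ ⟨k, hk, hk'⟩ e
      replace e : g * τ * g⁻¹ * (a * α * a⁻¹) * (g * τ * g⁻¹)⁻¹ =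
        k * τ * k⁻¹ * (a * α * a⁻¹) * (k * τ * k⁻¹)⁻¹ := congrArg Subtype.val e
      have hgk := mul_mem (inv_mem hg) hk
      have h2 := h.fix hgk (h.key (a := g⁻¹ * a) (hc _ hgk)
        (by calc _ = g⁻¹ * k * (τ * τ) * (g⁻¹ * k)⁻¹ := by group
            _ = 1 := by rw [hττ]; group) (mul_mem (inv_mem hg) ha) (mem_Cx'.2 (by
        calc _ = τ * g⁻¹ * (k * τ * k⁻¹ * (a * α * a⁻¹) * (k * τ * k⁻¹)⁻¹) * g * τ⁻¹ := by group
          _ = (τ * τ) * (g⁻¹ * a * α * (g⁻¹ * a)⁻¹) * (τ * τ)⁻¹ := by rw [← e]; group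
          _ = _ := by rw [hττ]; group)))
      refine Subtype.ext ?_
      change g * α * g⁻¹ = k * α * k⁻¹
      conv_lhs => rw [← mem_Cx'.1 h2]
      group
  replace h1 : 1 * τ * 1⁻¹ * (a * α * a⁻¹) * (1 * τ * 1⁻¹)⁻¹ =
    b * τ * b⁻¹ * (a * α * a⁻¹) * (b * τ * b⁻¹)⁻¹ := congrArg Subtype.val h1
  rw [mem_Cx']
  calc _ = τ * (b * τ * b⁻¹ * (a * α * a⁻¹) * (b * τ * b⁻¹)⁻¹) * τ⁻¹ := by group
    _ = (τ * τ) * (a * α * a⁻¹) * (τ * τ)⁻¹ := by rw [← h1]; group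
    _ = _ := by rw [hττ]; group

end CopH

theorem conj_injective_of_simple [IsSimpleGroup G] (hG : ¬ IsMulCommutative G) :
    Function.Injective (MulAut.conj : G →* MulAut G) := by
  rw [← MonoidHom.ker_eq_bot_iff]
  refine (MonoidHom.normal_ker _).eq_bot_or_eq_top.resolve_right fun h => hG ⟨⟨fun a b => ?_⟩⟩
  have : MulAut.conj a = 1 := MonoidHom.mem_ker.1 (h ▸ mem_top a)
  exact mul_inv_eq_iff_eq_mul.1 (DFunLike.congr_fun this b)

theorem mul_conj_mul_inv (α : MulAut G) (g : G) :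
    α * MulAut.conj g * α⁻¹ = MulAut.conj (α g) := by
  ext x; simp

instance normal_range_conj : (MulAut.conj : G →* MulAut G).range.Normal :=
  ⟨by rintro _ ⟨g, rfl⟩ α; exact ⟨α g, (mul_conj_mul_inv α g).symm⟩⟩

theorem not_isolated_of_simple [Finite G] [IsSimpleGroup G] (hG : ¬ IsMulCommutative G) {τ : G}
    (hτ : orderOf τ = 2) : ¬ IsIsolated τ := fun h => by
  have h1 : pPrimeCore 2 G = ⊥ :=
    (inferInstance : (pPrimeCore 2 G).Normal).eq_bot_or_eq_top.resolve_right fun e => by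
      have := coprime_orderOf_of_mem (coprime_card_pPrimeCore 2 G) (e ▸ mem_top τ)
      simp [hτ] at this
  refine ne_one_of_orderOf_eq_prime hτ (conj_injective_of_simple hG ?_)
  ext g
  have := zstar G τ hτ h g
  rw [h1, mem_bot, mul_inv_eq_one, mul_inv_eq_iff_eq_mul] at this
  simp [← this]

theorem coprime_aut_moves [Finite G] [IsSimpleGroup G] (hG : ¬ IsMulCommutative G) (τ : G)
    (hτ : orderOf τ = 2) (α : MulAut G) (hα : α ≠ 1) (hcop : (orderOf α).Coprime (Nat.card G)) :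
    ∃ c ∈ Cx(τ), α c ≠ c := by
  by_contra hcon
  push Not at hcon
  have hi := conj_injective_of_simple hG
  obtain ⟨r, hr, hd⟩ := Nat.exists_prime_and_dvd (fun e => hα (orderOf_eq_one_iff.1 e))
  haveI := Fact.mk hr
  obtain ⟨β, hβ, hβo⟩ := exists_orderOf_eq_prime (Q := zpowers α) (p := r)
    (by rwa [Nat.card_zpowers])
  have hf : ∀ (γ : MulAut G) (g : G), MulAut.conj g ∈ Cx(γ) ↔ γ g = g := fun γ g => by
    rw [mem_Cx, eq_comm, ← mul_inv_eq_iff_eq_mul, mul_conj_mul_inv, hi.eq_iff]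
  have h1 : CopH (MulAut.conj : G →* MulAut G).range β (MulAut.conj τ) r := by
    refine ⟨hβo, fun h1 => ?_, by rw [orderOf_injective _ hi, hτ], ⟨τ, rfl⟩, ?_⟩
    · rw [← Nat.card_congr (MonoidHom.ofInjective hi).toEquiv] at h1
      exact hr.ne_one (Nat.eq_one_of_dvd_coprimes hcop hd h1)
    · rintro _ ⟨⟨c, rfl⟩, hc⟩
      have h2 : c ∈ Cx(τ) := mem_Cx.2 (hi (by simpa only [map_mul] using mem_Cx.1 hc))
      exact mem_Cx.2 (mem_Cx.1 (zpowers_le.2 (mem_Cx.2 (mem_Cx.1 ((hf α c).2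
        (hcon c h2))).symm) hβ)).symm
  let H : Subgroup G := (Cx(β)).comap MulAut.conj
  have h2 : H.normalCore = ⊥ := H.normalCore_normal.eq_bot_or_eq_top.resolve_right fun e =>
    ne_one_of_orderOf_eq_prime hβo (MulEquiv.ext fun g =>
      (hf β g).1 (H.normalCore_le (e ▸ mem_top g)))
  refine not_isolated_of_simple hG hτ fun g hg => ?_
  have h3 := h1.fix ⟨g, rfl⟩ (h1.cen ⟨⟨g * τ * g⁻¹, by simp only [map_mul, map_inv]⟩,
    mem_Cx.2 (by simpa only [map_mul, map_inv] using congrArg MulAut.conj hg.symm.eq)⟩)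
  have h4 : τ * (g * τ * g⁻¹) ∈ H.normalCore := fun a => by
    have h4 := mem_Cx'.1 (h1.core (a := MulAut.conj a⁻¹) ⟨g, rfl⟩ h3 ⟨_, rfl⟩)
    change MulAut.conj _ ∈ Cx(β)
    rw [mem_Cx']
    simp only [map_mul, map_inv] at h4 ⊢
    calc _ = MulAut.conj a * (MulAut.conj τ * (MulAut.conj g * MulAut.conj τ * (MulAut.conj g)⁻¹) *
          ((MulAut.conj a)⁻¹ * β * (MulAut.conj a)⁻¹⁻¹) * (MulAut.conj τ * (MulAut.conj g *
          MulAut.conj τ * (MulAut.conj g)⁻¹))⁻¹) * (MulAut.conj a)⁻¹ := by group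
      _ = _ := by rw [h4]; group
  rw [h2, mem_bot] at h4
  rw [eq_inv_of_mul_eq_one_right h4]
  exact inv_eq_of_mul_eq_one_right (by rw [← pow_two]; exact pow_eq_one_of_orderOf hτ)

end CfH4
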