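import Cfsg.Agent.H4.CM
import Cfsg.Agent.H4.D8C
import Cfsg.Agent.L.K4
import Cfsg.Agent.H5.Dihedral8
import Cfsg.Agent.FT.BG1b
import Cfsg.Agent.H3.SL2Basic

/-! Groups with an involution centralizer `D₈`. -/

set_option autoImplicit false
open Cfsg CfH9 CfL Subgroup DihedralGroup

namespace CfH4

abbrev D4 := DihedralGroup 4

def d8s : D4 →* D4 := MonoidHom.mk' (fun | r i => r (-i) | sr i => sr (1 - i)) (by decide)

theorem d8s_bij : Function.Surjective d8s ∧ Function.Injective d8s := by decide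

variable {G : Type*} [Group G]

theorem cube_one {z a x : G} (hc : ∀ g, g * z = z * g → g * a = a * g → g = 1 ∨ g = z ∨ g = a ∨ g = a * z)
    (z2 : z * z = 1) (a2 : a * a = 1) (za : z * a = a * z) (h1 : z ≠ a) (h2 : z ≠ 1) (h3 : a ≠ 1)
    (e1 : x * z * x⁻¹ = a) (e2 : x * a * x⁻¹ = a * z) : x * x * x = 1 := by
  have e3 : x * (a * z) * x⁻¹ = z := by
    calc _ = x * a * x⁻¹ * (x * z * x⁻¹) := by group
      _ = z * (a * a) := by rw [e1, e2, ← za]; group
      _ = z := by rw [a2, mul_one]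
  have f : x * (x * x * x) * x⁻¹ = x * x * x := by group
  have f1 : x * x * x * z = z * (x * x * x) := by
    rw [← mul_inv_eq_iff_eq_mul]
    calc _ = x * (x * (x * z * x⁻¹) * x⁻¹) * x⁻¹ := by group
      _ = z := by rw [e1, e2, e3]
  have f2 : x * x * x * a = a * (x * x * x) := by
    rw [← mul_inv_eq_iff_eq_mul]
    calc _ = x * (x * (x * a * x⁻¹) * x⁻¹) * x⁻¹ := by group
      _ = a := by rw [e2, e3, e1]
  rcases hc _ f1 f2 with h | h | h | h
  · exact h
  · rw [h, e1] at f; exact absurd f.symm h1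
  · rw [h, e2] at f; exact absurd (by simpa using f) h2
  · rw [h, e3] at f; exact absurd (by simpa using f) h3

namespace CM

variable [Finite G] {φ : D4 →* G} (h : CM φ (r 2))
include h

local notation "z" => φ (r 2)
local notation "a" => φ (sr 0)
local notation "b" => φ (sr 1)

theorem d8_swap : CM (φ.comp d8s) (r 2) := h.comp d8s_bij.1 d8s_bij.2 (by decide)

theorem d8_card : Nat.card Cx(z) = 8 := by rw [h.card, nat_card]

theorem d8_Nm : Nm(Cx(z)) ≤ Cx(z) := by
  have := h.Nm_le ⊤ (mem_top _) (by decide) (by decide) (by simp only [mem_top, forall_const]; decide)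
  rwa [← MonoidHom.range_eq_map, h.range_eq] at this

theorem d8_syl : SylIn 2 Cx(z) ⊤ :=
  (sylIn_self (IsPGroup.of_card (n := 3) h.d8_card)).of_Nm_le le_top (inf_le_right.trans h.d8_Nm)

theorem d8_ne {u v : D4} (e : u ≠ v := by decide) : φ u ≠ φ v := fun e' => e (h.inj e')

theorem d8_ne1 {u : D4} (e : u ≠ 1 := by decide) : φ u ≠ 1 := fun e' => e (h.eq_one_iff.1 e')

omit h [Finite G] in
theorem d8_conj {u v : D4} (e : ∃ c, c * u * c⁻¹ = v := by decide) : IsConj (φ u) (φ v) :=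
  φ.map_isConj (isConj_iff.2 e)

omit h [Finite G] in
theorem d8_mul {u v w : D4} (e : u * v = w := by decide) : φ u * φ v = φ w := by rw [← map_mul, e]

omit h [Finite G] in
theorem d8_sq {u : D4} (e : u * u = 1 := by decide) : φ u * φ u = 1 := by rw [← map_mul, e, map_one]

theorem d8_invol {i : G} (hi : i * i = 1) (h1 : i ≠ 1) : IsConj z i ∨ IsConj a i ∨ IsConj b i := by
  obtain ⟨g, -, hg⟩ := h.d8_syl.exists_conj_mem (mem_top i) (k := 1) (by simpa [sq] using hi)
  obtain ⟨w, hw⟩ := h.cent _ (mem_Cx.1 hg)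
  have c : IsConj (φ w) i := (isConj_iff.2 ⟨g, hw.symm⟩).symm
  have h2 : w * w = 1 := by
    rw [← h.eq_one_iff, map_mul]; exact sq_of_isConj c.symm hi
  have h3 : w ≠ 1 := by rintro rfl; exact ne_one_of_isConj c.symm h1 (map_one φ)
  have : ∀ w : D4, w * w = 1 → w ≠ 1 → (∃ c, c * r 2 * c⁻¹ = w) ∨ (∃ c, c * sr 0 * c⁻¹ = w) ∨
    (∃ c, c * sr 1 * c⁻¹ = w) := by decide
  exact (this w h2 h3).imp (fun e => (d8_conj e).trans c)
    (Or.imp (fun e => (d8_conj e).trans c) fun e => (d8_conj e).trans c)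

theorem d8_iso (ha : ¬ IsConj z a) (hb : ¬ IsConj z b) : IsIsolated z := fun g hg => by
  obtain ⟨w, hw⟩ := h.cent _ hg.eq.symm
  have c : IsConj z (φ w) := isConj_iff.2 ⟨g, hw.symm⟩
  have h2 : w * w = 1 := by rw [← h.eq_one_iff, map_mul]; exact sq_of_isConj c d8_sq
  have h3 : w ≠ 1 := by rintro rfl; exact ne_one_of_isConj c h.d8_ne1 (map_one φ)
  have : ∀ w : D4, w * w = 1 → w ≠ 1 → w = r 2 ∨ (∃ c, c * w * c⁻¹ = sr 0) ∨
    (∃ c, c * w * c⁻¹ = sr 1) := by decide
  rcases this w h2 h3 with rfl | e | e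
  · exact hw.symm
  · exact absurd (c.trans (d8_conj e)) ha
  · exact absurd (c.trans (d8_conj e)) hb

theorem d8_V {g : G} (h1 : g * z = z * g) (h2 : g * a = a * g) : g = 1 ∨ g = z ∨ g = a ∨ g = a * z := by
  obtain ⟨w, rfl⟩ := h.cent g h1
  rw [← map_mul, ← map_mul, h.eq_iff] at h2
  simp only [← map_mul, h.eq_iff, h.eq_one_iff]
  clear h1; revert w; decide

theorem d8_cube {x : G} (e1 : x * z * x⁻¹ = a) (e2 : x * a * x⁻¹ = a * z) : x * x * x = 1 :=
  cube_one (fun _ => h.d8_V) d8_sq d8_sq (by rw [← map_mul, ← map_mul]; congr 1) h.d8_ne h.d8_ne1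
    h.d8_ne1 e1 e2

theorem d8_exists (ha : IsConj z a) : ∃ c : G, c * c = 1 ∧ c * a = a * c ∧
    b * c * z * (b * c)⁻¹ = a ∧ b * c * a * (b * c)⁻¹ = a * z := by
  obtain ⟨ψ, h1, e⟩ := h.of_isConj ha
  obtain ⟨w, hw⟩ := h1.cent z (by rw [e, ← map_mul, ← map_mul]; congr 1)
  have h2 : w * w = 1 := by rw [← h1.eq_one_iff, map_mul, hw]; exact d8_sq
  have h3 : w ≠ 1 := by rintro rfl; exact h.d8_ne1 (by decide) (hw.symm.trans (map_one ψ))
  have h4 : w ≠ r 2 := by rintro rfl; exact h.d8_ne (by decide) (hw.symm.trans e)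
  have : ∀ w : D4, w * w = 1 → w ≠ 1 → w ≠ r 2 → ∃ u, u * u = 1 ∧ u * w * u⁻¹ = w * r 2 := by decide
  obtain ⟨u, hu, hu'⟩ := this w h2 h3 h4
  have h5 : ψ u * a * (ψ u)⁻¹ = a := by rw [← e]; exact mem_Cx'.1 (h1.mem u)
  have h6 := congrArg ψ hu'
  simp only [map_mul, map_inv, hw, e] at h6
  refine ⟨ψ u, d8_sq hu, by rwa [mul_inv_eq_iff_eq_mul] at h5, ?_, ?_⟩
  · calc _ = b * (ψ u * z * (ψ u)⁻¹) * b⁻¹ := by group
      _ = _ := by rw [h6]; simp only [← map_mul, ← map_inv]; congr 1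
  · calc _ = b * (ψ u * a * (ψ u)⁻¹) * b⁻¹ := by group
      _ = _ := by rw [h5]; simp only [← map_mul, ← map_inv]; congr 1

theorem d8_normal (ha : IsConj z a) (N : Subgroup G) [hN : N.Normal] (h1 : N ≠ ⊥) : z ∈ N := by
  by_cases h2 : 2 ∣ Nat.card N
  · have h3 := ((h.d8_syl.inf_normal' (N := N) le_normalizer_of_normal le_top).ne_bot_iff).2 h2
    obtain ⟨⟨_, hg, hn⟩, h4⟩ := (ne_bot_iff_exists_ne_one).1 h3
    obtain ⟨w, rfl⟩ := h.cent _ (mem_Cx.1 hg)
    have h5 : w ≠ 1 := by rintro rfl; exact h4 (Subtype.ext (map_one φ))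
    have : ∀ w : D4, w ≠ 1 → w = r 2 ∨ ∃ u, u * w * u⁻¹ * w⁻¹ = r 2 := by decide
    rcases this w h5 with rfl | ⟨u, hu⟩
    · exact hn
    · rw [← hu]
      simpa using N.mul_mem (hN.conj_mem _ hn (φ u)) (N.inv_mem hn)
  · exfalso
    have key : ∀ t, IsConj z t → ∀ n ∈ N, t * n * t⁻¹ = n⁻¹ := fun t ht n hn =>
      inverts_of_fpf (sq_of_isConj ht d8_sq) (mem_Nm_of_normal t N) (by
        rw [inf_comm]
        exact inf_eq_bot_of_isPGroup_of_coprime (p := 2)
          (IsPGroup.of_card (n := 3) (by rw [h.card_of_isConj ht, nat_card]; rfl))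
          ((Nat.Prime.coprime_iff_not_dvd Nat.prime_two).2 h2).symm) hn
    refine h1 (eq_bot_iff.2 fun n hn => ?_)
    have e1 := key _ (ha.trans (d8_conj (v := sr 2))) n hn
    rw [← d8_mul (u := sr 0) (v := r 2)] at e1
    have e2 : n = n⁻¹ := by
      rw [← e1]
      calc n = (n⁻¹)⁻¹ := (inv_inv n).symm
        _ = a * (z * n * (z)⁻¹) * (a)⁻¹ := by rw [key _ (IsConj.refl _) n hn, key _ ha _ (N.inv_mem hn)]
        _ = _ := by group
    refine mem_of_sq_mem (odd_orderOf_of_coprime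
      ((Nat.Prime.coprime_iff_not_dvd Nat.prime_two).2 h2).symm hn) ?_
    rw [mem_bot]; nth_rw 1 [e2]; simp

theorem d8_V' {g : G} : g ∈ Cx(z) ⊓ Cx(a) ↔ ∃ w : D4, w * sr 0 = sr 0 * w ∧ φ w = g := by
  refine ⟨fun ⟨h1, h2⟩ => ?_, ?_⟩
  · obtain ⟨w, rfl⟩ := h.cent g (mem_Cx.1 h1)
    exact ⟨w, h.inj (by simpa using mem_Cx.1 h2), rfl⟩
  · rintro ⟨w, hw, rfl⟩
    exact ⟨h.mem w, mem_Cx.2 (by rw [← map_mul, hw, map_mul])⟩

theorem d8_cardV : Nat.card (Cx(z) ⊓ Cx(a) : Subgroup G) = 4 := by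
  have : (Cx(z) ⊓ Cx(a) : Subgroup G) = (Cx(sr 0)).map φ := by
    ext g; rw [h.d8_V']; simp [mem_Cx]
  rw [this, card_map_of_injective h.inj,
    Nat.card_congr (Equiv.subtypeEquivRight (q := fun w : D4 => w * sr 0 = sr 0 * w) fun _ => mem_Cx),
    Nat.card_eq_fintype_card]
  rfl

theorem d8_one (ha : IsConj z a) (hb : ¬ IsConj z b) :
    Nonempty (G ≃* Equiv.Perm (Fin 4)) ∨ Nonempty (G ≃* Equiv.Perm (Fin 5)) := by
  classical
  obtain ⟨c, c2, ca, e1, e2⟩ := h.d8_exists ha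
  set x := b * c
  set V := Cx(z) ⊓ Cx(a)
  have x3 := h.d8_cube e1 e2
  have e3 : x⁻¹ * z * x = a * z := by
    have : x⁻¹ = x * x := inv_eq_of_mul_eq_one_right (by rw [← mul_assoc, x3])
    calc _ = x⁻¹ * z * x⁻¹⁻¹ := by group
      _ = x * x * z * (x * x)⁻¹ := by rw [← this]
      _ = x * (x * z * x⁻¹) * x⁻¹ := by group
      _ = _ := by rw [e1, e2]
  have hV : ∀ g ∈ V, g = 1 ∨ g = z ∨ g = a ∨ g = a * z := fun g hg => h.d8_V (mem_Cx.1 hg.1) (mem_Cx.1 hg.2)
  have haz : IsConj z (a * z) := isConj_iff.2 ⟨x⁻¹, by simpa using e3⟩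
  have hV' : ∀ g ∈ V, g ≠ 1 → IsConj z g := fun g hg h1 => by
    rcases hV g hg with rfl | rfl | rfl | rfl
    exacts [absurd rfl h1, IsConj.refl _, ha, haz]
  have i1 := (Cx(z)).card_mul_index
  have i2 := V.card_mul_index
  rw [h.d8_card] at i1
  rw [h.d8_cardV] at i2
  obtain ⟨f, hf⟩ := CfH5.thompson_sign (M := V) (r := (Cx(z)).index) (by omega)
    (Nat.odd_iff.2 (by have := (sylIn_top_iff.1 h.d8_syl).2; omega)) (u := b) (by rw [sq]; exact d8_sq)
    fun g hg => hb ((hV' _ hg (by simpa using h.d8_ne1)).trans (isConj_iff.2 ⟨g, rfl⟩).symm)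
  have fz : ∀ t, IsConj z t → f t = 1 := fun t ht => by
    rw [← isConj_iff_eq.1 (f.map_isConj ht), ← d8_mul (u := r 1) (v := r 1), map_mul, Int.units_mul_self]
  have f3 : ∀ y, y * y * y = 1 → f y = 1 := fun y hy => by
    have := congrArg f hy
    rwa [map_mul, map_mul, Int.units_mul_self, one_mul, map_one] at this
  have hS : ∀ g, f g = 1 → g * z = z * g → g ∈ V := fun g h1 h2 => by
    obtain ⟨w, rfl⟩ := h.cent g h2
    have : ∀ w : D4, w * sr 0 = sr 0 * w ∨ (w * sr 1) * sr 0 = sr 0 * (w * sr 1) := by decide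
    refine (this w).elim (fun e => h.d8_V'.2 ⟨w, e, rfl⟩) fun e => ?_
    have h3 : f (φ (w * sr 1)) = 1 := by
      by_cases h4 : φ (w * sr 1) = 1
      · rw [h4, map_one]
      · exact fz _ (hV' _ (h.d8_V'.2 ⟨_, e, rfl⟩) h4)
    rw [map_mul, map_mul, h1, hf] at h3
    exact absurd h3 (by decide)
  have zx3 : z * x * (z * x) * (z * x) = 1 := by
    refine h.d8_cube ?_ ?_
    · calc _ = z * (x * z * x⁻¹) * (z)⁻¹ := by group
        _ = _ := by rw [e1]; simp only [← map_mul, ← map_inv]; congr 1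
    · calc _ = z * (x * a * x⁻¹) * (z)⁻¹ := by group
        _ = _ := by rw [e2]; simp only [← map_mul, ← map_inv]; congr 1
  have k : K4 (⟨z, fz _ (IsConj.refl _)⟩ : f.ker) ⟨x, f3 x x3⟩ := by
    refine ⟨Subtype.ext d8_sq, fun e => h.d8_ne1 (by decide) (congrArg Subtype.val e), Subtype.ext x3,
      Subtype.ext zx3, fun g hg => ?_⟩
    simp only [Subtype.ext_iff, coe_mul, coe_inv, e1, e3]
    exact hV _ (hS g g.2 (congrArg Subtype.val hg))
  have i3 := f.ker.card_mul_index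
  rw [index_ker, MonoidHom.range_eq_top.2 (fun u => (Int.units_eq_one_or u).elim
    (fun e => ⟨1, by rw [e, map_one]⟩) fun e => ⟨b, by rw [e, hf]⟩), card_top, Nat.card_eq_fintype_card (α := ℤˣ),
    Fintype.card_units_int] at i3
  have ox : orderOf x = 3 := by rw [← k.x_order]; exact (orderOf_coe (⟨x, f3 x x3⟩ : f.ker))
  rcases k.card_cases.2 with hc | hc
  · refine Or.inl (equiv_perm_of_corefree (D := Nm(zpowers x)) (m := 2 * 3) ?_ (by norm_num)
      (by rw [← i3, hc]; rfl) (Nat.Coprime.mul_dvd_of_dvd_of_dvd (by norm_num) ?_ ?_) (by norm_num [Nat.factorial]))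
    · by_contra h1
      have h2 := conj_mem_of_mem_normalizer (normalCore_le _ (h.d8_normal ha _ h1)) (mem_zpowers x)
      rw [mem_zpowers_iff_mem_range_orderOf, ox] at h2
      obtain ⟨i, hi, h3⟩ := Finset.mem_image.1 h2
      have hx : x ≠ 1 := ne_one_of_orderOf_eq_prime ox
      have h4 : ¬ x ^ 4 = 1 := fun e => by have := orderOf_dvd_of_pow_eq_one e; rw [ox] at this; omega
      rw [Finset.mem_range] at hi
      interval_cases i
      · exact hx (by simpa using h3.symm)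
      · exact h4 (h.pow_of_isConj (IsConj.refl _) (by decide) (by rw [eq_mul_inv_iff_mul_eq] at h3; simpa using h3))
      · have h5 : z * x * (z * x) = 1 := by
          calc _ = z * x * (z)⁻¹ * (z * z) * x := by group
            _ = _ := by rw [← h3, d8_sq, mul_one, sq, x3]
        rw [h5, one_mul, mul_eq_one_iff_eq_inv] at zx3
        refine h4 (h.pow_of_isConj (IsConj.refl _) (by decide) ?_)
        rw [zx3]; group
    · rw [← orderOf_eq_prime (x := b) (p := 2) (by rw [sq]; exact d8_sq) h.d8_ne1]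
      refine orderOf_dvd_natCard _ ?_
      rw [mem_normalizer_iff_cj, cj_zpowers, ← zpowers_inv]
      congr 1
      simp only [x]
      rw [← mul_assoc, d8_sq, inv_eq_of_mul_eq_one_right (d8_sq (φ := φ) (u := sr 1)), eq_comm,
        eq_comm, inv_eq_iff_mul_eq_one]
      calc _ = c * (b * b) * c := by group
        _ = 1 := by rw [d8_sq, mul_one, c2]
    · rw [← ox]; exact orderOf_dvd_natCard _ (le_normalizer (mem_zpowers x))
  · refine Or.inr (equiv_perm_of_corefree (D := Nm(V)) (m := 8 * 3) ?_ (by norm_num)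
      (by rw [← i3, hc]; rfl) (Nat.Coprime.mul_dvd_of_dvd_of_dvd (by norm_num) ?_ ?_) (by norm_num [Nat.factorial]))
    · by_contra h1
      have h2 : {t | IsConj z t} ⊆ Cx(z) := fun t ht => by
        obtain ⟨g, hg⟩ := isConj_iff.1 ht
        have h3 : t ∈ Nm(V) :=
          normalCore_le _ (hg ▸ (normalCore_normal _).conj_mem _ (h.d8_normal ha _ h1) g)
        have := k.invol_B (i := ⟨t, fz t ht⟩) (Subtype.ext (sq_of_isConj ht d8_sq))
          (mem_normalizer_of_conj_mem fun v hv => mem_Cx.2 (Subtype.ext (mem_Cx.1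
            (conj_mem_of_mem_normalizer h3 (hS v v.2 (congrArg Subtype.val (mem_Cx.1 hv)))).1)))
        exact mem_Cx.2 (congrArg Subtype.val (mem_Cx.1 this))
      have h3 := Set.ncard_le_ncard h2
      have h4 := ncard_class_mul z
      rw [← Nat.card_coe_set_eq (Cx(z) : Set G), SetLike.coe_sort_coe, h.d8_card] at h3
      rw [h.d8_card] at h4
      omega
    · rw [← h.d8_card]
      refine card_dvd_of_le fun g hg => mem_normalizer_of_conj_mem fun v hv => ?_
      obtain ⟨u, rfl⟩ := h.cent g (mem_Cx.1 hg)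
      obtain ⟨w, hw, rfl⟩ := h.d8_V'.1 hv
      refine h.d8_V'.2 ⟨u * w * u⁻¹, ?_, by simp⟩
      clear hg hv; revert u w; decide
    · rw [← ox]
      refine orderOf_dvd_natCard _ (mem_normalizer_of_conj_mem fun v hv => ?_)
      have m1 : z ∈ V := h.d8_V'.2 ⟨_, by decide, rfl⟩
      have m2 : a ∈ V := h.d8_V'.2 ⟨_, by decide, rfl⟩
      rcases hV v hv with rfl | rfl | rfl | rfl
      · simp
      · rwa [e1]
      · exact e2 ▸ mul_mem m2 m1
      · rw [← conj_mul, e1, e2]; exact mul_mem (mul_mem m2 m1) m2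

end CM

end CfH4
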