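import Cfsg.Agent.H4.D8
import Cfsg.Agent.OD.Helper4xede4ec3c43

/-! Groups with an involution centralizer `D₈` and one class of involutions. -/

set_option autoImplicit false
open Cfsg CfH9 CfL Subgroup DihedralGroup

namespace CfH4

variable {G : Type*} [Group G]

structure D8R (a b c d : G) : Prop where
  a2 : a * a = 1
  b2 : b * b = 1
  c2 : c * c = 1
  d2 : d * d = 1
  ab : a * (b * (a * (b * (a * (b * (a * b)))))) = 1
  bc : b * (c * (b * (c * (b * c)))) = 1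
  ac : a * (c * (a * c)) = 1
  ad : a * (d * (a * (d * (a * d)))) = 1
  bd : b * (d * (b * d)) = 1
  abc : a * (b * (c * (a * (b * (c * (a * (b * c))))))) = 1
  bad : b * (a * (d * (b * (a * (d * (b * (a * d))))))) = 1

theorem D8R.prod {T : Type*} [Group T] {a b c d : G} {a' b' c' d' : T} (h : D8R a b c d)
    (h' : D8R a' b' c' d') : D8R (a, a') (b, b') (c, c') (d, d') :=
  ⟨Prod.ext h.1 h'.1, Prod.ext h.2 h'.2, Prod.ext h.3 h'.3, Prod.ext h.4 h'.4, Prod.ext h.5 h'.5,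
    Prod.ext h.6 h'.6, Prod.ext h.7 h'.7, Prod.ext h.8 h'.8, Prod.ext h.9 h'.9, Prod.ext h.10 h'.10,
    Prod.ext h.11 h'.11⟩

def ev4 (a b c d : G) : ℕ → G | 0 => a | 1 => b | 2 => c | _ => d

theorem le_gensub4 (a b c d : G) : closure {a, b, c, d} ≤ CfH6.gensub (ev4 a b c d) 4 := by
  rw [closure_le]
  rintro x (rfl | rfl | rfl | rfl)
  exacts [CfH6.mem_gensub (x := 0) (by norm_num), CfH6.mem_gensub (x := 1) (by norm_num),
    CfH6.mem_gensub (x := 2) (by norm_num), CfH6.mem_gensub (x := 3) (by norm_num)]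

theorem D8R.inv {a b c d : G} (h : D8R a b c d) :
    ∀ x < 4, ev4 a b c d ([0, 1, 2, 3].getD x 0) = (ev4 a b c d x)⁻¹ := fun x hx => by
  interval_cases x
  exacts [eq_inv_of_mul_eq_one_left h.a2, eq_inv_of_mul_eq_one_left h.b2,
    eq_inv_of_mul_eq_one_left h.c2, eq_inv_of_mul_eq_one_left h.d2]

theorem card_le_of_covers {K L : Subgroup G} {N : ℕ} (h : CfH6.Covers ⊥ K N) (hL : L ≤ K) :
    Nat.card L ≤ N := by
  obtain ⟨h1, h2⟩ := h.card_le CfH6.bot_fin
  exact (card_le_of_le hL).trans (by omega)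

theorem D8R.card3 {a b c d : G} (h : D8R a b c d) (e : (c * d) ^ 3 = 1) :
    Nat.card (closure {a, b, c, d} : Subgroup G) ≤ 168 :=
  card_le_of_covers (d8c3_cov _ ⊥ h.inv (by
    simpa [d8c3_rels, ev4, h.ab, h.bc, h.ac, h.ad, h.bd, h.abc, h.bad, pow_succ, mul_assoc] using e)
    (by simp [d8c3_subs])) (le_gensub4 a b c d)

theorem D8R.card4 {a b c d : G} (h : D8R a b c d) (e : (c * d) ^ 4 = 1) :
    Nat.card (closure {a, b, c, d} : Subgroup G) ≤ 168 :=
  card_le_of_covers (d8c4_cov _ ⊥ h.inv (by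
    simpa [d8c4_rels, ev4, h.ab, h.bc, h.ac, h.ad, h.bd, h.abc, h.bad, pow_succ, mul_assoc] using e)
    (by simp [d8c4_subs])) (le_gensub4 a b c d)

theorem D8R.card5 {a b c d : G} (h : D8R a b c d) (e : (c * d) ^ 5 = 1) :
    Nat.card (closure {a, b, c, d} : Subgroup G) ≤ 1080 :=
  card_le_of_covers (d8c5_cov _ ⊥ h.inv (by
    simpa [d8c5_rels, ev4, h.ab, h.bc, h.ac, h.ad, h.bd, h.abc, h.bad, pow_succ, mul_assoc] using e)
    (by simp [d8c5_subs])) (le_gensub4 a b c d)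

theorem equiv_of_D8R [Finite G] [IsSimpleGroup G] {T : Type*} [Group T] [Finite T] {a b c d : G}
    {a' b' c' d' : T} (hg : closure {a, b, c, d} = ⊤) (h2 : (a' * b') ^ 2 ≠ 1) (h4 : D8R a' b' c' d')
    (h : Nat.card (closure {(a, a'), (b, b'), (c, c'), (d, d')} : Subgroup (G × T)) < Nat.card G * 4)
    (hT : Nat.card T ≤ Nat.card G) : Nonempty (G ≃* T) := by
  refine equiv_of_graph _ (by simpa [MonoidHom.map_closure, Set.image_insert_eq] using hg)
    (h.trans_le (Nat.mul_le_mul_left _ (Nat.le_of_dvd Nat.card_pos ?_))) hT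
  have : orderOf (a' * b') = 2 ^ (1 + 1) :=
    orderOf_eq_prime_pow (by simpa using h2) (by simpa [pow_succ, mul_assoc] using h4.ab)
  refine (show orderOf (a' * b') = 4 from this) ▸ orderOf_dvd_natCard _ (mul_mem ?_ ?_)
  · exact ⟨(a, a'), subset_closure (by simp), rfl⟩
  · exact ⟨(b, b'), subset_closure (by simp), rfl⟩

abbrev SL32 := Matrix.SpecialLinearGroup (Fin 3) (ZMod 2)

def sl32a : SL32 := ⟨!![0, 0, 1; 0, 1, 0; 1, 0, 0], by decide⟩
def sl32b : SL32 := ⟨!![0, 1, 0; 1, 0, 0; 1, 1, 1], by decide⟩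
def sl32c : SL32 := ⟨!![0, 1, 1; 0, 1, 0; 1, 1, 0], by decide⟩
def sl32d : SL32 := ⟨!![1, 0, 0; 0, 1, 0; 1, 1, 1], by decide⟩
def sl32e : SL32 := ⟨!![0, 1, 0; 1, 0, 0; 0, 0, 1], by decide⟩

theorem sl32_d : D8R sl32a sl32b sl32c sl32d := by constructor <;> decide +kernel
theorem sl32_e : D8R sl32a sl32b sl32c sl32e := by constructor <;> decide +kernel
theorem sl32_2 : (sl32a * sl32b) ^ 2 ≠ 1 := by decide +kernel
theorem sl32_3 : (sl32c * sl32d) ^ 3 = 1 := by decide +kernel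
theorem sl32_4 : (sl32c * sl32e) ^ 4 = 1 := by decide +kernel

theorem card_SL32 : Nat.card SL32 = 168 := by
  have := CfH3.card_SL_mul (n := Fin 3) (F := ZMod 2)
  rw [Matrix.card_GL_field] at this
  simpa [Fin.prod_univ_succ] using this

open Equiv in
def a6a : alternatingGroup (Fin 6) := ⟨swap 2 3 * swap 4 5, Perm.mem_alternatingGroup.2 (by decide)⟩
open Equiv in
def a6b : alternatingGroup (Fin 6) := ⟨swap 0 1 * swap 3 4, Perm.mem_alternatingGroup.2 (by decide)⟩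
open Equiv in
def a6c : alternatingGroup (Fin 6) := ⟨swap 0 1 * swap 4 5, Perm.mem_alternatingGroup.2 (by decide)⟩
open Equiv in
def a6d : alternatingGroup (Fin 6) := ⟨swap 0 3 * swap 1 4, Perm.mem_alternatingGroup.2 (by decide)⟩

theorem a6_d : D8R a6a a6b a6c a6d := by constructor <;> decide +kernel
theorem a6_2 : (a6a * a6b) ^ 2 ≠ 1 := by decide +kernel
theorem a6_5 : (a6c * a6d) ^ 5 = 1 := by decide +kernel

theorem orderOf_pow_div [Finite G] {x : G} {p : ℕ} (h : p ∣ orderOf x) :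
    orderOf (x ^ (orderOf x / p)) = p := orderOf_pow_orderOf_div (orderOf_pos x).ne' h

theorem dvd_card_Nm [Finite G] {c y : G} (hc : c * c = 1) (h1 : c ≠ 1) (e : c * y * c⁻¹ = y⁻¹) {x : G}
    (hx : x * y = y * x) (ho : Odd (orderOf x)) : 2 * orderOf x ∣ Nat.card Nm(zpowers y) := by
  refine Nat.Coprime.mul_dvd_of_dvd_of_dvd (by simpa using ho) ?_
    (orderOf_dvd_natCard _ (Cz_le_Nm _ (by rw [Cz_zpowers]; exact mem_Cx.2 hx)))
  rw [← orderOf_eq_prime (x := c) (p := 2) (by rw [sq]; exact hc) h1]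
  exact orderOf_dvd_natCard _ (by rw [mem_normalizer_iff_cj, cj_zpowers, e, zpowers_inv])

theorem index_Nm_ne_one [Finite G] [IsSimpleGroup G] {P : Subgroup G} (h1 : Nat.card P ≠ 1)
    (h2 : Nat.card P ≠ Nat.card G) : (Nm(P)).index ≠ 1 := fun h => by
  rcases (normalizer_eq_top_iff.1 (index_eq_one.1 h)).eq_bot_or_eq_top with rfl | rfl
  · exact h1 card_bot
  · exact h2 card_top

theorem index_Nm_zpowers [Finite G] {p k : ℕ} [hp : Fact p.Prime] {y : G} (hy : orderOf y = p ^ k)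
    (h : ¬ p ^ (k + 1) ∣ Nat.card G) : (Nm(zpowers y)).index % p = 1 % p := by
  refine index_Nm_modEq (sylIn_top_iff.2 ⟨IsPGroup.of_card (by rw [Nat.card_zpowers, hy]), fun h1 => h ?_⟩)
  rw [← (zpowers y).card_mul_index, Nat.card_zpowers, hy, pow_succ]
  exact Nat.mul_dvd_mul_left _ h1

namespace CM

variable [Finite G] {φ : D4 →* G} (h : CM φ (r 2))
include h

local notation "z" => φ (r 2)
local notation "a" => φ (sr 0)
local notation "b" => φ (sr 1)

theorem d8_simple (ha : IsConj z a) (hb : IsConj z b) : IsSimpleGroup G := by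
  have : Nontrivial G := ⟨⟨_, _, h.d8_ne1 (u := r 2)⟩⟩
  refine ⟨fun N hN => or_iff_not_imp_left.2 fun h1 => ?_⟩
  have h2 : ∀ t, IsConj z t → t ∈ N := fun t ht => by
    obtain ⟨g, rfl⟩ := isConj_iff.1 ht
    exact hN.conj_mem _ (h.d8_normal ha N h1) g
  have h3 : Cx(z) ≤ N := fun g hg => by
    obtain ⟨w, rfl⟩ := h.cent g (mem_Cx.1 hg)
    have : ∀ w : D4, ∃ i j : Fin 4, w = (sr 0 * sr 1) ^ i.1 * sr 0 ^ j.1 := by decide
    obtain ⟨i, j, rfl⟩ := this w
    simp only [map_mul, map_pow]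
    exact mul_mem (pow_mem (mul_mem (h2 _ ha) (h2 _ hb)) _) (pow_mem (h2 _ ha) _)
  refine eq_top_iff.2 fun g _ => ?_
  obtain ⟨n, hn, x, hx, rfl⟩ := (h.d8_syl.mono h3 le_top).frattini (mem_Nm_of_normal g N)
  exact mul_mem hn (h3 (h.d8_Nm hx))

theorem d8_order (ha : IsConj z a) (hb : IsConj z b) : Nat.card G = 168 ∨ Nat.card G = 360 := by
  have := h.d8_simple ha hb
  refine CfH5.card_eq_168_or_360 ((Normal.eq_bot_or_eq_top inferInstance).resolve_left fun e => ?_)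
    (orderOf_eq_prime (by rw [sq]; exact d8_sq) h.d8_ne1) h.equiv.some
  have h1 := e.le (commutator_mem_commutator (mem_top a) (mem_top b))
  rw [← map_commutatorElement, mem_bot] at h1
  exact h.d8_ne1 (by decide) h1

theorem d8_R (ha : IsConj z a) (hb : IsConj z b) : ∃ c d, D8R a b c d ∧
    b * c * z * (b * c)⁻¹ = a ∧ a * d * z * (a * d)⁻¹ = b := by
  have key : ∀ {ψ : D4 →* G}, CM ψ (r 2) → IsConj (ψ (r 2)) (ψ (sr 0)) → ∃ c, c * c = 1 ∧
      ψ (sr 1) * (c * (ψ (sr 1) * (c * (ψ (sr 1) * c)))) = 1 ∧ ψ (sr 0) * (c * (ψ (sr 0) * c)) = 1 ∧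
      ψ (sr 0) * (ψ (sr 1) * (c * (ψ (sr 0) * (ψ (sr 1) * (c * (ψ (sr 0) * (ψ (sr 1) * c))))))) = 1 ∧
      ψ (sr 1) * c * ψ (r 2) * (ψ (sr 1) * c)⁻¹ = ψ (sr 0) := fun {ψ} h ha => by
    obtain ⟨c, c2, ca, e1, e2⟩ := h.d8_exists ha
    refine ⟨c, c2, by simpa [mul_assoc] using h.d8_cube e1 e2, ?_, ?_, e1⟩
    · rw [← mul_assoc c, ca, mul_assoc, c2, mul_one, d8_sq]
    · simp only [← mul_assoc]
      have := h.d8_cube (x := ψ (sr 0) * (ψ (sr 1) * c)) ?_ ?_
      · simpa [mul_assoc] using this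
      · calc _ = ψ (sr 0) * (ψ (sr 1) * c * ψ (r 2) * (ψ (sr 1) * c)⁻¹) * (ψ (sr 0))⁻¹ := by group
          _ = _ := by rw [e1]; group
      · calc _ = ψ (sr 0) * (ψ (sr 1) * c * ψ (sr 0) * (ψ (sr 1) * c)⁻¹) * (ψ (sr 0))⁻¹ := by group
          _ = _ := by rw [e2]; simp only [← map_mul, ← map_inv]; congr 1
  obtain ⟨c, c1, c2, c3, c4, c5⟩ := key h ha
  obtain ⟨d, d1, d2, d3, d4, d5⟩ := key h.d8_swap hb
  exact ⟨c, d, ⟨d8_sq, d8_sq, c1, d1, by simp only [← map_mul]; exact h.eq_one_iff.2 (by decide),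
    c2, c3, d2, d3, c4, d4⟩, c5, d5⟩

theorem d8_gen (ha : IsConj z a) (hb : IsConj z b) {c d : G} (e1 : b * c * z * (b * c)⁻¹ = a)
    (e2 : a * d * z * (a * d)⁻¹ = b) : Nat.card (closure {a, b, c, d} : Subgroup G) = 168 ∨
      Nat.card (closure {a, b, c, d} : Subgroup G) = 360 := by
  have m1 : a ∈ closure {a, b, c, d} := subset_closure (by simp)
  have m2 : b ∈ closure {a, b, c, d} := subset_closure (by simp)
  have m3 : c ∈ closure {a, b, c, d} := subset_closure (by simp)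
  have m4 : d ∈ closure {a, b, c, d} := subset_closure (by simp)
  refine (h.restrict _ fun w => ?_).d8_order (isConj_iff.2 ⟨⟨_, mul_mem m2 m3⟩, Subtype.ext e1⟩)
    (isConj_iff.2 ⟨⟨_, mul_mem m1 m4⟩, Subtype.ext e2⟩)
  have : ∀ w : D4, ∃ i j : Fin 4, w = (sr 0 * sr 1) ^ i.1 * sr 0 ^ j.1 := by decide
  obtain ⟨i, j, rfl⟩ := this w
  simp only [map_mul, map_pow]
  exact mul_mem (pow_mem (mul_mem m1 m2) _) (pow_mem m1 _)

theorem d8_both (ha : IsConj z a) (hb : IsConj z b) :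
    Nonempty (G ≃* SL32) ∨ Nonempty (G ≃* alternatingGroup (Fin 6)) := by
  have := h.d8_simple ha hb
  obtain ⟨c, d, R, e1, e2⟩ := h.d8_R ha hb
  have hG := h.d8_order ha hb
  have hg : closure {a, b, c, d} = ⊤ := by
    have h1 := h.d8_gen ha hb e1 e2
    have h2 := card_subgroup_dvd_card (closure {a, b, c, d})
    refine eq_top_of_card_eq _ ?_
    rcases h1 with h1 | h1 <;> rcases hG with h3 | h3 <;> rw [h1, h3] at h2 <;> rw [h1, h3] <;> omega
  have p4 : ∀ {i g : G}, i * i = 1 → i ≠ 1 → g * i = i * g → g ^ 4 = 1 := fun hi h1 hg =>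
    h.pow_of_isConj ((h.d8_invol hi h1).elim id (Or.rec ha.trans hb.trans)) (by decide) hg
  have k4 : (c * d) ^ 4 = 1 → Nonempty (G ≃* SL32) := fun e =>
    equiv_of_D8R hg sl32_2 sl32_e (((R.prod sl32_e).card4 (Prod.ext e sl32_4)).trans_lt (by omega))
      (by rw [card_SL32]; omega)
  have k3 : (c * d) ^ 3 = 1 → Nonempty (G ≃* SL32) := fun e =>
    equiv_of_D8R hg sl32_2 sl32_d (((R.prod sl32_d).card3 (Prod.ext e sl32_3)).trans_lt (by omega))
      (by rw [card_SL32]; omega)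
  have cA : Nat.card (alternatingGroup (Fin 6)) = 360 := by
    have := two_mul_nat_card_alternatingGroup (α := Fin 6)
    simp [Nat.factorial, Fintype.card_perm] at this ⊢; omega
  rcases Nat.even_or_odd (orderOf (c * d)) with ho | ho
  · obtain ⟨w, hw, w2, w1⟩ := exists_invol_of_even ho
    obtain ⟨h1, h2⟩ := comm_of_mem_zpowers R.c2 R.d2 hw w2
    exact Or.inl (k4 (p4 w2 w1 (by rw [mul_assoc, h2, ← mul_assoc, h1, mul_assoc])))
  have c1 : c ≠ 1 := by
    rintro rfl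
    exact h.d8_ne1 (u := sr 1) (by decide) (by simpa [R.b2] using R.bc)
  have hd := orderOf_dvd_natCard (G := G) ⊤ (mem_top (c * d))
  rw [card_top] at hd
  set x := c * d
  have inv : ∀ n : ℕ, c * x ^ n * c⁻¹ = (x ^ n)⁻¹ := fun n =>
    (inv_conj_mul R.c2 R.d2 (npow_mem_zpowers _ n)).1
  have key : ∀ {p k : ℕ} [Fact p.Prime], p ^ k ∣ orderOf x → 0 < k → ¬ p ^ (k + 1) ∣ Nat.card G → p ^ k < 168 →
      ∃ P : Subgroup G, (Nm(P)).index % p = 1 ∧ (Nm(P)).index ≠ 1 ∧ 2 * orderOf x * (Nm(P)).index ∣ Nat.card G ∧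
        P = zpowers (x ^ (orderOf x / p ^ k)) := fun {p k} hp h1 h2 h3 h4 => by
    have h5 := orderOf_pow_div h1
    refine ⟨_, ?_, index_Nm_ne_one ?_ ?_, ?_, rfl⟩
    · rw [index_Nm_zpowers h5 h3, Nat.mod_eq_of_lt hp.out.one_lt]
    · rw [Nat.card_zpowers, h5]; exact (Nat.one_lt_pow h2.ne' hp.out.one_lt).ne'
    · rw [Nat.card_zpowers, h5]; omega
    · rw [← card_mul_index (Nm(zpowers (x ^ (orderOf x / p ^ k))))]
      exact Nat.mul_dvd_mul_right (dvd_card_Nm R.c2 c1 (inv _) (by group) ho) _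
  have hm : orderOf x ∣ 3 ∨ (orderOf x = 7 ∨ orderOf x = 21) ∧ Nat.card G = 168 ∨
      (orderOf x = 5 ∨ orderOf x = 9 ∨ orderOf x = 15 ∨ orderOf x = 45) ∧ Nat.card G = 360 := by
    generalize orderOf x = m at ho hd
    have h1 : m ∣ 21 ∨ m ∣ 45 := hG.imp (fun e => (Nat.Coprime.pow_right 3 ho.coprime_two_right).dvd_of_dvd_mul_left
      (by rwa [e] at hd)) fun e => (Nat.Coprime.pow_right 3 ho.coprime_two_right).dvd_of_dvd_mul_left (by rwa [e] at hd)
    have h2 : m ≤ 45 := h1.elim (fun e => (Nat.le_of_dvd (by norm_num) e).trans (by norm_num))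
      (Nat.le_of_dvd (by norm_num))
    rcases hG with hG | hG <;> rw [hG] at hd ⊢ <;> interval_cases m <;> omega
  haveI : Fact (Nat.Prime 5) := ⟨by norm_num⟩
  haveI : Fact (Nat.Prime 7) := ⟨by norm_num⟩
  rcases hm with hm | ⟨hm, hG⟩ | ⟨hm | hm | hm, hG⟩
  · exact Or.inl (k3 (orderOf_dvd_iff_pow_eq_one.1 hm))
  · obtain ⟨P, h1, h2, h3, -⟩ := key (p := 7) (k := 1) (by omega) one_pos (by omega) (by norm_num)
    have h4 : (Nm(P)).index ∣ 12 := Nat.dvd_of_mul_dvd_mul_left (k := 14) (by norm_num)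
      ((Nat.mul_dvd_mul_right (show 14 ∣ 2 * orderOf x by omega) _).trans (by rwa [hG] at h3))
    have := Nat.le_of_dvd (by norm_num) h4
    interval_cases (Nm(P)).index <;> omega
  · exact Or.inr (equiv_of_D8R hg a6_2 a6_d (((R.prod a6_d).card5
      (Prod.ext (hm ▸ pow_orderOf_eq_one x) a6_5)).trans_lt (by omega)) (by omega))
  · obtain ⟨P, h1, h2, h3, hP⟩ := key (p := 3) (k := 2) (by omega) two_pos (by omega) (by norm_num)
    exfalso
    have h4 : (Nm(P)).index ∣ 20 := Nat.dvd_of_mul_dvd_mul_left (k := 18) (by norm_num)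
      ((Nat.mul_dvd_mul_right (show 18 ∣ 2 * orderOf x by omega) _).trans (by rwa [hG] at h3))
    have h5 := card_le_factorial_of_simple h2
    have h6 := (Nm(P)).card_mul_index
    have := Nat.le_of_dvd (by norm_num) h4
    have h7 : (Nm(P)).index = 10 := by
      interval_cases (Nm(P)).index <;> simp [Nat.factorial] at h5 <;> omega
    rw [hm] at hP
    obtain rfl : P = zpowers x := by simpa using hP
    have h8 := CfFT.relIndex_Cz_dvd_totient (X := zpowers x) (isCyclic_zpowers x) le_rfl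
    rw [Nat.card_zpowers, hm, Cz_zpowers] at h8
    have h9 := card_mul_relIndex (A := Cx(x)) (H := Nm(zpowers x)) (Cz_zpowers x ▸ Cz_le_Nm _)
    have h10 : 2 ∣ Nat.card Cx(x) := by
      have h11 := Nat.le_of_dvd (by decide) h8
      rw [show Nat.totient 9 = 6 by decide] at h8 h11
      rw [h7, hG] at h6
      interval_cases (Cx(x)).relIndex Nm(zpowers x) <;> omega
    obtain ⟨⟨i, hi'⟩, h11⟩ := exists_prime_orderOf_dvd_card' 2 h10
    rw [← orderOf_coe] at h11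
    have := orderOf_dvd_of_pow_eq_one (p4 (by rw [← sq, ← h11]; exact pow_orderOf_eq_one i)
      (ne_one_of_orderOf_eq_prime h11) (mem_Cx.1 hi').symm)
    rw [hm] at this
    omega
  · obtain ⟨P, h1, h2, h3, -⟩ := key (p := 5) (k := 1) (by omega) one_pos (by omega) (by norm_num)
    have h4 : (Nm(P)).index ∣ 12 := Nat.dvd_of_mul_dvd_mul_left (k := 30) (by norm_num)
      ((Nat.mul_dvd_mul_right (show 30 ∣ 2 * orderOf x by omega) _).trans (by rwa [hG] at h3))
    have := Nat.le_of_dvd (by norm_num) h4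
    have h7 : (Nm(P)).index = 6 := by interval_cases (Nm(P)).index <;> omega
    obtain ⟨f, hf⟩ := CfH3.exists_inj_perm _ (normalCore_eq_bot_of_simple h2) h7
    exact Or.inr (CfH3.equiv_alt_of_inj f hf (by rw [hG]; rfl))

end CM

theorem d8_main [Finite G] (z : G) (hz : orderOf z = 2) (e : Cx(z) ≃* D4) :
    Cx(z) ⊔ oddCore G = ⊤ ∨ Nonempty (G ≃* Equiv.Perm (Fin 4)) ∨ Nonempty (G ≃* Equiv.Perm (Fin 5)) ∨
      Nonempty (G ≃* SL32) ∨ Nonempty (G ≃* alternatingGroup (Fin 6)) := by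
  obtain ⟨φ, w, h, rfl⟩ := exists_CM e
  obtain rfl : w = r 2 := by
    have h1 : w ≠ 1 := by rintro rfl; simp at hz
    have := h.zc
    clear hz h e; revert w; decide
  by_cases ha : IsConj (φ (r 2)) (φ (sr 0)) <;> by_cases hb : IsConj (φ (r 2)) (φ (sr 1))
  · exact Or.inr (Or.inr (Or.inr (h.d8_both ha hb)))
  · exact Or.inr ((h.d8_one ha hb).imp_right Or.inl)
  · exact Or.inr ((h.d8_swap.d8_one hb ha).imp_right Or.inl)
  · exact Or.inl (Cx_sup_oddCore hz (h.d8_iso ha hb))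

end CfH4
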