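import Cfsg.Agent.OD.Pre

/-! Elementary calculus in extraspecial `2`-groups. -/

set_option autoImplicit false
open Cfsg
open scoped commutatorElement

namespace CfH4

universe u

variable {Q : Type u} [Group Q]

/-- `z` is a central involution generating the centre and containing all commutators. -/
structure ES2 (z : Q) : Prop where
  ne : z ≠ 1
  cent : ∀ x, z * x = x * z
  sq : z * z = 1
  comm : ∀ x y, x * y = y * x ∨ x * y = z * (y * x)
  center : ∀ x, (∀ y, x * y = y * x) → x = 1 ∨ x = z

theorem exists_es2 (h : IsExtraspecial 2 Q) : ∃ z : Q, ES2 z := by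
  obtain ⟨⟨z, hz⟩, hz1, hu⟩ := (Nat.card_eq_two_iff' (1 : Subgroup.center Q)).1 h.2
  have hc : ∀ x ∈ Subgroup.center Q, x = 1 ∨ x = z := fun x hx => by
    by_cases h1 : x = 1
    · exact Or.inl h1
    · exact Or.inr (congrArg Subtype.val (hu ⟨x, hx⟩ fun h => h1 (congrArg Subtype.val h)))
  have hne : z ≠ 1 := fun h => hz1 (Subtype.ext h)
  refine ⟨z, hne, fun x => (Subgroup.mem_center_iff.1 hz x).symm, ?_, fun x y => ?_, fun x hx =>
    hc x (Subgroup.mem_center_iff.2 fun y => (hx y).symm)⟩
  · rcases hc _ (mul_mem hz hz) with h1 | h1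
    · exact h1
    · exact absurd (mul_eq_left.1 h1) hne
  · have : ⁅x, y⁆ ∈ Subgroup.center Q := h.1.2.2 ▸
      Subgroup.commutator_mem_commutator (Subgroup.mem_top x) (Subgroup.mem_top y)
    rcases hc _ this with h1 | h1
    · exact Or.inl (commutatorElement_eq_one_iff_mul_comm.1 h1)
    · right
      rw [← h1, commutatorElement_def]; group

open Classical in
/-- The commutator sign. -/
noncomputable def csgn (x y : Q) : ℤ := if x * y = y * x then 1 else -1

open Classical in
/-- The square sign. -/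
noncomputable def ssgn (x : Q) : ℤ := if x * x = 1 then 1 else -1

theorem csgn_comm (x y : Q) : csgn x y = csgn y x := by
  classical
  unfold csgn
  exact if_congr eq_comm rfl rfl

theorem csgn_of_comm {x y : Q} (h : x * y = y * x) : csgn x y = 1 := if_pos h

theorem csgn_of_not_comm {x y : Q} (h : x * y ≠ y * x) : csgn x y = -1 := if_neg h

theorem csgn_eq_one_iff {x y : Q} : csgn x y = 1 ↔ x * y = y * x :=
  ⟨fun h => by
    by_contra hc
    rw [csgn_of_not_comm hc] at h
    exact absurd h (by decide), csgn_of_comm⟩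

namespace ES2

variable {z : Q} (h : ES2 z)
include h

theorem mem_center_iff {x : Q} : x ∈ Subgroup.center Q ↔ x = 1 ∨ x = z := by
  constructor
  · exact fun hx => h.center x fun y => (Subgroup.mem_center_iff.1 hx y).symm
  · rintro (rfl | rfl)
    · exact one_mem _
    · exact Subgroup.mem_center_iff.2 fun y => (h.cent y).symm

theorem z_mem_center : z ∈ Subgroup.center Q := h.mem_center_iff.2 (Or.inr rfl)

theorem left_comm (x y : Q) : x * (z * y) = z * (x * y) := by
  rw [← mul_assoc, ← h.cent, mul_assoc]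

theorem z_mul_z_mul (x : Q) : z * (z * x) = x := by rw [← mul_assoc, h.sq, one_mul]

theorem z_mul_ne (x : Q) : z * x ≠ x := fun h1 => h.ne (mul_eq_right.1 h1)

theorem anti {x y : Q} (hxy : x * y ≠ y * x) : x * y = z * (y * x) := (h.comm x y).resolve_left hxy

theorem comm_mul_of_anti {a x y : Q} (hx : x * a ≠ a * x) (hy : y * a ≠ a * y) :
    x * y * a = a * (x * y) := by
  rw [mul_assoc, h.anti hy, h.left_comm, ← mul_assoc x, h.anti hx, mul_assoc z, h.z_mul_z_mul,
    mul_assoc]

theorem csgn_mul_left (x y a : Q) : csgn (x * y) a = csgn x a * csgn y a := by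
  by_cases hx : x * a = a * x <;> by_cases hy : y * a = a * y
  · rw [csgn_of_comm hx, csgn_of_comm hy, csgn_of_comm]
    · rfl
    · rw [mul_assoc, hy, ← mul_assoc, hx, mul_assoc]
  · rw [csgn_of_comm hx, csgn_of_not_comm hy, csgn_of_not_comm]
    · rfl
    · rw [mul_assoc, ← mul_assoc a, ← hx, mul_assoc]
      exact fun h1 => hy (mul_left_cancel h1)
  · rw [csgn_of_comm hy, csgn_of_not_comm hx, csgn_of_not_comm]
    · rfl
    · rw [mul_assoc, hy, ← mul_assoc, ← mul_assoc]
      exact fun h1 => hx (mul_right_cancel h1)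
  · rw [csgn_of_not_comm hy, csgn_of_not_comm hx, csgn_of_comm (h.comm_mul_of_anti hx hy)]
    rfl

theorem csgn_mul_right (a x y : Q) : csgn a (x * y) = csgn a x * csgn a y := by
  rw [csgn_comm, h.csgn_mul_left, csgn_comm x, csgn_comm y]

theorem sq_eq (x : Q) : x * x = 1 ∨ x * x = z := by
  refine h.center _ fun y => csgn_eq_one_iff.1 ?_
  rw [h.csgn_mul_left]
  unfold csgn
  split_ifs <;> rfl

theorem ssgn_mul (x y : Q) : ssgn (x * y) = ssgn x * ssgn y * csgn x y := by
  have hz := h.ne
  by_cases hxy : x * y = y * x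
  · have h1 : x * y * (x * y) = (x * x) * (y * y) := by
      rw [mul_assoc, ← mul_assoc y, ← hxy]; group
    rw [csgn_of_comm hxy]
    unfold ssgn
    rw [h1]
    rcases h.sq_eq x with h2 | h2 <;> rcases h.sq_eq y with h3 | h3 <;> simp [h2, h3, hz, h.sq]
  · have h1 : x * y * (x * y) = z * ((x * x) * (y * y)) := by
      rw [mul_assoc, ← mul_assoc y, h.anti (Ne.symm hxy), mul_assoc z, h.left_comm]; group
    rw [csgn_of_not_comm hxy]
    unfold ssgn
    rw [h1]
    rcases h.sq_eq x with h2 | h2 <;> rcases h.sq_eq y with h3 | h3 <;> simp [h2, h3, hz, h.sq]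

theorem orderOf_eq_four_iff {x : Q} : orderOf x = 4 ↔ x * x ≠ 1 := by
  constructor
  · intro h1 h2
    have := orderOf_dvd_of_pow_eq_one (x := x) (n := 2) (by rw [pow_two, h2])
    rw [h1] at this
    exact absurd this (by decide)
  · intro h1
    have := Fact.mk Nat.prime_two
    refine orderOf_eq_prime_pow (p := 2) (n := 1) (by rwa [pow_one, pow_two]) ?_
    rw [show 2 ^ (1 + 1) = 2 * 2 from rfl, pow_mul, pow_two x, (h.sq_eq x).resolve_left h1,
      pow_two, h.sq]

open Classical in
theorem sum_csgn (A : Subgroup Q) [Fintype A] (x : Q) :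
    ∑ a : A, csgn x a = if x ∈ Subgroup.centralizer (A : Set Q) then (Nat.card A : ℤ) else 0 := by
  split_ifs with hx
  · rw [Finset.sum_congr rfl fun (a : A) _ => csgn_of_comm (hx a a.2).symm]
    simp
  · rw [Subgroup.mem_centralizer_iff] at hx
    push Not at hx
    obtain ⟨b, hb, hbx⟩ := hx
    have h1 : ∑ a : A, csgn x a = ∑ a : A, csgn x ((⟨b, hb⟩ * a : A) : Q) :=
      (Equiv.sum_comp (Equiv.mulLeft (⟨b, hb⟩ : A)) (fun a : A => csgn x a)).symm
    simp only [Subgroup.coe_mul, h.csgn_mul_right, csgn_of_not_comm hbx.symm, neg_mul, one_mul,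
      Finset.sum_neg_distrib] at h1
    linarith

theorem card_centralizer_mul [Finite Q] (A : Subgroup Q) :
    Nat.card (Subgroup.centralizer (A : Set Q)) * Nat.card A =
      Nat.card Q * Nat.card (A ⊓ Subgroup.center Q : Subgroup Q) := by
  classical
  have := Fintype.ofFinite Q
  have h1 : ∑ x : Q, ∑ a : A, csgn x a =
      (Nat.card (Subgroup.centralizer (A : Set Q)) : ℤ) * Nat.card A := by
    simp only [h.sum_csgn, Finset.sum_ite, Finset.sum_const, smul_zero, add_zero, nsmul_eq_mul]
    rw [Nat.card_eq_fintype_card (α := Subgroup.centralizer (A : Set Q)), Fintype.card_subtype]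
  have h2 : ∀ a : Q, ∑ x : Q, csgn x a =
      if a ∈ Subgroup.center Q then (Nat.card Q : ℤ) else 0 := fun a => by
    have := h.sum_csgn ⊤ a
    rw [Subgroup.coe_top, Subgroup.centralizer_univ, Subgroup.card_top] at this
    refine Eq.trans ?_ (this.trans (by congr))
    exact (Fintype.sum_equiv Subgroup.topEquiv.toEquiv _ _ fun x => csgn_comm _ _).symm
  rw [Finset.sum_comm] at h1
  simp only [h2, Finset.sum_ite, Finset.sum_const, smul_zero, add_zero, nsmul_eq_mul] at h1
  have h3 : (Finset.univ.filter fun a : A => (a : Q) ∈ Subgroup.center Q).card =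
      Nat.card (A ⊓ Subgroup.center Q : Subgroup Q) := by
    rw [← Fintype.card_subtype, ← Nat.card_eq_fintype_card]
    exact Nat.card_congr ⟨fun a => ⟨a.1, a.1.2, a.2⟩, fun a => ⟨⟨a, a.2.1⟩, a.2.2⟩,
      fun _ => rfl, fun _ => rfl⟩
  rw [h3] at h1
  rw [mul_comm (Nat.card Q)]
  exact_mod_cast h1.symm

theorem card_center : Nat.card (Subgroup.center Q) = 2 := by
  rw [Nat.card_eq_two_iff' (1 : Subgroup.center Q)]
  refine ⟨⟨z, h.z_mem_center⟩, fun h1 => h.ne (congrArg Subtype.val h1), fun y hy => ?_⟩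
  exact Subtype.ext ((h.mem_center_iff.1 y.2).resolve_left fun h1 => hy (Subtype.ext h1))

theorem centralizer_eq [Finite Q] {m : ℕ} (hcard : Nat.card Q = 2 ^ (2 * m + 1)) {A : Subgroup Q}
    (hA : IsMulCommutative A) (hAc : Nat.card A = 2 ^ (m + 1)) :
    Subgroup.centralizer (A : Set Q) = A := by
  have h1 := h.card_centralizer_mul A
  have h2 : Nat.card (A ⊓ Subgroup.center Q : Subgroup Q) ≤ 2 :=
    h.card_center ▸ Subgroup.card_le_of_le inf_le_right
  refine (Subgroup.eq_of_le_of_card_ge (Subgroup.le_centralizer A) ?_).symm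
  rw [hcard, hAc] at h1
  rw [hAc]
  refine Nat.le_of_mul_le_mul_right ?_ (pow_pos two_pos (m + 1))
  rw [h1]
  calc _ ≤ 2 ^ (2 * m + 1) * 2 := Nat.mul_le_mul_left _ h2
    _ = _ := by ring

theorem card_order_four [Finite Q] {m : ℕ} (hcard : Nat.card Q = 2 ^ (2 * m + 1))
    {A : Subgroup Q} (hA : IsElementaryAbelian 2 A) (hAc : Nat.card A = 2 ^ (m + 1)) :
    Nat.card {x : Q // orderOf x = 4} = 2 ^ (2 * m) - 2 ^ m := by
  classical
  have := Fintype.ofFinite Q
  have hC := h.centralizer_eq hcard hA.1 hAc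
  have hs : ∀ a ∈ A, ssgn a = 1 := fun a ha => if_pos (by rw [← pow_two]; exact hA.2 a ha)
  have h1 : (Nat.card A : ℤ) * ∑ x : Q, ssgn x = ∑ x : Q, ssgn x * ∑ a : A, csgn x a := by
    simp only [Finset.mul_sum]
    rw [Finset.sum_comm (s := (Finset.univ : Finset Q)), ← Finset.mul_sum,
      Nat.card_eq_fintype_card, ← nsmul_eq_mul, ← Finset.card_univ, ← Finset.sum_const]
    refine Finset.sum_congr rfl fun a _ => ?_
    rw [← Fintype.sum_equiv (Equiv.mulRight (a : Q)) (fun x => ssgn (x * a)) _ fun _ => rfl]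
    simp only [h.ssgn_mul, hs a a.2, mul_one]
  simp only [h.sum_csgn, hC, mul_ite, mul_zero, Finset.sum_ite, Finset.sum_const_zero,
    add_zero] at h1
  rw [Finset.sum_congr rfl fun a (ha : a ∈ Finset.univ.filter (· ∈ A)) => by
    rw [hs a (Finset.mem_filter.1 ha).2, one_mul], Finset.sum_const, nsmul_eq_mul,
    ← Fintype.card_subtype, ← Nat.card_eq_fintype_card] at h1
  have h2 := mul_left_cancel₀ (by exact_mod_cast Nat.card_pos.ne') h1
  unfold ssgn at h2
  rw [Finset.sum_ite] at h2
  simp only [Finset.sum_const, nsmul_eq_mul, mul_one, mul_neg] at h2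
  have h3 := Finset.card_filter_add_card_filter_not (s := Finset.univ) (fun x : Q => x * x = 1)
  rw [Finset.card_univ, ← Nat.card_eq_fintype_card, hcard] at h3
  have h4 : Nat.card {x : Q // orderOf x = 4} =
      (Finset.univ.filter fun x : Q => ¬ x * x = 1).card := by
    simp only [h.orderOf_eq_four_iff]
    rw [Nat.card_eq_fintype_card, Fintype.card_subtype]
  rw [h4]
  rw [hAc] at h2
  have h5 : ((Finset.univ.filter fun x : Q => x * x = 1).card : ℤ) +
      (Finset.univ.filter fun x : Q => ¬ x * x = 1).card = 2 ^ (2 * m + 1) := by exact_mod_cast h3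
  apply Nat.eq_sub_of_add_eq
  have h6 : ((Finset.univ.filter fun x : Q => ¬ x * x = 1).card : ℤ) + 2 ^ m = 2 ^ (2 * m) := by
    push_cast at h2
    rw [pow_succ] at h2 h5
    linarith
  exact_mod_cast h6

open Classical in
/-- The transvection automorphism attached to an element of order four, as a homomorphism. -/
noncomputable def tauHom {a : Q} (ha : a * a = z) : Q →* Q :=
  MonoidHom.mk' (fun x => if x * a = a * x then x else a * x) fun x y => by
    by_cases hx : x * a = a * x <;> by_cases hy : y * a = a * y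
    · rw [if_pos hx, if_pos hy, if_pos]
      rw [mul_assoc, hy, ← mul_assoc, hx, mul_assoc]
    · rw [if_pos hx, if_neg hy, if_neg, ← mul_assoc, ← hx, mul_assoc]
      rw [mul_assoc, ← mul_assoc a, ← hx, mul_assoc]
      exact fun h1 => hy (mul_left_cancel h1)
    · rw [if_pos hy, if_neg hx, if_neg, mul_assoc]
      rw [mul_assoc, hy, ← mul_assoc, ← mul_assoc]
      exact fun h1 => hx (mul_right_cancel h1)
    · rw [if_neg hx, if_neg hy, if_pos (h.comm_mul_of_anti hx hy), mul_assoc, ← mul_assoc x a,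
        h.anti hx, mul_assoc z, h.left_comm, mul_assoc a, ← mul_assoc a, ha, h.z_mul_z_mul]

theorem tauHom_of_comm {a : Q} (ha : a * a = z) {x : Q} (hx : x * a = a * x) :
    h.tauHom ha x = x := if_pos hx

theorem tauHom_of_not_comm {a : Q} (ha : a * a = z) {x : Q} (hx : x * a ≠ a * x) :
    h.tauHom ha x = a * x := if_neg hx

theorem tauHom_tauHom {a : Q} (ha : a * a = z) (x : Q) :
    h.tauHom ha (h.tauHom ha x) = a * x * a⁻¹ := by
  by_cases hx : x * a = a * x
  · rw [h.tauHom_of_comm ha hx, h.tauHom_of_comm ha hx, ← hx, mul_inv_cancel_right]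
  · rw [h.tauHom_of_not_comm ha hx, map_mul, h.tauHom_of_comm ha rfl, h.tauHom_of_not_comm ha hx,
      ← mul_assoc, ha, h.anti (Ne.symm hx), mul_assoc, mul_inv_cancel_right]

/-- The transvection automorphism attached to an element of order four. -/
noncomputable def tau {a : Q} (ha : a * a = z) : MulAut Q :=
  MulEquiv.ofBijective (h.tauHom ha) (by
    have h1 : Function.Bijective (h.tauHom ha ∘ h.tauHom ha) := by
      have : h.tauHom ha ∘ h.tauHom ha = MulAut.conj a := funext (h.tauHom_tauHom ha)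
      rw [this]; exact (MulAut.conj a).bijective
    exact ⟨h1.1.of_comp, h1.2.of_comp⟩)

theorem tau_apply {a : Q} (ha : a * a = z) (x : Q) : h.tau ha x = h.tauHom ha x := rfl

theorem tau_mul_tau {a : Q} (ha : a * a = z) : h.tau ha * h.tau ha = MulAut.conj a :=
  MulEquiv.ext (h.tauHom_tauHom ha)

theorem tau_comm {a b : Q} (ha : a * a = z) (hb : b * b = z) (hab : a * b = b * a) :
    h.tau ha * h.tau hb = h.tau hb * h.tau ha := by
  ext x
  simp only [MulAut.mul_apply, tau_apply]
  by_cases hx : x * a = a * x <;> by_cases hy : x * b = b * x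
  · simp only [h.tauHom_of_comm ha hx, h.tauHom_of_comm hb hy]
  · simp only [h.tauHom_of_comm ha hx, h.tauHom_of_not_comm hb hy, map_mul,
      h.tauHom_of_comm ha hab.symm]
  · simp only [h.tauHom_of_not_comm ha hx, h.tauHom_of_comm hb hy, map_mul,
      h.tauHom_of_comm hb hab]
  · simp only [h.tauHom_of_not_comm ha hx, h.tauHom_of_not_comm hb hy, map_mul,
      h.tauHom_of_comm hb hab, h.tauHom_of_comm ha hab.symm]
    rw [← mul_assoc, ← hab, mul_assoc]

omit h in
theorem conj_eq_iff {c d : Q} : MulAut.conj c = MulAut.conj d ↔ d⁻¹ * c ∈ Subgroup.center Q := by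
  rw [Subgroup.mem_center_iff, MulEquiv.ext_iff]
  refine forall_congr' fun x => ?_
  simp only [MulAut.conj_apply]
  constructor
  · intro h1
    calc x * (d⁻¹ * c) = d⁻¹ * (d * x * d⁻¹) * c := by group
      _ = d⁻¹ * c * x := by rw [← h1]; group
  · intro h1
    calc c * x * c⁻¹ = d * (d⁻¹ * c * x) * c⁻¹ := by group
      _ = d * x * d⁻¹ := by rw [← h1]; group

omit h in
theorem aut_mul_conj (f : MulAut Q) (c : Q) : f * MulAut.conj c = MulAut.conj (f c) * f := by
  ext x; simp

theorem not_isComplement {y u v : Q} (hy : y * y = z) (hu : u * u = 1) (hv : v * v = 1)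
    (hyu : y * u = u * y) (hyv : y * v = v * y) (huv : u * v = v * u)
    (hu' : u ∉ Subgroup.center Q) (hv' : v ∉ Subgroup.center Q)
    (huv' : u * v ∉ Subgroup.center Q) (L : Subgroup (MulAut Q)) :
    ¬ (Inn Q).IsComplement' L := by
  intro hL
  have hlift : ∀ f : MulAut Q, ∃ c : Q, MulAut.conj c * f ∈ L := fun f => by
    obtain ⟨⟨⟨_, c, rfl⟩, l⟩, hl⟩ := hL.2 f
    refine ⟨c⁻¹, ?_⟩
    have : MulAut.conj c * (l : MulAut Q) = f := hl
    rw [← this, map_inv, inv_mul_cancel_left]
    exact l.2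
  have hdisj : ∀ c : Q, MulAut.conj c ∈ L → MulAut.conj c = 1 := fun c hc =>
    Subgroup.disjoint_def.1 hL.disjoint ⟨c, rfl⟩ hc
  have hcen : ∀ x : Q, x * x ∈ Subgroup.center Q := fun x => h.mem_center_iff.2 (h.sq_eq x)
  have hncen : ∀ a : Q, a * a = z → a ∉ Subgroup.center Q := fun a ha hc => by
    rcases h.mem_center_iff.1 hc with h1 | h1
    · rw [h1, one_mul] at ha; exact h.ne ha.symm
    · rw [h1, h.sq] at ha; exact h.ne ha.symm
  have key1 : ∀ (a : Q) (ha : a * a = z) (c : Q), MulAut.conj c * h.tau ha ∈ L →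
      c * a ≠ a * c := by
    intro a ha c hc hca
    have h1 := L.mul_mem hc hc
    rw [mul_assoc, ← mul_assoc (h.tau ha), aut_mul_conj, mul_assoc, h.tau_mul_tau, ← map_mul,
      ← map_mul, tau_apply, h.tauHom_of_comm ha hca, ← mul_assoc] at h1
    have h2 := hdisj _ h1
    rw [← map_one MulAut.conj, conj_eq_iff, inv_one, one_mul] at h2
    exact hncen a ha ((Subgroup.mul_mem_cancel_left _ (hcen c)).1 h2)
  have key2 : ∀ (a b : Q) (ha : a * a = z) (hb : b * b = z), a * b = b * a →
      a * b ∉ Subgroup.center Q → ∀ c : Q, MulAut.conj c * h.tau ha ∈ L → c * b = b * c := by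
    intro a b ha hb hab hab' c hc
    obtain ⟨d, hd⟩ := hlift (h.tau hb)
    have h1 := L.mul_mem (L.mul_mem hc hd) (L.inv_mem (L.mul_mem hd hc))
    rw [mul_assoc (MulAut.conj c), ← mul_assoc (h.tau ha), aut_mul_conj, mul_assoc (MulAut.conj d),
      ← mul_assoc (h.tau hb), aut_mul_conj, mul_assoc _ (h.tau hb), ← h.tau_comm ha hb hab,
      mul_assoc _ (h.tau ha), ← mul_assoc, ← mul_assoc (MulAut.conj d), ← map_mul, ← map_mul,
      mul_inv_rev, mul_assoc, mul_inv_cancel_left, ← map_inv, ← map_mul] at h1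
    have h2 := hdisj _ h1
    rw [← map_one MulAut.conj, conj_eq_iff, inv_one, one_mul, ← QuotientGroup.eq_one_iff] at h2
    have hq : ∀ x y : Q, (x : Q ⧸ Subgroup.center Q) * y = y * x := fun x y => by
      rw [← QuotientGroup.mk_mul, ← QuotientGroup.mk_mul]
      rcases h.comm x y with h3 | h3
      · rw [h3]
      · rw [h3, QuotientGroup.mk_mul, (QuotientGroup.eq_one_iff z).2 h.z_mem_center, one_mul]
    by_contra hcb
    rw [tau_apply, tau_apply, h.tauHom_of_not_comm hb hcb, QuotientGroup.mk_mul,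
      QuotientGroup.mk_inv, mul_inv_eq_one, QuotientGroup.mk_mul, QuotientGroup.mk_mul,
      QuotientGroup.mk_mul, hq c, ← mul_assoc, mul_left_inj, hq d] at h2
    by_cases hda : d * a = a * d
    · rw [h.tauHom_of_comm ha hda, eq_comm, mul_eq_right, QuotientGroup.eq_one_iff] at h2
      exact hncen b hb h2
    · rw [h.tauHom_of_not_comm ha hda, QuotientGroup.mk_mul, mul_left_inj] at h2
      apply hab'
      rw [← QuotientGroup.eq_one_iff, QuotientGroup.mk_mul, h2, ← QuotientGroup.mk_mul,
        QuotientGroup.eq_one_iff]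
      exact hcen b
  have cyu : Commute y u := hyu
  have cyv : Commute y v := hyv
  have cuv : Commute u v := huv
  have hsq : ∀ w : Q, Commute y w → w * w = 1 → y * w * (y * w) = z := fun w hw hw2 => by
    rw [mul_assoc, ← mul_assoc w, ← hw.eq, mul_assoc, hw2, mul_one, hy]
  have huv2 : u * v * (u * v) = 1 := by
    rw [mul_assoc, ← mul_assoc v, ← huv, mul_assoc, hv, mul_one, hu]
  have ha := hsq _ (cyu.mul_right cyv) huv2
  obtain ⟨c, hc⟩ := hlift (h.tau ha)
  have hz : ∀ w : Q, z * w ∈ Subgroup.center Q ↔ w ∈ Subgroup.center Q := fun w =>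
    Subgroup.mul_mem_cancel_left _ h.z_mem_center
  have c1 : Commute c y := key2 _ _ ha hy
    ((Commute.refl y).mul_left (cyu.symm.mul_left cyv.symm)) (by
      rw [mul_assoc, ← (cyu.mul_right cyv).eq, ← mul_assoc, hy, hz]; exact huv') c hc
  have c2 : Commute c (y * u) := key2 _ _ ha (hsq u cyu hu)
    (((Commute.refl y).mul_right cyu).mul_left ((cyu.symm.mul_right (Commute.refl u)).mul_left
      (cyv.symm.mul_right cuv.symm))) (by
      rw [mul_assoc, ← mul_assoc (u * v), ← (cyu.mul_right cyv).eq, ← mul_assoc, ← mul_assoc, hy,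
        mul_assoc, hz, huv, mul_assoc, hu, mul_one]; exact hv') c hc
  have c3 : Commute c (y * v) := key2 _ _ ha (hsq v cyv hv)
    (((Commute.refl y).mul_right cyv).mul_left ((cyu.symm.mul_right cuv).mul_left
      (cyv.symm.mul_right (Commute.refl v)))) (by
      rw [mul_assoc, ← mul_assoc (u * v), ← (cyu.mul_right cyv).eq, ← mul_assoc, ← mul_assoc, hy,
        mul_assoc, hz, mul_assoc, hv, mul_one]; exact hu') c hc
  have c4 : Commute c u := by simpa using c1.inv_right.mul_right c2
  have c5 : Commute c v := by simpa using c1.inv_right.mul_right c3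
  exact key1 _ ha c hc (c1.mul_right (c4.mul_right c5))

end ES2

end CfH4
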