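import Cfsg.Agent.OD.Pre
import Cfsg.Agent.L.TC2
import Cfsg.Agent.L.RM
/-! A table model of `GL₂(3)`. -/
set_option autoImplicit false
set_option maxRecDepth 100000
open CfL
namespace CfH4
noncomputable def g23c0 : ℕ := nat_lit 0xa6b863b9cbd961b5a2b24b524543ea98da272e539e2607c77556855c44c340230a206001
noncomputable def g23c1 : ℕ := nat_lit 0xb6cbee85a8dc7577e0a53ae49509e83ea30b9942968881de6c61596150d244e341240102
noncomputable def g23c2 : ℕ := nat_lit 0x9e67de6a2658bee5d54ea491b6c40e36ba6894a9098e181d19c6c811650c08f04b007143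
noncomputable def g23wd : ℕ := nat_lit 0xc48c87213210c48c8321320c48c4212310c84c432321048c842132104c4843212100c48c0212300c84c032320048c802132004c480321200c8c4012310084c402321004c84031210084840032300048c002130008c800132000c48002120008c400131000c840012100008c000130000c8000120000c40002100000c0000200000400000
noncomputable def g23iv : ℕ := nat_lit 0xbafae9b6ab259e6a2485c8d661b66279775f6a05542cf44d48e40c4ca1c52442060c2040
noncomputable def g23 : Tab where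
  N := nat_lit 48
  nc := nat_lit 3
  W := nat_lit 6
  mW := nat_lit 63
  cols := [g23c0, g23c1, g23c2]
  D := nat_lit 6
  WW := nat_lit 22
  mWW := nat_lit 4194303
  wd := g23wd
  iv := g23iv
def g23il : List ℕ := [0, 1, 2]
def g23rels : List (List ℕ) := [[0, 2, 0, 2, 0, 2], [0, 1, 0, 1, 0, 1, 0, 1], [2, 1, 2, 1, 2, 0, 1, 0]]
noncomputable def g23C_et : CfH6.Tr := (CfH6.Tr.n (CfH6.Tr.l (nat_lit 0x1ca98e919a17285d9c6e65f965e52291824128051e90753db54583958832be7ae9ab5fac7aada6a6aa59a8609d8665c956a4568d3624e852a0447d15e4074f9c3a6cd1a3564c582c5cb962954a94244c95221447101e3c64e193450c162c40a11243080e1c2060a14144060c04200040)) (CfH6.Tr.l (nat_lit 0x6dbca6f6cb8aee21b48ec61aeaa2)))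
noncomputable def g23C_ro : BT := (BT.n (BT.n (BT.n (BT.l [nat_lit 2, nat_lit 0, nat_lit 2, nat_lit 0, nat_lit 2, nat_lit 0]) (BT.l [nat_lit 0, nat_lit 2, nat_lit 1, nat_lit 2, nat_lit 1, nat_lit 2, nat_lit 0, nat_lit 1])) (BT.n (BT.l [nat_lit 1, nat_lit 2, nat_lit 1, nat_lit 2, nat_lit 0, nat_lit 1, nat_lit 0, nat_lit 2]) (BT.l [nat_lit 1, nat_lit 0, nat_lit 1, nat_lit 0, nat_lit 1, nat_lit 0, nat_lit 1, nat_lit 0]))) (BT.n (BT.n (BT.l [nat_lit 0, nat_lit 1, nat_lit 0, nat_lit 1, nat_lit 0, nat_lit 1, nat_lit 0, nat_lit 1]) (BT.l [nat_lit 0, nat_lit 1, nat_lit 0, nat_lit 2, nat_lit 1, nat_lit 2, nat_lit 1, nat_lit 2])) (BT.n (BT.l [nat_lit 1, nat_lit 2, nat_lit 0, nat_lit 1, nat_lit 0, nat_lit 2, nat_lit 1, nat_lit 2]) (BT.l [nat_lit 0, nat_lit 2, nat_lit 0, nat_lit 2, nat_lit 0, nat_lit 2]))))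
noncomputable def g23C_lv : CfH6.Tr := (CfH6.Tr.l (nat_lit 0xbeeb6caeaa689e69648e28607de75c6da6585d65544d24503ce34c2ca2481c61440c2040))
noncomputable def g23C_ft : CfH6.Tr := (CfH6.Tr.n (CfH6.Tr.n (CfH6.Tr.n (CfH6.Tr.n (CfH6.Tr.n (CfH6.Tr.n (CfH6.Tr.l (nat_lit 0x1030208001)) (CfH6.Tr.l (nat_lit 0xfd16d91a92))) (CfH6.Tr.l (nat_lit 0x19dd3a787c7))) (CfH6.Tr.n (CfH6.Tr.n (CfH6.Tr.l (nat_lit 0x17cc22483c3)) (CfH6.Tr.l (nat_lit 0x13d87871e99))) (CfH6.Tr.l (nat_lit 0x13a82f2d327)))) (CfH6.Tr.n (CfH6.Tr.n (CfH6.Tr.n (CfH6.Tr.l (nat_lit 0x50b070448a)) (CfH6.Tr.l (nat_lit 0x11d56c81ba2))) (CfH6.Tr.l (nat_lit 0x9c96359a5e))) (CfH6.Tr.n (CfH6.Tr.n (CfH6.Tr.l (nat_lit 0x178830645c5)) (CfH6.Tr.l (nat_lit 0x15de8bba123))) (CfH6.Tr.l (nat_lit 0xdce79a1fea))))) (CfH6.Tr.n (CfH6.Tr.n (CfH6.Tr.n (CfH6.Tr.n (CfH6.Tr.l (nat_lit 0x3070300286)) (CfH6.Tr.l (nat_lit 0x202a434dbe4)))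 (CfH6.Tr.l (nat_lit 0x10212321ae0))) (CfH6.Tr.n (CfH6.Tr.n (CfH6.Tr.l (nat_lit 0xa9628544c4)) (CfH6.Tr.l (nat_lit 0x20625369f9c))) (CfH6.Tr.l (nat_lit 0x152b52a8ccd)))) (CfH6.Tr.n (CfH6.Tr.n (CfH6.Tr.n (CfH6.Tr.l (nat_lit 0x70f1a382c2)) (CfH6.Tr.l (nat_lit 0x16ae4b5dd1b))) (CfH6.Tr.l (nat_lit 0xaca6251225))) (CfH6.Tr.n (CfH6.Tr.n (CfH6.Tr.l (nat_lit 0xd9c1b19855)) (CfH6.Tr.l (nat_lit 0x16e68ab222b))) (CfH6.Tr.l (nat_lit 0x15ac3b41a14)))))) (CfH6.Tr.n (CfH6.Tr.n (CfH6.Tr.n (CfH6.Tr.n (CfH6.Tr.n (CfH6.Tr.l (nat_lit 0x2050610040)) (CfH6.Tr.l (nat_lit 0x105283ae1ed))) (CfH6.Tr.l (nat_lit 0xfa0211cf1f))) (CfH6.Tr.n (CfH6.Tr.n (CfH6.Tr.l (nat_lit 0x994110c913)) (CfH6.Tr.l (nat_lit 0x14597c8e36f))) (CfH6.Tr.l (nat_lit 0x14293131ee8)))) (CfH6.Tr.n (CfH6.Tr.n (CfH6.Tr.n (CfH6.Tr.l (nat_lit 0x241183458c)) (CfH6.Tr.l (nat_lit 0x1c17727d256))) (CfH6.Tr.l (nat_lit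 0x11a4292980e))) (CfH6.Tr.n (CfH6.Tr.n (CfH6.Tr.l (nat_lit 0xd1b1914c9a)) (CfH6.Tr.l (nat_lit 0x165f8fbe1a1))) (CfH6.Tr.l (nat_lit 0x1990779ce4f))))) (CfH6.Tr.n (CfH6.Tr.n (CfH6.Tr.n (CfH6.Tr.n (CfH6.Tr.l (nat_lit 0x1401024388)) (CfH6.Tr.l (nat_lit 0x11537da616c))) (CfH6.Tr.l (nat_lit 0x11234288949))) (CfH6.Tr.n (CfH6.Tr.n (CfH6.Tr.l (nat_lit 0x5442e60b17)) (CfH6.Tr.l (nat_lit 0x155a828626e))) (CfH6.Tr.l (nat_lit 0xd4d643dd66)))) (CfH6.Tr.n (CfH6.Tr.n (CfH6.Tr.n (CfH6.Tr.l (nat_lit 0x3422044790)) (CfH6.Tr.l (nat_lit 0x172f7675358))) (CfH6.Tr.l (nat_lit 0x1c654a98b4b))) (CfH6.Tr.n (CfH6.Tr.n (CfH6.Tr.l (nat_lit 0x746656ce1d)) (CfH6.Tr.l (nat_lit 0x17678eb6329))) (CfH6.Tr.l (nat_lit 0x162d7394f51)))))))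
noncomputable def g23C : C2 := ⟨nat_lit 3, nat_lit 3, (nat_lit 0x3020100), nat_lit 6, (nat_lit 0x3f), nat_lit 14, (nat_lit 0x3fff), g23C_et, nat_lit 47, g23C_ro, nat_lit 4, (nat_lit 0xf), nat_lit 8, (nat_lit 0xff), nat_lit 48, g23C_lv, g23C_ft, nat_lit 14, (nat_lit 0x3fff), nat_lit 72⟩
def g23C_subs : List (List ℕ) := []
noncomputable def g23C_s0 : List ℕ := [(nat_lit 0x5c4c2e2d7073590735c4c4f7b510585a756539673b570735a75343355058583c3f6b410585669262545058543218175f23410736e4661377e05152321817317a7907250305f0e1125450744e2e14060917310764e4d77381c1b370734c2e2d4b7565390774a2c14060919350754863683a1e213d077482a12152d05146282b6326254307646611a0a0d213f0733e200c02050f230763a1e0c02051127075381c0a0d1f05134180800030b1d0742a12060005112707328120600030b1b072160800050f051)]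
theorem g23C_o0 : g23C.Ok 47 72 := g23C.ok_of g23C_s0 47 72 (by decide +kernel) (by decide +kernel)
theorem g23C_o : g23C.Ok 47 72 := g23C_o0
theorem g23C_D : g23C.chkD = true := by decide +kernel
theorem g23C_F : g23C.chkF = true := by decide +kernel
theorem g23C_S : g23C.side g23il g23rels g23C_subs [[0], [1], [2]] 0 = true := by decide +kernel
theorem g23C_cov {G : Type*} [Group G] (ev : ℕ → G) (H : Subgroup G)
    (hinv : ∀ x < 3, ev (g23il.getD x 0) = (ev x)⁻¹) (hr : ∀ r ∈ g23rels, CfH6.evw ev r = 1)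
    (hsub : ∀ s ∈ g23C_subs, CfH6.evw ev s ∈ H) : CfH6.Covers H (CfH6.gensub ev 3) 48 :=
  g23C.sound g23il g23rels g23C_subs _ 0 3 48 g23C_S g23C_D g23C_o g23C_F rfl rfl ev H hinv hr hsub
theorem g23_g : g23.Good g23il g23rels := ⟨by decide +kernel, by decide +kernel, by decide +kernel, by decide +kernel,
  CfH6.fin_top (CfH6.wp_top g23.nc g23il g23rels ▸ (g23C_cov (CfH6.wel g23.nc g23il g23rels) ⊥ (CfH6.wp_inv _ _ _) (CfH6.wp_rel _ _ _)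
    (by simp [g23C_subs])).card_le CfH6.bot_fin)⟩
end CfH4
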