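import Cfsg.Agent.H4.G3f
import Cfsg.Agent.H4.ClT
import Cfsg.Agent.H4.D8b
import Cfsg.Agent.OD.Helper4xc8bbdf3e29

/-! Groups of type `G₂(3)`: the case of a small Sylow `3`-subgroup does not occur. -/

set_option autoImplicit false
open Cfsg CfH4 CfH9 CfH5 CfH6 CfH7 CfL Subgroup
open scoped ComplexConjugate

namespace CfH4

theorem sum_fib {M : Type*} [Fintype M] {k : ℕ} (cl : M → Fin k) {sz : Fin k → ℕ} (h : ∀ i, {m | cl m = i}.ncard = sz i)
    (v : Fin k → ℂ) : ∑ m, v (cl m) = ∑ i, sz i * v i := by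
  classical
  rw [← Finset.sum_fiberwise (s := Finset.univ) (g := cl)]
  refine Finset.sum_congr rfl fun i _ => ?_
  rw [Finset.sum_congr rfl (g := fun _ => v i) fun m hm => by rw [(Finset.mem_filter.1 hm).2], Finset.sum_const,
    nsmul_eq_mul, ← h, ← Set.ncard_coe_finset]
  simp

theorem isChar_perm {M : Type*} [Group M] [Fintype M] (K : Subgroup M) (v : M → ℕ)
    (h : ∀ m, {x | x⁻¹ * m * x ∈ K}.ncard = {x | x ∈ K}.ncard * v m) : IsCharacter M fun m => v m := by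
  convert isCharacter_permChar K using 1
  ext m
  apply mul_left_cancel₀ (natCard_ne_zero K)
  rw [card_mul_indFun_one]
  exact_mod_cast (h _).symm

theorem CM.classMul_eq' {G M : Type*} [Group G] [Group M] {φ : M →* G} {z m : M} (h : CM φ z) (hz : z * z = 1)
    (hz1 : z ≠ 1) (hall : ∀ i : G, i * i = 1 → i ≠ 1 → IsConj (φ z) i) (hm : Spec φ m) :
    classMul (φ z) (φ z) (φ m) = {u : M | u * u = 1 ∧ u ≠ 1 ∧ u * m * (u * m) = 1 ∧ u * m ≠ 1}.ncard := by
  have z2 : φ z * φ z = 1 := by rw [← map_mul, hz, map_one]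
  have z1 : φ z ≠ 1 := fun e => hz1 (h.eq_one_iff.1 e)
  rw [classMul, ← Nat.card_coe_set_eq]
  congr 1
  refine (Nat.card_congr (Equiv.ofBijective (fun u => ⟨(φ u.1, φ (u.1 * m)),
    hall _ (by rw [← map_mul, u.2.1, map_one]) fun e => u.2.2.1 (h.eq_one_iff.1 e),
    hall _ (by rw [← map_mul, u.2.2.2.1, map_one]) fun e => u.2.2.2.2 (h.eq_one_iff.1 e),
    by rw [← map_mul, ← mul_assoc, u.2.1, one_mul]⟩) ⟨?_, ?_⟩)).symm
  · intro u v e
    exact Subtype.ext (h.inj (congrArg (fun p => p.1.1) e))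
  · rintro ⟨⟨u, v⟩, hu, hv, e⟩
    have u2 := sq_of_isConj hu z2
    have v2 := sq_of_isConj hv z2
    obtain ⟨u, rfl⟩ := hm u ⟨m⁻¹, by rw [map_inv, ← e, (inv_conj_mul u2 v2 (mem_zpowers _)).1]⟩
    have h2 : v = φ (u * m) := by rw [map_mul, ← e, ← mul_assoc, u2, one_mul]
    subst h2
    refine ⟨⟨u, h.inj (by simpa using u2), fun e => ne_one_of_isConj hu z1 (by rw [e, map_one]),
      h.inj (by simpa using v2), fun e => ne_one_of_isConj hv z1 (by rw [e, map_one])⟩, rfl⟩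

theorem dvd_index_Nm_mul_totient' {G : Type*} [Group G] [Finite G] {Z : Subgroup G} (hZ : IsCyclic Z) {n : ℕ}
    (ho : n.Coprime (Nat.card Cz(Z))) (hn : n ∣ Nat.card G) : n ∣ (Nm(Z)).index * (Nat.card Z).totient := by
  have h1 := CfFT.relIndex_Cz_dvd_totient (X := Z) hZ le_rfl
  rw [← (Nm(Z)).card_mul_index, ← card_mul_relIndex (Cz_le_Nm Z), mul_assoc] at hn
  exact (ho.dvd_of_dvd_mul_left hn).trans (by rw [mul_comm]; exact Nat.mul_dvd_mul_left _ h1)

namespace G3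

attribute [local instance 10000] TE.decAll TE.decEx

set_option synthInstance.maxSize 2000 in
set_option synthInstance.maxHeartbeats 200000 in
theorem arith {r n : ℕ} {y : ℤ} (hr : Odd r) (h3 : r % 3 = 1) (h7 : 7 ∣ r) (hn : 0 < n) (hy : 1 + y ^ 2 + (y + 1) ^ 2 ≤ 576)
    (h : r * (n - y) ^ 2 = 10368 * (n * (n + 1))) : r = 8911 ∨ r = 9835 ∨ r = 11935 := by
  have hy1 : -17 ≤ y := by nlinarith
  have hy2 : y ≤ 16 := by nlinarith
  obtain ⟨k, hk⟩ : (144 : ℤ) ∣ n - y := by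
    have h1 : (144 : ℤ) ^ 2 ∣ (n - y) ^ 2 * r := by
      obtain ⟨s, hs⟩ := Int.even_mul_succ_self n
      exact ⟨s, by linear_combination h + 10368 * hs⟩
    refine (Int.pow_dvd_pow_iff two_ne_zero).1 (IsCoprime.dvd_of_dvd_mul_right ?_ h1)
    rw [show (144 : ℤ) ^ 2 = (2 ^ 8 * 3 ^ 4 : ℕ) by norm_num, Nat.isCoprime_iff_coprime]
    exact (hr.coprime_two_left.pow_left 8).mul_left (((Nat.Prime.coprime_iff_not_dvd Nat.prime_three).2
      (by omega)).pow_left 4)
  have e : 2 * r * k ^ 2 = (144 * k + y) * (144 * k + y + 1) := by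
    rw [hk, show (n : ℤ) = 144 * k + y by omega] at h; exact mul_left_cancel₀ (a := 10368) (by norm_num) (by linear_combination h)
  have k0 : 0 < k := by
    by_contra h0
    obtain rfl : k = 0 := by omega
    rw [show y = n by omega] at e; nlinarith
  have kb : k < 273 := by
    by_cases h0 : y * (y + 1) = 0
    · have : k ∣ 144 * (2 * y + 1) := ⟨2 * r - 20736, mul_left_cancel₀ k0.ne' (by linear_combination -e - h0)⟩
      rcases mul_eq_zero.1 h0 with rfl | h0
      · have := Int.le_of_dvd (by norm_num) this; omega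
      · obtain rfl : y = -1 := by omega
        have := Int.le_of_dvd (by norm_num) (dvd_neg.2 this); omega
    · have := Int.le_of_dvd (by interval_cases y <;> omega)
        (show k ∣ y * (y + 1) from ⟨2 * r * k - 20736 * k - 144 * (2 * y + 1), by linear_combination -e⟩)
      nlinarith
  have key : ∀ k < 273, ∀ j < 34, 0 < k → 2 * k ^ 2 ∣ (144 * k + j - 17) * (144 * k + j - 16) →
      ((144 * k + j - 17) * (144 * k + j - 16) / (2 * k ^ 2)) % 42 = 7 →
      ((144 * k + j - 17) * (144 * k + j - 16) / (2 * k ^ 2)) ∈ [8911, 9835, 11935] := by decide +kernel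
  lift k to ℕ using k0.le
  obtain ⟨j, rfl⟩ : ∃ j : ℕ, y = j - 17 := ⟨(y + 17).toNat, by omega⟩
  have e' : (144 * k + j - 17) * (144 * k + j - 16) = 2 * k ^ 2 * r := by
    zify [show 17 ≤ 144 * k + j by omega, show 16 ≤ 144 * k + j by omega]; linear_combination -e
  have := key k (by omega) j (by omega) (by omega) ⟨r, e'⟩
  rw [e', Nat.mul_div_cancel_left _ (by have : 0 < k := by omega
                                        positivity)] at this
  simpa using this (by have := Nat.odd_iff.1 hr; omega)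

noncomputable def P0 : Subgroup M := bitSub g3p_g 0x183067 (by decide +kernel)
noncomputable instance : DecidablePred (· ∈ P0) := by unfold P0; infer_instance
noncomputable instance : Fintype M := Fintype.ofFinite M

def cl (m : M) : Fin 5 := Fin.ofNat 5 ((0x2492492492492492492492492492482482492492482482492492492492482482492492492482482cb2cb24924920920924c30c30924924924920920c30c30924924910c30c06186185821960864924924924910c30c0602218088596596492488618602cb2cb26022180884c30910c8643018088602216db32485821960866490c92130c24432190c05821960866490c92030110c04432485b6c945121148a45030110c04432485b6c18088602216db06490c04430110c92005b6c030110c0442db60192400a04228108c92006490032480192400a490000 >>> (3 * m.1)) % 8)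
def θ (m : M) : ℂ := (![0, 0, 3, 3, 3] : Fin 5 → ℕ) (cl m)

theorem cl_card : ∀ i, {m | cl m = i}.ncard = ![96, 288, 16, 48, 128] i := by simp only [TE.cnt_eq]; decide +kernel

theorem gen_θ : IsGeneralizedCharacter M θ := by
  obtain ⟨π, hπ, -⟩ := TE.exists_hom g3p_g (G := Equiv.Perm (Fin 3)) (evH 1 1 (finRotate 3) (finRotate 3) (Equiv.swap 0 1))
    (by decide +kernel) (by decide +kernel)
  have a := isChar_perm (alternatingGroup (Fin 3)) (fun m => if m ^ 3 = 1 then 2 else 0)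
    (by simp only [Equiv.Perm.mem_alternatingGroup, Set.ncard_eq_toFinset_card']; decide +kernel)
  have b := isChar_perm (MulAction.stabilizer (Equiv.Perm (Fin 3)) (0 : Fin 3)) (fun m => if m = 1 then 3 else
    if m ^ 3 = 1 then 0 else 1) (by simp only [Set.ncard_eq_toFinset_card']; decide +kernel)
  have e : ∀ m, ((![0, 0, 3, 3, 3] : Fin 5 → ℕ) (cl m) + if π m = 1 then 3 else if π m ^ 3 = 1 then 0 else 1) =
    (if π m ^ 3 = 1 then 2 else 0) + 1 := by simp only [hπ]; decide +kernel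
  have := ((a.comp π).isGen.sub (b.comp π).isGen).add isGen_one
  rwa [show (_ + _ : M → ℂ) = θ from funext fun m => by
    simp only [θ, Pi.add_apply, Pi.sub_apply]; rw [eq_comm, sub_add_eq_add_sub, eq_sub_iff_add_eq]; exact_mod_cast e m] at this

theorem θ_ne {m : M} (h : θ m ≠ 0) : 2 ≤ cl m := by
  unfold θ at h
  generalize cl m = i at *
  fin_cases i <;> simp_all

universe u
variable {G : Type u} [Group G] [Finite G] {φ : M →* G} {g : G} (h : Act φ g) (hb : Cx(φ X) ⊓ Cx(φ U) ≤ Cx(φ Z))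
include h hb

namespace Act

theorem nP : Nm(P0.map φ) ≤ Cx(φ Z) := fun s hs => by
  have c : ∀ a ∈ P0, s * φ Z * s⁻¹ ∈ Cx(φ a) := fun a ha => by
    obtain ⟨p, -, e⟩ := conj_mem_of_mem_normalizer' hs (mem_map_of_mem φ ha)
    have := mem_Cx.1 (h.cm.mem p)
    rw [e] at this
    rw [mem_Cx]
    calc _ = s * (φ Z * (s⁻¹ * φ a * s)) * s⁻¹ := by group
      _ = _ := by rw [← this]; group
  have c1 := c X (by decide +kernel)
  have c2 := c U (by decide +kernel)
  obtain ⟨m, hm⟩ := h.cm.cent _ (mem_Cx.1 (hb ⟨c1, c2⟩))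
  have i : IsConj (φ Z) (φ m) := isConj_iff.2 ⟨s, hm.symm⟩
  have : ∀ m : M, m * X = X * m → m * U = U * m → m * m = 1 → m ≠ 1 → m = Z := by decide +kernel
  rw [← hm, mem_Cx, ← map_mul, ← map_mul, h.cm.eq_iff] at c1 c2
  rw [mem_Cx', ← hm, this m c1 c2 (h.cm.inj (by simpa using sq_of_isConj i (sq1 φ)))
    fun e => ne_one_of_isConj i h.ne1 (by rw [e, map_one])]

theorem syl3 : SylIn 3 (P0.map φ) ⊤ := by
  have h1 := (sylIn_te (K := P0) (p := 3) (n := 2) (by decide +kernel) (by decide +kernel)).map φ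
  rw [← MonoidHom.range_eq_map, h.cm.range_eq] at h1
  exact h1.of_Nm_le le_top (inf_le_right.trans (h.nP hb))

theorem cent0 {p : M} (hp : p ∈ P0) (p1 : p ≠ 1) : Cx(φ p) ≤ Cx(φ Z) := by
  have f : ∀ p ∈ P0, p ≠ 1 → p ^ 3 = 1 ∧ T * p * T⁻¹ = p⁻¹ ∧ ∀ m, m * p = p * m → m * m = 1 → m ≠ 1 → m = Z := by
    decide +kernel
  refine (h.dich _ (mem_Cx.2 (mem_Cx.1 (h.cm.mem _)).symm) (h.nT (f p hp p1).2.1) fun m hm =>
    (f p hp p1).2.2 m (h.cm.inj (by simpa using mem_Cx.1 hm))).resolve_right fun ⟨y, hy, y1, y3, hz, _⟩ => ?_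
  have p3 : φ p ^ 3 = 1 := by rw [← map_pow, (f p hp p1).1, map_one]
  have pg : ∀ {x : G}, x ^ 3 = 1 → IsPGroup 3 (zpowers x) := fun e => IsPGroup.iff_card.2 <| by
    rw [Nat.card_zpowers]; exact ((Nat.dvd_prime_pow Nat.prime_three (m := 1)).1 (orderOf_dvd_of_pow_eq_one e)).imp
      fun _ => And.right
  obtain ⟨k, -, hk⟩ := (h.syl3 hb).exists_cj_le (Q := zpowers (φ p) ⊔ zpowers y) ((pg p3).to_sup_of_normal_left' (pg y3)
    (zpowers_le.2 (Cz_le_Nm _ (Cz_zpowers (φ p) ▸ hy)))) le_top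
  obtain ⟨a, ha, ea⟩ := hk (conj_mem_cj k (mem_sup_left (mem_zpowers _)))
  obtain ⟨b, hb', eb⟩ := hk (conj_mem_cj k (mem_sup_right (mem_zpowers _)))
  have s1 : k * φ Z * k⁻¹ * φ a * (k * φ Z * k⁻¹)⁻¹ = φ a := by
    rw [ea, conj_mul, conj_inv, conj_mul, ← mem_Cx.1 (h.cm.mem p), mul_inv_cancel_right]
  have s2 : k * φ Z * k⁻¹ * φ b * (k * φ Z * k⁻¹)⁻¹ = φ b⁻¹ := by
    rw [map_inv, eb, conj_mul, conj_inv, conj_mul, hz, conj_inv]
  have a1 : a ≠ 1 := by rintro rfl; exact h.ne1 p1 (by simpa using ea.symm)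
  have b1 : b ≠ 1 := by rintro rfl; exact y1 (by simpa using eb.symm)
  have : ∀ a ∈ P0, a ≠ 1 → ∀ b ∈ P0, b ≠ 1 → b ≠ b⁻¹ ∧ (∀ s, s * a * s⁻¹ = a → s * b * s⁻¹ ≠ b⁻¹) ∧
    (b = a ∨ b = a⁻¹ ∨ ∀ c ∈ P0, ∃ i < 3, ∃ j < 3, c = a ^ i * b ^ j) := by decide +kernel
  obtain ⟨f1, f2, rfl | rfl | f3⟩ := this a ha a1 b hb' b1
  · exact f1 (Cj.uniq h.cm.inj s1 s2)
  · exact f1 (Cj.uniq h.cm.inj (Cj.inv s1) s2)
  obtain ⟨s, hs⟩ := h.cm.cent _ (mem_Cx.1 (h.nP hb (mem_normalizer_of_conj_mem (g := k * φ Z * k⁻¹) (by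
    rintro _ ⟨c, hc, rfl⟩
    obtain ⟨i, -, j, -, rfl⟩ := f3 c hc
    exact ⟨_, mul_mem (pow_mem ha i) (pow_mem (inv_mem hb') j), (((Cj.pow s1 i).mul (Cj.pow s2 j))).symm⟩))))
  rw [← hs] at s1 s2
  exact f2 s ((Cj.inn _ _).uniq h.cm.inj s1) ((Cj.inn _ _).uniq h.cm.inj s2)

theorem cent3 {p : M} (hp : p ^ 3 = 1) (p1 : p ≠ 1) : Cx(φ p) ≤ Cx(φ Z) := fun x hx => by
  have : ∀ p : M, p ^ 3 = 1 → p ≠ 1 → ∃ c, c * p * c⁻¹ ∈ P0 ∧ c * p * c⁻¹ ≠ 1 := by decide +kernel
  obtain ⟨c, h1, h2⟩ := this p hp p1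
  have := h.cent0 hb h1 h2 (x := φ c * x * (φ c)⁻¹) (by
    rw [mem_Cx, map_mul, map_mul, map_inv, conj_mul, conj_mul, mem_Cx.1 hx])
  simpa [mul_assoc] using mul_mem (mul_mem (inv_mem (h.cm.mem c)) this) (h.cm.mem c)

theorem spec {m : M} (hm : m ^ 8 ≠ 1) : Spec φ m := fun k ⟨m', hk⟩ => by
  have f1 : ∀ m : M, (m ^ 8) ^ 3 = 1 := by decide +kernel
  have f2 : ∀ p : M, p ^ 3 = 1 → p ≠ 1 → ∀ w, w * p = p * w → w * w = 1 → w ≠ 1 → w = Z := by decide +kernel
  have e : Cj φ k (m ^ 8) (m' ^ 8) := Cj.pow hk.symm 8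
  have m1 : m' ^ 8 ≠ 1 := fun e' => ne_one_of_isConj e.isConj (h.ne1 hm) (by rw [e', map_one])
  have c : k * φ Z * k⁻¹ ∈ Cx(φ (m' ^ 8)) := by rw [mem_Cx, ← e, conj_mul, conj_mul, mem_Cx.1 (h.cm.mem _)]
  obtain ⟨w, hw⟩ := h.cm.cent _ (mem_Cx.1 (h.cent3 hb (f1 m') m1 c))
  have i : IsConj (φ Z) (φ w) := isConj_iff.2 ⟨k, hw.symm⟩
  rw [← hw, mem_Cx, ← map_mul, ← map_mul, h.cm.eq_iff] at c
  rw [h.cm.range_eq, mem_Cx', ← hw, f2 _ (f1 m') m1 w c (h.cm.inj (by simpa using sq_of_isConj i (sq1 φ)))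
    fun e => ne_one_of_isConj i h.ne1 (by rw [e, map_one])]

theorem index3 (h7 : 7 ∣ Nat.card G) :
    (Cx(φ Z)).index = 8911 ∨ (Cx(φ Z)).index = 9835 ∨ (Cx(φ Z)).index = 11935 := by
  classical
  have := Fintype.ofFinite G
  have hs : ∀ m, θ m ≠ 0 → Spec φ m := fun m hm => h.spec hb (by have := θ_ne hm; clear hm; revert m; decide +kernel)
  have g2 := isGen_indHom h.cm.inj gen_θ
  have key : ∀ (F : M → ℂ) (v : Fin 5 → ℕ) (n : ℕ), (∀ m, θ m ≠ 0 → F m = v (cl m)) →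
      3 * (16 * v 2 + 48 * v 3 + 128 * v 4) = 576 * n → classInner θ F = n := fun F v n h1 h2 => by
    apply mul_left_cancel₀ (natCard_ne_zero M)
    rw [card_mul_classInner, Finset.sum_congr rfl (g := fun m => θ m * (v (cl m) : ℂ))
      fun m _ => by by_cases e : θ m = 0 <;> [simp [e]; rw [h1 m e, map_natCast]]]
    refine (sum_fib cl cl_card fun i => (![0, 0, 3, 3, 3] : Fin 5 → ℕ) i * (v i : ℂ)).trans ?_
    rw [card_M]
    simp only [Fin.sum_univ_five, Matrix.cons_val]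
    exact_mod_cast (by omega)
  have i22 : classInner (indHom φ θ) (indHom φ θ) = (3 : ℕ) := by
    rw [classInner_indHom_spec h.cm.inj gen_θ.classFun hs]
    exact key _ ![0, 0, 3, 3, 3] 3 (fun _ _ => rfl) rfl
  have i21 : classInner (indHom φ θ) (fun _ => 1) = (1 : ℕ) := by
    rw [classInner_indHom_left h.cm.inj _ (isClassFunction_const 1)]
    exact key _ (fun _ => 1) 1 (fun _ _ => by simp) rfl
  have e5 := key (fun m => classMul (φ Z) (φ Z) (φ m)) ![0, 0, 36, 12, 18] 18 (fun m hm => by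
    rw [h.cm.classMul_eq' (by decide +kernel) (by decide +kernel) h.invol (hs m hm), TE.cnt_eq, Nat.cast_inj]
    have := θ_ne hm; clear hm; revert m; decide +kernel) rfl
  have v0 : ∀ g : G, g * g = 1 → indHom φ θ g = 0 := fun g hg => indHom_eq_zero h.cm.inj fun m hm => by
    have : ∀ m : M, 2 ≤ cl m → m * m ≠ 1 := by decide +kernel
    exact by_contra fun e => this m (θ_ne e) (h.cm.inj (by simpa using sq_of_isConj hm hg))
  have i1 : classInner (indHom φ θ - fun _ => 1) (fun _ => 1) = 0 := by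
    rw [classInner_sub_left, i21, classInner_one_one]; norm_num
  obtain ⟨χ, ψ, hχ, hψ, hne, he⟩ := genChar_norm_two_sub (g2.sub isGen_one) (by
    rw [classInner_sub_right, i1, classInner_sub_left, i22, ← g2.classInner_comm isGen_one, i21]
    norm_num) (by simp [v0])
  have i1' := i1
  rw [he, classInner_sub_left] at i1'
  have hχ1 : χ ≠ fun _ => 1 := by
    rintro rfl
    rw [classInner_one_one, hψ.classInner_of_ne hχ hne.symm] at i1'
    norm_num at i1'
  have hψ1 : ψ ≠ fun _ => 1 := by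
    rintro rfl
    rw [classInner_one_one, hχ.classInner_of_ne hψ hne] at i1'
    norm_num at i1'
  have he' : indHom φ θ = (fun _ => 1) + χ - ψ := by rw [add_sub_assoc, ← he]; simp
  obtain ⟨n, hn, hn'⟩ := hχ.exists_degree
  have z2' : φ Z ^ 2 = 1 := by rw [sq, sq1 φ]
  obtain ⟨y, hy⟩ := char_int_of_sq_eq_one hχ.isCharacter z2'
  have hψn : ψ 1 = n + 1 := by
    have := congrFun he' 1
    simp only [v0 1 (mul_one 1), Pi.sub_apply, Pi.add_apply, hn'] at this
    linear_combination this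
  have hψy : ψ (φ Z) = (y + 1 : ℤ) := by
    have := congrFun he' (φ Z)
    simp only [v0 _ (sq (φ Z) ▸ z2'), Pi.sub_apply, Pi.add_apply, hy] at this
    push_cast; linear_combination this
  have hsum := sum_indHom_classMul h.cm.inj θ (φ Z) (φ Z)
  rw [he', e5] at hsum
  simp only [Pi.sub_apply, Pi.add_apply, sub_mul, add_mul, Finset.sum_sub_distrib, Finset.sum_add_distrib,
    sum_mul_classMul _ _ hψ, sum_mul_classMul _ _ hχ, sum_mul_classMul _ _ isIrrCharacter_one, hn', hψn,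
    hy, hψy] at hsum
  rw [← (Cx(φ Z)).card_mul_index, h.card_H] at hsum h7
  have hr := h.odd_index
  have h3 : _ % 3 = 1 := index_modEq_of_Nm_le (h.syl3 hb) (h.nP hb)
  set r := (Cx(φ Z)).index
  have hb : 1 + (y : ℝ) ^ 2 + (y + 1) ^ 2 ≤ 576 := by
    have h1 := sum_irr_normSq (φ Z)
    rw [h.card_H] at h1
    have h2 := Finset.sum_le_univ_sum_of_nonneg (s := {⟨_, isIrrCharacter_one⟩, ⟨χ, hχ⟩, ⟨ψ, hψ⟩})
      (f := fun ξ : IrrCharacter G => ‖ξ.1 (φ Z)‖ ^ 2) fun _ => by positivity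
    rw [Finset.sum_insert (by simp [hχ1.symm, hψ1.symm]), Finset.sum_pair (by simp [hne]), h1] at h2
    simp only [hy, hψy, norm_one, Complex.norm_intCast, sq_abs] at h2
    push_cast at h2
    linarith
  have hr0 : (r : ℂ) ≠ 0 := by exact_mod_cast hr.pos.ne'
  have ha0 : (n : ℂ) ≠ 0 := by exact_mod_cast hn.ne'
  have ha1 : (n : ℂ) + 1 ≠ 0 := by exact_mod_cast Nat.succ_ne_zero n
  refine arith hr h3 (by omega) hn (by exact_mod_cast hb) ?_
  have : (r : ℂ) * (n - y) ^ 2 = 10368 * (n * (n + 1)) := by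
    push_cast at hsum
    field_simp at hsum
    linear_combination hsum
  exact_mod_cast this

theorem sylp {p : ℕ} [hp : Fact p.Prime] (h1 : p ∣ Nat.card G) (h2 : ¬ p ^ 2 ∣ Nat.card G) (h3 : ¬ p ∣ 24) :
    ∃ n, n % p = 1 % p ∧ 576 ∣ n * (p - 1) ∧ p * n ∣ Nat.card G := by
  obtain ⟨y, hy⟩ := exists_prime_orderOf_dvd_card' (G := G) p h1
  have c : ∀ q, q.Prime → q ∣ 576 → ¬ q ∣ Nat.card Cx(y) := fun q hq h4 h5 => by
    have := Fact.mk hq
    obtain ⟨⟨i, hi⟩, oi⟩ := exists_prime_orderOf_dvd_card' q h5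
    rw [← orderOf_coe] at oi
    refine h3 (hy ▸ orderOf_dvd_of_pow_eq_one ?_)
    rcases (Nat.Prime.dvd_mul hq (m := 2 ^ 6) (n := 3 ^ 2)).1 h4 with e | e
    · obtain rfl := (Nat.prime_dvd_prime_iff_eq hq Nat.prime_two).1 (hq.dvd_of_dvd_pow e)
      exact h.p24 (by rw [← sq, ← oi]; exact pow_orderOf_eq_one i) (ne_one_of_orderOf_eq_prime oi) (mem_Cx.1 hi).symm
    obtain rfl := (Nat.prime_dvd_prime_iff_eq hq Nat.prime_three).1 (hq.dvd_of_dvd_pow e)
    obtain ⟨k, -, a, ha, e⟩ := (h.syl3 hb).exists_conj_mem (mem_top i) (k := 1) (by rw [pow_one, ← oi]; exact pow_orderOf_eq_one i)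
    have := h.p24 (sq1 φ) h.ne1 (mem_Cx.1 (h.cent0 hb ha (by
      rintro rfl; exact ne_one_of_orderOf_eq_prime oi (by simpa using e.symm)) (x := k * y * k⁻¹)
      (by rw [mem_Cx, e, conj_mul, conj_mul, mem_Cx.1 hi])))
    simpa [conj_pow] using this
  refine ⟨_, index_Nm_zpowers (y := y) (k := 1) (by rw [hy, pow_one]) h2, ?_, ?_⟩
  · have := dvd_index_Nm_mul_totient' (isCyclic_zpowers y) (n := 576) (by
      rw [Cz_zpowers]; exact Nat.coprime_of_dvd c) (by rw [← (Cx(φ Z)).card_mul_index, h.card_H]; omega)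
    rwa [Nat.card_zpowers, hy, Nat.totient_prime hp.out] at this
  · rw [← (Nm(zpowers y)).card_mul_index]
    exact Nat.mul_dvd_mul_right (hy ▸ orderOf_dvd_natCard _ (le_normalizer (mem_zpowers y))) _

theorem not_b (h7 : 7 ∣ Nat.card G) : False := by
  have hG := (Cx(φ Z)).card_mul_index
  have key : ∀ (p c d : ℕ) [Fact p.Prime], Nat.card G = p * (c * d) → ¬ p ∣ c * d → ¬ p ∣ 24 →
      (∀ n, 576 ∣ n * (p - 1) → c ∣ n) → 0 < c * d → ∃ k ∈ d.divisors, c * k % p = 1 % p := fun p c d hp e h1 h2 h3 h4 => by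
    obtain ⟨n, n1, n2, n3⟩ := h.sylp hb (p := p) ⟨_, e⟩ (by rwa [e, sq, Nat.mul_dvd_mul_iff_left hp.out.pos]) h2
    obtain ⟨k, rfl⟩ := h3 n n2
    rw [e, Nat.mul_dvd_mul_iff_left hp.out.pos, Nat.mul_dvd_mul_iff_left (Nat.pos_of_mul_pos_right h4)] at n3
    exact ⟨k, Nat.mem_divisors.2 ⟨n3, (Nat.pos_of_mul_pos_left h4).ne'⟩, n1⟩
  rw [h.card_H] at hG
  rcases h.index3 hb h7 with e | e | e
  · exact absurd (@key 67 96 798 ⟨by norm_num⟩ (by omega) (by norm_num) (by norm_num) (by omega) (by norm_num))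
      (by decide +kernel)
  · exact absurd (@key 281 72 280 ⟨by norm_num⟩ (by omega) (by norm_num) (by norm_num) (by omega) (by norm_num))
      (by decide +kernel)
  · exact absurd (@key 11 288 2170 ⟨by norm_num⟩ (by omega) (by norm_num) (by norm_num) (by omega) (by norm_num))
      (by decide +kernel)

end Act

end G3

end CfH4
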