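import Cfsg.Agent.OD.Pre
import Cfsg.Agent.H9.SylIn
import Cfsg.Agent.H3.SmallGroups

/-! Identifying a simple group from a common cover, and Sylow counting. -/

set_option autoImplicit false
open CfH9 Subgroup

namespace CfH4

variable {G : Type*} [Group G] [Finite G]

theorem equiv_of_graph {T : Type*} [Group T] [Finite T] [IsSimpleGroup G] (D : Subgroup (G × T))
    (h1 : D.map (MonoidHom.fst G T) = ⊤)
    (h2 : Nat.card D < Nat.card G * Nat.card (D.map (MonoidHom.snd G T)))
    (h3 : Nat.card T ≤ Nat.card G) : Nonempty (G ≃* T) := by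
  have hs : ∀ g : G, ∃ t, (g, t) ∈ D := fun g => by
    obtain ⟨⟨g', t⟩, hp, rfl⟩ := h1.ge (mem_top g)
    exact ⟨t, hp⟩
  have hN : (D.comap (MonoidHom.inl G T)).Normal := ⟨fun n hn g => by
    obtain ⟨t, ht⟩ := hs g
    have := D.mul_mem (D.mul_mem ht hn) (D.inv_mem ht)
    simpa [mem_comap] using this⟩
  rcases hN.eq_bot_or_eq_top with h | h
  · have i2 : Function.Injective ((MonoidHom.snd G T).comp D.subtype) := by
      rw [injective_iff_map_eq_one]
      rintro ⟨⟨g, t⟩, hp⟩ ht
      obtain rfl : t = 1 := ht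
      obtain rfl : g = 1 := mem_bot.1 (h.le (mem_comap.2 hp))
      rfl
    have s1 : Function.Surjective ((MonoidHom.fst G T).comp D.subtype) := fun g => by
      obtain ⟨t, ht⟩ := hs g
      exact ⟨⟨_, ht⟩, rfl⟩
    have c1 := Nat.card_le_card_of_injective _ i2
    have c2 := Nat.card_le_card_of_surjective _ s1
    have b1 := s1.bijective_of_nat_card_le (by omega)
    have b2 := i2.bijective_of_nat_card_le (by omega)
    exact ⟨(MulEquiv.ofBijective _ b1).symm.trans (MulEquiv.ofBijective _ b2)⟩
  · exfalso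
    have h4 : (⊤ : Subgroup G).prod (D.map (MonoidHom.snd G T)) ≤ D := by
      rintro ⟨g, t⟩ ⟨-, ⟨g', t'⟩, hp, rfl⟩
      have := D.mul_mem (mem_comap.1 (h.ge (mem_top (g * g'⁻¹)))) hp
      simpa using this
    have h5 := card_le_of_le h4
    rw [Nat.card_congr (prodEquiv _ _).toEquiv, Nat.card_prod, card_top] at h5
    omega

theorem index_Nm_modEq {p : ℕ} [Fact p.Prime] {P : Subgroup G} (h : SylIn p P ⊤) :
    (Nm(P)).index ≡ 1 [MOD p] := by
  have := card_sylow_modEq_one p G
  rwa [Sylow.card_eq_index_normalizer h.toSylowTop] at this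

theorem normalCore_eq_bot_of_simple [IsSimpleGroup G] {D : Subgroup G} (h : D.index ≠ 1) :
    D.normalCore = ⊥ := (D.normalCore_normal.eq_bot_or_eq_top).resolve_right fun e =>
  h (index_eq_one.2 (eq_top_iff.2 (e.ge.trans D.normalCore_le)))

theorem card_le_factorial_of_simple [IsSimpleGroup G] {D : Subgroup G} (h : D.index ≠ 1) :
    Nat.card G ≤ D.index.factorial := by
  obtain ⟨f, hf⟩ := CfH3.exists_inj_perm D (normalCore_eq_bot_of_simple h) rfl
  simpa [Fintype.card_perm] using Nat.card_le_card_of_injective f hf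

theorem equiv_perm_of_corefree {D : Subgroup G} (h : D.normalCore = ⊥) {n m : ℕ} (hn : 2 ≤ n)
    (hc : Nat.card G = n.factorial) (hm : m ∣ Nat.card D) (hm' : n.factorial ≤ m * n) :
    Nonempty (G ≃* Equiv.Perm (Fin n)) := by
  obtain ⟨f, hf⟩ := CfH3.exists_inj_perm D h rfl
  have h1 : n.factorial ≤ D.index.factorial := by
    simpa [Fintype.card_perm, hc] using Nat.card_le_card_of_injective f hf
  have h2 : D.index ≤ n := by
    have h3 := D.card_mul_index
    have h4 := Nat.le_of_dvd Nat.card_pos hm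
    have h5 : 0 < Nat.card D := Nat.card_pos
    by_contra h6
    nlinarith
  obtain rfl : D.index = n := by
    by_contra h3
    have := Nat.factorial_le (show D.index ≤ n - 1 by omega)
    have := Nat.factorial_lt (n := n - 1) (m := n) (by omega)
    omega
  exact CfH3.equiv_perm_of_inj f hf hc

end CfH4
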