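import Cfsg.Agent.H3.Jv1
/-! Linear maps of twelve-bit codes: the finite checks for the module of the triple cover. -/
set_option autoImplicit false
set_option maxRecDepth 100000
namespace CfH4.JU
open CfH3.J4 CfH3.He

theorem ald {P : ℕ → Prop} [DecidablePred P] {n : ℕ} (h : al (fun i => decide (P i)) n = true) : ∀ i < n, P i :=
  fun i hi => of_decide_eq_true (al_iff.1 h i hi)

structure Li (f : ℕ → ℕ) : Prop where
  lt : ∀ c < 4096, f c < 4096
  xor : ∀ a < 4096, ∀ b < 4096, f (a ^^^ b) = f a ^^^ f b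

theorem xlt {a b : ℕ} (ha : a < 4096) (hb : b < 4096) : a ^^^ b < 4096 := Nat.xor_lt_two_pow (n := 12) ha hb
theorem elt {l : List ℕ} (h : ∀ a ∈ l, a < 4096) (c : ℕ) : ext l c < 4096 := ext_lt (n := 12) h c

variable {f : ℕ → ℕ}

theorem Li.zero (h : Li f) : f 0 = 0 := by
  have := h.xor 0 (by norm_num) 0 (by norm_num)
  rwa [Nat.xor_self, Nat.xor_self] at this

theorem Li.map (h : Li f) {l : List ℕ} (hl : ∀ a ∈ l, a < 4096) (c : ℕ) : f (ext l c) = ext (l.map f) c := by
  induction l generalizing c with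
  | nil => exact h.zero
  | cons a l ih =>
    have h1 := hl a List.mem_cons_self
    have h2 : ∀ x ∈ l, x < 4096 := fun x hx => hl x (List.mem_cons_of_mem _ hx)
    rw [List.map_cons, ext_cons, ext_cons, ← ih h2]
    rcases Nat.mod_two_eq_zero_or_one c with e | e <;> rw [e]
    · simp
    · rw [mul_one, mul_one, h.xor _ h1 _ (elt h2 _)]

theorem li_ext {l : List ℕ} (h : ∀ a ∈ l, a < 4096) : Li (ext l) := ⟨fun c _ => elt h c, fun a _ b _ => ext_xor l a b⟩

def it (s : ℕ → ℕ) : ℕ → ℕ → List ℕ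
  | 0, _ => []
  | n + 1, c => c :: it s n (s c)

theorem it_map {s0 s : ℕ → ℕ} (h0 : ∀ c < 4096, s0 c < 4096) (hs : ∀ c < 4096, f (s0 c) = s (f c)) (n : ℕ) {a : ℕ}
    (ha : a < 4096) : (it s0 n a).map f = it s n (f a) ∧ ∀ x ∈ it s0 n a, x < 4096 := by
  induction n generalizing a with
  | zero => simp [it]
  | succ n ih =>
    obtain ⟨h1, h2⟩ := ih (h0 a ha)
    refine ⟨by rw [it, it, List.map_cons, h1, hs a ha], fun x hx => ?_⟩
    rcases List.mem_cons.1 hx with rfl | hx
    exacts [ha, h2 x hx]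

theorem iter_congr {F : ℕ → ℕ} (h : ∀ c < 4096, f c < 4096) (e : ∀ c < 4096, f c = F c) (n : ℕ) :
    ∀ c < 4096, f^[n] c = F^[n] c := by
  induction n with
  | zero => exact fun _ _ => rfl
  | succ n ih => intro c hc; rw [Function.iterate_succ_apply, Function.iterate_succ_apply, ih _ (h c hc), e c hc]

/-- a linear map intertwining `s0` with `s` is fixed by three values -/
theorem Li.det (h : Li f) {s0 s : ℕ → ℕ} (h0 : ∀ c < 4096, s0 c < 4096) (hs : ∀ c < 4096, f (s0 c) = s (f c))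
    {a y y' : ℕ} (ha : a < 4096) (hy : y < 4096) (hy' : y' < 4096) (c : ℕ) :
    f (ext (it s0 10 a ++ [y, y']) c) = ext (it s 10 (f a) ++ [f y, f y']) c := by
  obtain ⟨h1, h2⟩ := it_map h0 hs 10 ha
  rw [h.map, List.map_append, h1]
  · rfl
  · intro x hx
    rcases List.mem_append.1 hx with hx | hx
    · exact h2 x hx
    · simp only [List.mem_cons, List.not_mem_nil, or_false] at hx
      rcases hx with rfl | rfl <;> assumption

theorem Li.nrm (h : Li f) {s0 s : ℕ → ℕ} (h0 : ∀ c < 4096, s0 c < 4096) (hs : ∀ c < 4096, f (s0 c) = s (f c))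
    (n : ℕ) {a : ℕ} (ha : a < 4096) (e : ext (it s0 n a) 4095 = 0) : ext (it s n (f a)) 4095 = 0 := by
  obtain ⟨h1, h2⟩ := it_map h0 hs n ha
  rw [← h1, ← h.map h2, e, h.zero]

def mS : List ℕ := [2, 4, 8, 16, 32, 64, 128, 256, 512, 1023, 1024, 2048]
def mT : List ℕ := [1, 8, 64, 512, 2, 16, 128, 1023, 4, 32, 1024, 2048]
def mP (d d' : ℕ) : List ℕ := [571, 905, 237, 474, 948, 151, 302, 604, 839, 369, d, d']
def U0 : List ℕ := [0, 1024, 2048, 3072]
noncomputable def S : ℕ → ℕ := ext mS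
noncomputable def T : ℕ → ℕ := ext mT
theorem liS : Li S := li_ext (by decide)
theorem liT : Li T := li_ext (by decide)
theorem basS : ∀ c < 4096, ext (it S 10 1 ++ [1024, 2048]) c = c := ald (by decide +kernel)

theorem tauC (h : Li f) (h1 : f 1 = 1) (hs : ∀ c < 4096, f (S c) = S (S (S (f c)))) (h5 : ∀ c < 4096, f^[5] c = c) :
    ∀ c < 4096, f c = T c := by
  have k1 : ∀ c < 4096, S (S (S c)) = c → c ∈ U0 := ald (by decide +kernel)
  have e : ∀ c < 4096, f c = ext (it (fun c => S (S (S c))) 10 1 ++ [f 1024, f 2048]) c := fun c hc => by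
    have := h.det (s := fun c => S (S (S c))) liS.lt hs (a := 1) (y := 1024) (y' := 2048) (by norm_num) (by norm_num)
      (by norm_num) c
    rwa [basS c hc, h1] at this
  have k2 : ∀ d ∈ U0, ∀ d' ∈ U0, (ext (it (fun c => S (S (S c))) 10 1 ++ [d, d']))^[5] 1024 = 1024 →
      (ext (it (fun c => S (S (S c))) 10 1 ++ [d, d']))^[5] 2048 = 2048 →
      it (fun c => S (S (S c))) 10 1 ++ [d, d'] = mT := by decide +kernel
  have a1 := hs 1024 (by norm_num)
  have a2 := hs 2048 (by norm_num)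
  rw [show S 1024 = 1024 by decide +kernel] at a1
  rw [show S 2048 = 2048 by decide +kernel] at a2
  have := k2 _ (k1 _ (h.lt _ (by norm_num)) a1.symm) _ (k1 _ (h.lt _ (by norm_num)) a2.symm)
    (by rw [← iter_congr h.lt e 5 _ (by norm_num), h5 _ (by norm_num)])
    (by rw [← iter_congr h.lt e 5 _ (by norm_num), h5 _ (by norm_num)])
  intro c hc
  rw [e c hc, this, T]

theorem rhoC (h : Li f) (hs : ∀ c < 4096, f (S c) = S (f c)) (ht : ∀ c < 4096, f (T c) = T (f c))
    (h3 : ∀ c < 4096, f^[3] c = c) :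
    (∀ c < 4096, f c = ext (it S 10 (f 1) ++ [f 1024, f 2048]) c) ∧ f 1024 ∈ U0 ∧ f 2048 ∈ U0 ∧
      (f 1 = 1 ∨ f 1 = 571 ∨ f (f 1) = 571) ∧ (f 1024 = 2048 → f 2048 = 3072) := by
  have k1 : ∀ c < 4096, S c = c → c ∈ U0 := ald (by decide +kernel)
  have k2 : ∀ c < 4096, T c = c → ext (it S 11 c) 4095 = 0 → c ∈ [0, 1, 570, 571] := ald (by decide +kernel)
  have e : ∀ c < 4096, f c = ext (it S 10 (f 1) ++ [f 1024, f 2048]) c := fun c hc => by
    have := h.det liS.lt hs (a := 1) (y := 1024) (y' := 2048) (by norm_num) (by norm_num) (by norm_num) c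
    rwa [basS c hc] at this
  have a1 := hs 1024 (by norm_num)
  have a2 := hs 2048 (by norm_num)
  have a3 := ht 1 (by norm_num)
  rw [show S 1024 = 1024 by decide +kernel] at a1
  rw [show S 2048 = 2048 by decide +kernel] at a2
  rw [show T 1 = 1 by decide +kernel] at a3
  have b1 := k1 _ (h.lt _ (by norm_num)) a1.symm
  have b2 := k1 _ (h.lt _ (by norm_num)) a2.symm
  have b3 := k2 _ (h.lt _ (by norm_num)) a3.symm (h.nrm liS.lt hs 11 (by norm_num) (by decide +kernel))
  have k3 : ∀ a ∈ [0, 1, 570, 571], ∀ d ∈ U0, ∀ d' ∈ U0, (ext (it S 10 a ++ [d, d']))^[3] 1 = 1 →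
      (ext (it S 10 a ++ [d, d']))^[3] 1024 = 1024 →
      (a = 1 ∨ a = 571 ∨ ext (it S 10 a ++ [d, d']) a = 571) ∧ (d = 2048 → d' = 3072) := by decide +kernel
  have := k3 _ b3 _ b1 _ b2 (by rw [← iter_congr h.lt e 3 _ (by norm_num), h3 _ (by norm_num)])
    (by rw [← iter_congr h.lt e 3 _ (by norm_num), h3 _ (by norm_num)])
  rw [← e _ (h.lt _ (by norm_num))] at this
  exact ⟨e, b1, b2, this⟩

theorem itP (d d' : ℕ) : it S 10 571 ++ [d, d'] = mP d d' := by
  rw [show it S 10 571 = [571, 905, 237, 474, 948, 151, 302, 604, 839, 369] by decide +kernel]; rfl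

noncomputable def frl {α : Type} (l : List ℕ) : (List ℕ → α) → α :=
  List.rec (fun k => k []) (fun a _ ih k => frc a fun a' => ih fun l' => k (a' :: l')) l
theorem frl_eq {α : Type} (l : List ℕ) (k : List ℕ → α) : frl l k = k l := by
  induction l generalizing k with
  | nil => rfl
  | cons a l ih =>
    show frc a (fun a' => frl l fun l' => k (a' :: l')) = _
    rw [frc_eq, ih]

def mB (y y' : ℕ) : List ℕ := [1456, 1980, 3109, 394, 1138, 3818, 3371, 996, 4036, 1614, y, y']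
noncomputable def Q0 (c : ℕ) : ℕ := qq (ext (mB 334 967) c)
def bld (R T : ℕ → ℕ) (c1 c2 c2' c3 : ℕ) : List ℕ := [c1, R c1, c2, c2', c3, R c3, T c3, R (T c3), T (T c3),
  R (T (T c3)), T (T (T c3)), R (T (T (T c3)))]
def mPi : List ℕ := [1, 1091, 2802, 1107, 275, 1299, 354, 1410, 3394, 1043, 4, 8]
def F16 : List ℕ := [0, 1, 570, 571, 1024, 1025, 1594, 1595, 2048, 2049, 2618, 2619, 3072, 3073, 3642, 3643]
def C3 : List ℕ := [126, 179, 199, 205, 318, 327, 341, 557, 606, 625, 730, 746, 779, 822, 996]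
def good : List (List ℕ) := [[3072, 2287, 1362, 2140, 2754, 2342, 1463, 1995, 1952, 2903, 571, 570],
  [1024, 3311, 2386, 3164, 3778, 3366, 2487, 3019, 2976, 3927, 1, 571],
  [2048, 1263, 3410, 1116, 1730, 1318, 3511, 4043, 4000, 1879, 570, 1]]
noncomputable def T2 (c : ℕ) : ℕ := T (T c)
def PP : List (ℕ × ℕ) := [(2048, 3072), (1024, 2048)]

theorem hK1 : ∀ p ∈ PP, ∀ c < 4096, ext (it T2 5 c) 4095 = 0 → (c < 1024 → Q0 c = Q0 10) →
    (∀ x ∈ [(c ^^^ T2 c, 10 ^^^ T 10), (c ^^^ ext (mP p.1 p.2) (T2 c), 10 ^^^ ext (mP p.1 p.2) (T 10)),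
      (c ^^^ T2 (T2 c), 10 ^^^ T (T 10)), (c ^^^ ext (mP p.1 p.2) (T2 (T2 c)), 10 ^^^ ext (mP p.1 p.2) (T (T 10)))],
      x.1 < 1024 → Q0 x.1 = Q0 x.2) → c ∈ C3 := by
  intro p hp
  simp only [PP, List.mem_cons, List.not_mem_nil, or_false] at hp
  rcases hp with rfl | rfl <;> exact ald (by decide +kernel)

theorem hK2 : ∀ p ∈ PP, ∀ c2 ∈ F16, ∀ c2' ∈ F16, ext [c2, c2'] (p.1 / 1024) = ext (mP p.1 p.2) c2 →
    ext [c2, c2'] (p.2 / 1024) = ext (mP p.1 p.2) c2' → ∀ c1 ∈ F16, ∀ c3 ∈ C3,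
    frl (mPi.map (ext (bld (ext (mP p.1 p.2)) T2 c1 c2 c2' c3))) (fun m => decide ((ext m)^[4] 1 = 1 →
      (fun c => S (ext m c))^[5] 1 ∈ [1, 571, 570] → (fun c => S (ext m c))^[5] 1024 ∈ U0 →
      p.1 = 2048 ∧ m ∈ good)) = true := by
  decide +kernel

theorem hC {p : ℕ × ℕ} (hp : p ∈ PP) (h : Li f) (cR : ∀ c < 4096, f (ext (mP p.1 p.2) c) = ext (mP p.1 p.2) (f c))
    (cT : ∀ c < 4096, f (T c) = T2 (f c)) (cq : ∀ c < 1024, f c < 1024 → Q0 (f c) = Q0 c) (h4 : f^[4] 1 = 1)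
    (rel : ∀ c < 4096, (fun c => S (f c))^[5] c ∈ [c, ext (mP p.1 p.2) c, ext (mP p.1 p.2) (ext (mP p.1 p.2) c)]) :
    p.1 = 2048 ∧ ∃ m ∈ good, ∀ c < 4096, f c = ext m c := by
  have k0 : ∀ p ∈ PP, (∀ a ∈ mP p.1 p.2, a < 4096) ∧ (∀ a ∈ bld (ext (mP p.1 p.2)) T 1 1024 2048 10, a < 4096) ∧
      mPi.map (ext (bld (ext (mP p.1 p.2)) T 1 1024 2048 10)) = it S 10 1 ++ [1024, 2048] ∧
      ext [1024, 2048] (p.1 / 1024) = ext (mP p.1 p.2) 1024 ∧ ext [1024, 2048] (p.2 / 1024) = ext (mP p.1 p.2) 2048 ∧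
      (∀ x ∈ [10 ^^^ T 10, 10 ^^^ ext (mP p.1 p.2) (T 10), 10 ^^^ T (T 10), 10 ^^^ ext (mP p.1 p.2) (T (T 10))],
        x < 1024) ∧ [1, ext (mP p.1 p.2) 1, ext (mP p.1 p.2) (ext (mP p.1 p.2) 1)] = [1, 571, 570] ∧
      ∀ x ∈ [1024, ext (mP p.1 p.2) 1024, ext (mP p.1 p.2) (ext (mP p.1 p.2) 1024)], x ∈ U0 := by decide +kernel
  obtain ⟨l1, l2, l3, l4, l5, l6, l7, l8⟩ := k0 p hp
  have lR := (li_ext l1).lt
  have k1 : ∀ c < 4096, T2 c = c → c ∈ F16 := ald (by decide +kernel)
  have fx : ∀ c < 4096, T c = c → f c ∈ F16 := fun c hc e => k1 _ (h.lt c hc) (by rw [← cT c hc, e])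
  have t1 := liT.lt 10 (by norm_num)
  have t2 := liT.lt _ t1
  have t3 := liT.lt _ t2
  have eb : (bld (ext (mP p.1 p.2)) T 1 1024 2048 10).map f = bld (ext (mP p.1 p.2)) T2 (f 1) (f 1024) (f 2048) (f 10) := by
    simp only [bld, List.map_cons, List.map_nil, cR _ t1, cR _ t2, cR _ t3, cT _ t1, cT _ t2, cR 1 (by norm_num),
      cR 10 (by norm_num), cT 10 (by norm_num)]
  have e : ∀ c < 4096, f c = ext (mPi.map (ext (bld (ext (mP p.1 p.2)) T2 (f 1) (f 1024) (f 2048) (f 10)))) c := by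
    intro c hc
    have l9 : ∀ a ∈ mPi, a < 4096 := by decide
    have l10 : ∀ a ∈ bld (ext (mP p.1 p.2)) T2 (f 1) (f 1024) (f 2048) (f 10), a < 4096 := by
      rw [← eb]; intro a ha
      obtain ⟨b, hb, rfl⟩ := List.mem_map.1 ha
      exact h.lt _ (l2 b hb)
    rw [← (li_ext l10).map l9, ← eb, ← h.map l2, (li_ext l2).map l9, l3, basS c hc]
  have m3 : f 10 ∈ C3 := by
    refine hK1 p hp _ (h.lt _ (by norm_num)) (h.nrm liT.lt cT 5 (by norm_num) (by decide +kernel))
      (cq 10 (by norm_num)) ?_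
    have u := fun x hx => cq x (l6 x hx)
    simp only [List.mem_cons, List.not_mem_nil, or_false, forall_eq_or_imp, forall_eq] at u ⊢
    rw [h.xor _ (by norm_num) _ t1, h.xor _ (by norm_num) _ (lR _ t1), h.xor _ (by norm_num) _ t2,
      h.xor _ (by norm_num) _ (lR _ t2), cR _ t1, cR _ t2, cT _ t1, cT 10 (by norm_num)] at u
    exact u
  have u2 : ∀ a ∈ [1024, 2048], a < 4096 := by decide
  have := hK2 p hp _ (fx 1024 (by norm_num) (by decide +kernel)) _ (fx 2048 (by norm_num) (by decide +kernel))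
    (by rw [← cR _ (by norm_num), ← l4, h.map u2]; rfl) (by rw [← cR _ (by norm_num), ← l5, h.map u2]; rfl)
    _ (fx 1 (by norm_num) (by decide +kernel)) _ m3
  rw [frl_eq, decide_eq_true_iff] at this
  have e2 := iter_congr (f := fun c => S (f c)) (fun c hc => liS.lt _ (h.lt c hc)) (fun c hc => by rw [e c hc]) 5
  obtain ⟨g1, g2⟩ := this (by rw [← iter_congr h.lt e 4 _ (by norm_num), h4])
    (by rw [← e2 _ (by norm_num), ← l7]; exact rel 1 (by norm_num))
    (by rw [← e2 _ (by norm_num)]; exact l8 _ (rel 1024 (by norm_num)))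
  exact ⟨g1, _, g2, e⟩

def jS : List ℕ := [3852, 2564, 1804, 3588, 3590, 2315, 800, 272, 354, 657, 195, 66]
def jT : List ℕ := [3634, 2323, 3394, 3011, 3060, 1688, 3969, 1475, 349, 699, 3138, 1153]
def jH : List ℕ := [1529, 3998, 1489, 4002, 2565, 1290, 1760, 2896, 3165, 1211, 2699, 4038]
def jI : List ℕ := [52, 24, 2375, 1993, 1856, 3776, 2072, 3124, 1984, 2368, 10, 5]
def mBi : List ℕ := [3151, 1451, 3531, 1117, 887, 356, 1092, 3463, 3193, 2453, 1004, 776]
def mK0 : List ℕ := [551, 798, 401, 755, 3082, 1029, 2915, 1777, 2264, 1196, 918, 619]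
def mE : List ℕ := [1, 2, 4, 8, 16, 32, 64, 128, 256, 512, 1024, 2048]
def Ob (c : ℕ) : ℕ := Nat.land (Nat.shiftRight 0x2814824118000024420000810204010804020801000f00f00f00f000021008408004200100001284000048210804040801020201000f0f00f00000f0082002801004400182000014280000418421124848122184050a000000000a050000000042241881000088440000221111118888222244440a0a00000000050548122184842112484200001824000081010820404020080100000000900660091002800440082001000021480000482104084080201002010f00f000000f00f0800210042008400128000028410000414218000000002481f00000f0000f0f0022224444111188880000448800002211282800000000414100000000600690090000000041828241001800420024008104021080204008010f00000f00f0f0000840048010022001124884212184481201028040408002010000003c000000c302800140800240010028008200140041184200000000248100f0000ff0000f00000000002442188188881111444422228282000000004141000000cc000000331248124812481248004200810042008108010204020408010000000060096009400840082001200148124812481248120201080408040201000000c3000000c32008200840014001008200410082004121842184218421840a05000000000a05888888888888888822222222222222224444444444444444f5f5ff339ff9953e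 c) 1
theorem extE : ∀ c < 4096, ext mE c = c := ald (by decide +kernel)

theorem Ob_inv : (∀ x < 5, ∀ c < 4096, Ob (ext (mA x) c) = Ob c) ∧ ∀ c < 4096, Ob (ext mR c) = Ob c :=
  ⟨fun x hx => by interval_cases x <;> exact ald (by decide +kernel), ald (by decide +kernel)⟩

theorem kC1 {s : List ℕ} (hs : s ∈ [jS, jI]) (h : Li f) (cS : ∀ c < 4096, f (ext jS c) = ext s (f c))
    (cq : ∀ c < 4096, qq (f c) = qq c) : ∃ a < 11, ∃ b < 3, (ext jS)^[a] ((ext mR)^[b] (f 1456)) = 1456 := by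
  have k : ∀ s ∈ [jS, jI], ∀ c < 4096, ext (it (ext s) 11 c) 4095 = 0 → qq c = 1 →
      (∀ n ∈ [3, 5, 9, 17, 33], qq (ext (it (ext s) 6 c) n) = 1) →
      ∃ a < 11, ∃ b < 3, (ext jS)^[a] ((ext mR)^[b] c) = 1456 := by
    intro s hs
    simp only [List.mem_cons, List.not_mem_nil, or_false] at hs
    rcases hs with rfl | rfl <;> exact ald (by decide +kernel)
  have l1 := (li_ext (show ∀ a ∈ jS, a < 4096 by decide)).lt
  refine k s hs _ (h.lt _ (by norm_num)) (h.nrm l1 cS 11 (by norm_num) (by decide +kernel))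
    (by rw [cq _ (by norm_num)]; decide +kernel) fun n hn => ?_
  obtain ⟨h1, h2⟩ := it_map l1 cS 6 (show 1456 < 4096 by norm_num)
  rw [← h1, ← h.map h2, cq _ (elt h2 _)]
  revert n; decide +kernel

theorem kC2 {s : List ℕ} (hs : s ∈ [jS, jI]) (h : Li f) (cS : ∀ c < 4096, f (ext jS c) = ext s (f c))
    (h1 : f 1456 = 1456) (hO : ∀ c < 141, Ob (f (ext (mA 0) c)) = Ob (f c)) :
    (∀ c < 4096, f c = c) ∨ ∀ c < 4096, f c = ext mK0 c := by
  have k : ∀ s ∈ [jS, jI], ∀ c < 4096, ext s c = c → c ∈ [0, 334, 649, 967] := by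
    intro s hs
    simp only [List.mem_cons, List.not_mem_nil, or_false] at hs
    rcases hs with rfl | rfl <;> exact ald (by decide +kernel)
  have k2 : ∀ s ∈ [jS, jI], ∀ d ∈ [0, 334, 649, 967], ∀ d' ∈ [0, 334, 649, 967],
      frl (mBi.map (ext (it (ext s) 10 1456 ++ [d, d']))) (fun m => decide (
        al (fun c => decide (Ob (ext m (ext (mA 0) c)) = Ob (ext m c))) 141 = true → m = mE ∨ m = mK0)) = true := by decide +kernel
  have l1 := (li_ext (show ∀ a ∈ jS, a < 4096 by decide)).lt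
  have l2 : ∀ a ∈ mBi, a < 4096 := by decide
  have l3 : ∀ a ∈ it (ext jS) 10 1456 ++ [334, 967], a < 4096 := by decide +kernel
  have l4 : ∀ a ∈ it (ext s) 10 1456 ++ [f 334, f 967], a < 4096 := by
    intro a ha
    obtain ⟨h2, h3⟩ := it_map l1 cS 10 (show 1456 < 4096 by norm_num)
    rw [h1] at h2
    rw [← h2, show [f 334, f 967] = [334, 967].map f from rfl, ← List.map_append] at ha
    obtain ⟨b, hb, rfl⟩ := List.mem_map.1 ha
    exact h.lt _ (l3 b hb)
  have e : ∀ c < 4096, f c = ext (mBi.map (ext (it (ext s) 10 1456 ++ [f 334, f 967]))) c := fun c hc => by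
    have := h.det l1 cS (a := 1456) (y := 334) (y' := 967) (by norm_num) (by norm_num) (by norm_num) (ext mBi c)
    rwa [h1, (li_ext l3).map l2, (li_ext l4).map l2, show mBi.map (ext (it (ext jS) 10 1456 ++ [334, 967])) = mE by
      decide +kernel, extE c hc] at this
  have a1 := cS 334 (by norm_num)
  have a2 := cS 967 (by norm_num)
  rw [show ext jS 334 = 334 by decide +kernel] at a1
  rw [show ext jS 967 = 967 by decide +kernel] at a2
  have := k2 s hs _ (k s hs _ (h.lt _ (by norm_num)) a1.symm) _ (k s hs _ (h.lt _ (by norm_num)) a2.symm)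
  rw [frl_eq, decide_eq_true_iff] at this
  rcases this (al_iff.2 fun c hc => decide_eq_true (by
    rw [← e _ (elt (by decide) _), ← e c (by omega), hO c hc])) with g | g
  · exact Or.inl fun c hc => by rw [e c hc, g, extE c hc]
  · exact Or.inr fun c hc => by rw [e c hc, g]

end CfH4.JU
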