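import Cfsg.Agent.H4.Mc1
import Cfsg.Agent.H4.Mb0
/-! Statements of the character-theoretic steps for a simple group of order `443520`. -/
set_option autoImplicit false
open Cfsg CfH4 CfH4.GA CfH9 CfH4.D1 Subgroup Finset
namespace CfH4.PA
universe u

section num
variable {ι J : Type*} [Fintype ι]

/-- values `v` of the nonprincipal characters (degrees `d`) at an involution with centralizer order `c` -/
structure Inv (g c : ℕ) (d : ι → ℕ) (v : ι → ℤ) : Prop where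
  cg : c ∣ g
  c2 : 2 ∣ c
  dvd : ∀ i, (d i : ℤ) ∣ (g / c : ℕ) * v i
  m4 : ∀ i, 4 ∣ (d i : ℤ) - v i
  lt : ∀ i, |v i| < d i
  sq : ∑ i, v i ^ 2 + 1 = c
  o1 : ∑ i, d i * v i = -1

structure Sys (g : ℕ) (d : ι → ℕ) (c : J → ℕ) (v : J → ι → ℤ) : Prop where
  dv : ∀ i, d i ∣ g ∧ 1 < d i
  sq : ∑ i, d i * d i + 1 = g
  inv : ∀ j, Inv g (c j) d (v j)

/-- the vectors of the principal `p`-block, `|C(x)| = p K`, `|N : C| = e` -/
structure Blk (p e K : ℕ) (d : ι → ℕ) (u : ι → ℤ × ℤ) (m : ι → ℤ) : Prop where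
  n1 : ∑ i, (u i).1 ^ 2 = e
  n2 : ∑ i, (u i).2 ^ 2 = e
  n3 : ∑ i, ((u i).1 - (u i).2) ^ 2 = if e + 1 = p then 0 else 2
  l1 : ∑ i, (u i).1 * d i = 1
  l2 : ∑ i, (u i).2 * d i = 1
  dm : ∀ i, u i ≠ 0 → (d i : ℤ) = p * m i + (p / 2 : ℕ) * ((u i).1 + (u i).2) ∧ 0 ≤ m i ∧ 0 ≤ m i + (u i).1 ∧
    0 ≤ m i + (u i).2
  z : ∀ i, u i = 0 → K = 1 → p ∣ d i

structure SI (g p e K c : ℕ) (d : ι → ℕ) (u : ι → ℤ × ℤ) (m v : ι → ℤ) : Prop where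
  l1 : ∑ i, (u i).1 * v i = 1
  l2 : ∑ i, (u i).2 * v i = 1
  q : ∃ r : ℕ, (¬ 2 ∣ e → r = 0) ∧ p * c ∣ r ∧ (g - ∑ i, (u i).1 * v i ^ 2 * (g / d i : ℕ)) * K * p = (r : ℤ) ^ 2
  ik : p ∣ c → 2 ∣ K ∧ ∀ i, u i ≠ 0 → 2 * (p : ℤ) ∣ d i - v i ∧ d i - v i ≤ 2 * p * m i ∧
    d i - v i ≤ 2 * p * (m i + (u i).1) ∧ d i - v i ≤ 2 * p * (m i + (u i).2)

structure St (g p e K : ℕ) (d : ι → ℕ) (c : J → ℕ) (v : J → ι → ℤ) (u : ι → ℤ × ℤ) (m : ι → ℤ) : Prop where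
  blk : Blk p e K d u m
  si : ∀ j, SI g p e K (c j) d u m (v j)
  ex : 2 ∣ K → ∃ j, p ∣ c j

def BT (w u : ι → ℤ × ℤ) : Prop := ∑ i, (w i).1 * (u i).1 = -1 ∧ ∑ i, (w i).1 * (u i).2 = -1 ∧
  ∑ i, (w i).2 * (u i).1 = -1 ∧ ∑ i, (w i).2 * (u i).2 = -1
end num

def O11 : List (ℕ × ℕ) := [(5, 12), (5, 56), (5, 144), (5, 672), (10, 6), (10, 28), (10, 72), (10, 336)]
def O7 : List (ℕ × ℕ) := [(3, 1), (3, 8), (3, 64), (3, 120), (3, 960), (6, 4), (6, 32), (6, 60), (6, 480)]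
def O5 : List (ℕ × ℕ) := [(2, 2), (2, 7), (2, 12), (2, 32), (2, 42), (2, 72), (2, 112), (2, 192), (2, 252), (2, 672),
  (2, 4032), (4, 1), (4, 6), (4, 16), (4, 36), (4, 56), (4, 96), (4, 126), (4, 336), (4, 2016)]
/-- degree and vectors for `5, 7, 11` of ten characters of `M₂₂`; `k` exchanges the two of degree `45` -/
def LM (k : Bool) : List (ℕ × List (ℤ × ℤ)) := [(280, [0, 0, (0, 1)]), (280, [0, 0, (1, 0)]),
  (21, [(-1, -1), 0, (1, 1)]), (45, [0, if k then (1, 0) else (0, 1), (-1, -1)]),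
  (45, [0, if k then (0, 1) else (1, 0), (-1, -1)]), (210, [0, 0, (-1, -1)]), (55, [0, (1, 1), 0]),
  (99, [(1, 1), (-1, -1), 0]), (154, [(1, 1), 0, 0]), (231, [(-1, -1), 0, 0])]

/-- numerical step: even centralizer of an element of order `11` -/
def N11 : Prop := ∀ {ι J : Type u} [Fintype ι] (d : ι → ℕ) (c : J → ℕ) (v : J → ι → ℤ) (u : ι → ℤ × ℤ) (m : ι → ℤ)
  (e K : ℕ), Sys 443520 d c v → St 443520 11 e K d c v u m → (e, K) ∉ O11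
/-- numerical step: the main search -/
def NM : Prop := ∀ {ι J : Type u} [Fintype ι] (d : ι → ℕ) (c : J → ℕ) (v : J → ι → ℤ) (u11 u7 u5 : ι → ℤ × ℤ)
  (m11 m7 m5 : ι → ℤ) (e7 K7 e5 K5 : ℕ), Sys 443520 d c v → (∃ j, 128 ∣ c j) → St 443520 11 5 1 d c v u11 m11 →
  St 443520 7 e7 K7 d c v u7 m7 → St 443520 5 e5 K5 d c v u5 m5 → (e7, K7) ∈ O7 → (e5, K5) ∈ O5 →
  (5 ∣ K7 ↔ 7 ∣ K5) → BT u11 u7 → BT u11 u5 → (¬ 5 ∣ K7 → BT u7 u5) → (K7 = 4 → ∀ j, c j ≠ 896) →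
  K7 = 1 ∧ K5 = 1 ∧ e7 = 3 ∧ e5 = 4 ∧ ∃ (X : List ι) (k : Bool), X.Nodup ∧ (∀ i ∉ X, u5 i = 0 ∧ u7 i = 0 ∧ u11 i = 0) ∧
    (X.map fun i => (d i, [u5 i, u7 i, u11 i])).Perm (LM k)

section grp
variable (G : Type u) [Group G] [Finite G]
/-- nonprincipal irreducible characters -/
def Ir : Type u := {χ : IrrCharacter G // χ ≠ triv G}
noncomputable instance : Fintype (Ir G) := by classical exact Subtype.fintype _
/-- involutions -/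
def Iv : Type u := {s : G // orderOf s = 2}
variable {G}
theorem sum_Ir {M : Type*} [AddCommMonoid M] (f : IrrCharacter G → M) : ∑ χ, f χ = f (triv G) + ∑ i : Ir G, f i.1 := by
  classical
  rw [Fintype.sum_eq_add_sum_subtype_ne _ (triv G)]
  exact congrArg _ (Fintype.sum_equiv (show _ ≃ Ir G from Equiv.refl _) _ _ fun _ => rfl)
noncomputable def dg (i : Ir G) : ℕ := deg (i.1 : G → ℂ)
noncomputable def cc (s : Iv G) : ℕ := Nat.card Cx(s.1)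
noncomputable def vv (s : G) (i : Ir G) : ℤ := ⌊((i.1 : G → ℂ) s).re⌋
noncomputable def uu {p : ℕ} [Fact p.Prime] (x : G) (n : ZMod p) (i : Ir G) : ℤ × ℤ := (D1.u x (1 : ZMod p) i.1, D1.u x n i.1)
noncomputable def mm (p : ℕ) [Fact p.Prime] (x : G) (i : Ir G) : ℤ := D1.m x (i.1 : G → ℂ) (0 : ZMod p)
end grp

instance f5 : Fact (Nat.Prime 5) := ⟨by norm_num⟩
instance f7 : Fact (Nat.Prime 7) := ⟨by norm_num⟩
instance f11 : Fact (Nat.Prime 11) := ⟨by norm_num⟩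

/-- involution values -/
def P1 : Prop := ∀ {G : Type u} [Group G] [Finite G], IsSimpleGroup G → Nat.card G = 443520 →
  Sys 443520 (dg (G := G)) cc (fun s => vv s.1) ∧ (∃ j : Iv G, 128 ∣ cc j) ∧
    ∀ (s : Iv G) (i : Ir G), (i.1 : G → ℂ) s.1 = vv s.1 i
/-- block data -/
def P2 : Prop := P1.{u} → ∀ {G : Type u} [Group G] [Finite G], IsSimpleGroup G → Nat.card G = 443520 →
  ∀ (p : ℕ) [Fact p.Prime] (n : ZMod p) (x : G) (K : ℕ), p ≠ 2 → ¬ IsSquare n → Syl p x → Nat.card Cx(x) = p * K →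
    e p x ∣ p - 1 → p - 1 ≤ 2 * e p x → St 443520 p (e p x) K dg cc (fun s => vv s.1) (uu x n) (mm p x)
/-- the cases `e = 2` -/
def P3 : Prop := P1.{u} → ∀ {G : Type u} [Group G] [Finite G], IsSimpleGroup G → Nat.card G = 443520 →
  (∀ x : G, orderOf x = 11 → e 11 x ≠ 2) ∧ ∀ y : G, orderOf y = 7 → e 7 y ≠ 2
/-- the outcome of the search -/
def Out {G : Type u} [Group G] [Finite G] (x y w : G) : Prop :=
  Syl 11 x ∧ Syl 7 y ∧ Syl 5 w ∧ Nat.card Cx(x) = 11 ∧ Nat.card Cx(y) = 7 ∧ Nat.card Cx(w) = 5 ∧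
    e 11 x = 5 ∧ e 7 y = 3 ∧ e 5 w = 4 ∧ ∃ (X : List (Ir G)) (k : Bool), X.Nodup ∧
    (∀ i ∉ X, uu w (2 : ZMod 5) i = 0 ∧ uu y (3 : ZMod 7) i = 0 ∧ uu x (2 : ZMod 11) i = 0) ∧
    (X.map fun i => (dg i, [uu w (2 : ZMod 5) i, uu y (3 : ZMod 7) i, uu x (2 : ZMod 11) i])).Perm (LM k)
/-- glue -/
def P4 : Prop := P1.{u} → P2.{u} → P3.{u} → N11.{u} → NM.{u} → ∀ {G : Type u} [Group G] [Finite G], IsSimpleGroup G →
  Nat.card G = 443520 → ∃ x y w : G, Out x y w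
/-- the local data from the outcome -/
def P5 : Prop := P1.{u} → P2.{u} → ∀ {G : Type u} [Group G] [Finite G], IsSimpleGroup G → Nat.card G = 443520 →
  ∀ x y w : G, Out x y w → M22.Loc G

theorem pa (h1 : P1.{u}) (h2 : P2.{u}) (h3 : P3.{u}) (h4 : P4.{u}) (h5 : P5.{u}) (n1 : N11.{u}) (n2 : NM.{u}) :
    M22.PA.{u} := fun hs hG => by
  obtain ⟨x, y, w, h⟩ := h4 h1 h2 h3 n1 n2 hs hG
  exact h5 h1 h2 hs hG x y w h

end CfH4.PA
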