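import Cfsg.Agent.H4.Mc5
/-! Tables for the search in order `443520`. -/
set_option autoImplicit false
set_option maxRecDepth 100000
open CfH3.He CfH4.PA
namespace CfH4.En

def tA : List (ℕ × List U) := [
  (2, [(-2, -2)]), (5, [(0, 1), (1, 0)]), (6, [(-1, 0), (0, -1)]), (7, [(-2, -1), (-1, -2)]),
  (10, [(0, 2), (1, 1), (2, 0)]), (11, [(-1, 1), (1, -1)]), (12, [(-2, 0), (-1, -1), (0, -2)]),
  (15, [(1, 2), (2, 1)]), (16, [(-1, 2), (0, 1), (1, 0), (2, -1)]), (18, [(-2, -1), (-1, -2)]), (20, [(2, 2)]),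
  (21, [(0, 2), (1, 1), (2, 0)]), (22, [(-2, 2), (-1, 1), (1, -1), (2, -2)]), (24, [(-2, -2)]),
  (28, [(-2, 1), (-1, 0), (0, -1), (1, -2)]), (32, [(0, 2), (1, 1), (2, 0)]),
  (33, [(-2, 2), (-1, 1), (1, -1), (2, -2)]), (35, [(-2, -2)]), (40, [(-2, -1), (-1, -2)]), (42, [(2, 2)]),
  (44, [(-2, 2), (-1, 1), (1, -1), (2, -2)]), (45, [(-2, 0), (-1, -1), (0, -2)]), (48, [(1, 2), (2, 1)]),
  (55, [(-2, 2), (-1, 1), (1, -1), (2, -2)]), (56, [(-2, 0), (-1, -1), (0, -2)]),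
  (60, [(-1, 2), (0, 1), (1, 0), (2, -1)]), (64, [(2, 2)]), (66, [(-2, 2), (-1, 1), (1, -1), (2, -2)]),
  (70, [(1, 2), (2, 1)]), (72, [(-2, 1), (-1, 0), (0, -1), (1, -2)]), (77, [(-2, 2), (-1, 1), (1, -1), (2, -2)]),
  (84, [(-2, -1), (-1, -2)]), (88, [(-2, 2), (-1, 1), (1, -1), (2, -2)]), (90, [(-2, -2)]),
  (99, [(-2, 2), (-1, 1), (1, -1), (2, -2)]), (105, [(-2, 1), (-1, 0), (0, -1), (1, -2)]),
  (110, [(-2, 2), (-1, 1), (1, -1), (2, -2)]), (112, [(-2, -2)]), (120, [(0, 2), (1, 1), (2, 0)]),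
  (126, [(-1, 2), (0, 1), (1, 0), (2, -1)]), (128, [(-2, -1), (-1, -2)]),
  (132, [(-2, 2), (-1, 1), (1, -1), (2, -2)]), (144, [(-2, 0), (-1, -1), (0, -2)]),
  (154, [(-2, 2), (-1, 1), (1, -1), (2, -2)]), (160, [(-2, 1), (-1, 0), (0, -1), (1, -2)]),
  (165, [(-2, 2), (-1, 1), (1, -1), (2, -2)]), (176, [(-2, 2), (-1, 1), (1, -1), (2, -2)]), (180, [(1, 2), (2, 1)]),
  (192, [(-1, 2), (0, 1), (1, 0), (2, -1)]), (198, [(-2, 2), (-1, 1), (1, -1), (2, -2)]),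
  (210, [(-2, 0), (-1, -1), (0, -2)]), (220, [(-2, 2), (-1, 1), (1, -1), (2, -2)]), (224, [(1, 2), (2, 1)]),
  (231, [(-2, 2), (-1, 1), (1, -1), (2, -2)]), (240, [(2, 2)]), (252, [(0, 2), (1, 1), (2, 0)]),
  (264, [(-2, 2), (-1, 1), (1, -1), (2, -2)]), (280, [(-1, 2), (0, 1), (1, 0), (2, -1)]), (288, [(-2, -2)]),
  (308, [(-2, 2), (-1, 1), (1, -1), (2, -2)]), (315, [(-2, -1), (-1, -2)]), (320, [(-2, 0), (-1, -1), (0, -2)]),
  (330, [(-2, 2), (-1, 1), (1, -1), (2, -2)]), (336, [(-2, 1), (-1, 0), (0, -1), (1, -2)]),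
  (352, [(-2, 2), (-1, 1), (1, -1), (2, -2)]), (384, [(0, 2), (1, 1), (2, 0)]),
  (385, [(-2, 2), (-1, 1), (1, -1), (2, -2)]), (396, [(-2, 2), (-1, 1), (1, -1), (2, -2)]), (420, [(-2, -2)]),
  (440, [(-2, 2), (-1, 1), (1, -1), (2, -2)]), (462, [(-2, 2), (-1, 1), (1, -1), (2, -2)]),
  (480, [(-2, -1), (-1, -2)]), (495, [(-2, 2), (-1, 1), (1, -1), (2, -2)]), (504, [(2, 2)]),
  (528, [(-2, 2), (-1, 1), (1, -1), (2, -2)]), (560, [(0, 2), (1, 1), (2, 0)]), (576, [(1, 2), (2, 1)]),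
  (616, [(-2, 2), (-1, 1), (1, -1), (2, -2)]), (640, [(-2, -2)]), (660, [(-2, 2), (-1, 1), (1, -1), (2, -2)])]
theorem tA_ok : TbOk 443520 11 5 0 tA = true := by decide +kernel
def tB : List (ℕ × List U) := [
  (24, [(-2, -2)]), (28, [(-1, 0), (0, -1)]), (32, [(0, 2), (1, 1), (2, 0)]), (33, [(-1, 1), (1, -1)]),
  (35, [(-2, -2)]), (40, [(-2, -1), (-1, -2)]), (42, [(2, 2)]), (44, [(-2, 2), (-1, 1), (1, -1), (2, -2)]),
  (45, [(-2, 0), (-1, -1), (0, -2)]), (48, [(1, 2), (2, 1)]), (55, [(-2, 2), (-1, 1), (1, -1), (2, -2)]),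
  (56, [(-2, 0), (-1, -1), (0, -2)]), (60, [(-1, 2), (0, 1), (1, 0), (2, -1)]), (64, [(2, 2)]),
  (66, [(-2, 2), (-1, 1), (1, -1), (2, -2)]), (70, [(1, 2), (2, 1)]), (72, [(-2, 1), (-1, 0), (0, -1), (1, -2)]),
  (77, [(-2, 2), (-1, 1), (1, -1), (2, -2)]), (84, [(-2, -1), (-1, -2)]), (88, [(-2, 2), (-1, 1), (1, -1), (2, -2)]),
  (90, [(-2, -2)]), (99, [(-2, 2), (-1, 1), (1, -1), (2, -2)]), (105, [(-2, 1), (-1, 0), (0, -1), (1, -2)]),
  (110, [(-2, 2), (-1, 1), (1, -1), (2, -2)]), (112, [(-2, -2)]), (120, [(0, 2), (1, 1), (2, 0)]),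
  (126, [(-1, 2), (0, 1), (1, 0), (2, -1)]), (128, [(-2, -1), (-1, -2)]),
  (132, [(-2, 2), (-1, 1), (1, -1), (2, -2)]), (144, [(-2, 0), (-1, -1), (0, -2)]),
  (154, [(-2, 2), (-1, 1), (1, -1), (2, -2)]), (160, [(-2, 1), (-1, 0), (0, -1), (1, -2)]),
  (165, [(-2, 2), (-1, 1), (1, -1), (2, -2)]), (176, [(-2, 2), (-1, 1), (1, -1), (2, -2)]), (180, [(1, 2), (2, 1)]),
  (192, [(-1, 2), (0, 1), (1, 0), (2, -1)]), (198, [(-2, 2), (-1, 1), (1, -1), (2, -2)]),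
  (210, [(-2, 0), (-1, -1), (0, -2)]), (220, [(-2, 2), (-1, 1), (1, -1), (2, -2)]), (224, [(1, 2), (2, 1)]),
  (231, [(-2, 2), (-1, 1), (1, -1), (2, -2)]), (240, [(2, 2)]), (252, [(0, 2), (1, 1), (2, 0)]),
  (264, [(-2, 2), (-1, 1), (1, -1), (2, -2)]), (280, [(-1, 2), (0, 1), (1, 0), (2, -1)]), (288, [(-2, -2)]),
  (308, [(-2, 2), (-1, 1), (1, -1), (2, -2)]), (315, [(-2, -1), (-1, -2)]), (320, [(-2, 0), (-1, -1), (0, -2)]),
  (330, [(-2, 2), (-1, 1), (1, -1), (2, -2)]), (336, [(-2, 1), (-1, 0), (0, -1), (1, -2)]),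
  (352, [(-2, 2), (-1, 1), (1, -1), (2, -2)]), (384, [(0, 2), (1, 1), (2, 0)]),
  (385, [(-2, 2), (-1, 1), (1, -1), (2, -2)]), (396, [(-2, 2), (-1, 1), (1, -1), (2, -2)]), (420, [(-2, -2)]),
  (440, [(-2, 2), (-1, 1), (1, -1), (2, -2)]), (462, [(-2, 2), (-1, 1), (1, -1), (2, -2)]),
  (480, [(-2, -1), (-1, -2)]), (495, [(-2, 2), (-1, 1), (1, -1), (2, -2)]), (504, [(2, 2)]),
  (528, [(-2, 2), (-1, 1), (1, -1), (2, -2)]), (560, [(0, 2), (1, 1), (2, 0)]), (576, [(1, 2), (2, 1)]),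
  (616, [(-2, 2), (-1, 1), (1, -1), (2, -2)]), (640, [(-2, -2)]), (660, [(-2, 2), (-1, 1), (1, -1), (2, -2)])]
theorem tB_ok : TbOk 443520 11 5 2 tB = true := by decide +kernel
def tC : List (ℕ × List U) := [
  (24, [(-2, -2)]), (32, [(1, 1)]), (35, [(-2, -2)]), (36, [(-3, -3)]), (42, [(2, 2)]), (45, [(-1, -1)]),
  (56, [(-1, -1)]), (63, [(3, 3)]), (64, [(2, 2)]), (80, [(-3, -3)]), (90, [(-2, -2)]), (96, [(3, 3)]),
  (112, [(-2, -2)]), (120, [(1, 1)]), (140, [(3, 3)]), (144, [(-1, -1)]), (168, [(-3, -3)]), (210, [(-1, -1)]),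
  (240, [(2, 2)]), (252, [(1, 1)]), (288, [(-2, -2)]), (320, [(-1, -1)]), (360, [(3, 3)]), (384, [(1, 1)]),
  (420, [(-2, -2)]), (448, [(3, 3)]), (504, [(2, 2)]), (560, [(1, 1)]), (630, [(-3, -3)]), (640, [(-2, -2)])]
theorem tC_ok : TbOk 443520 11 10 2 tC = true := by decide +kernel
def t73 : List (ℕ × List U) := [
  (3, [(0, 1), (1, 0)]), (4, [(-1, 0), (0, -1)]), (6, [(1, 1)]), (7, [(-1, 1), (1, -1)]), (8, [(-1, -1)]),
  (10, [(0, 1), (1, 0)]), (11, [(-1, 0), (0, -1)]), (14, [(-1, 1), (1, -1)]), (15, [(-1, -1)]),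
  (18, [(-1, 0), (0, -1)]), (20, [(1, 1)]), (21, [(-1, 1), (1, -1)]), (22, [(-1, -1)]), (24, [(0, 1), (1, 0)]),
  (28, [(-1, 1), (1, -1)]), (32, [(-1, 0), (0, -1)]), (35, [(-1, 1), (1, -1)]), (36, [(-1, -1)]),
  (42, [(-1, 1), (1, -1)]), (45, [(0, 1), (1, 0)]), (48, [(1, 1)]), (55, [(1, 1)]), (56, [(-1, 1), (1, -1)]),
  (60, [(-1, 0), (0, -1)]), (63, [(-1, 1), (1, -1)]), (64, [(-1, -1)]), (66, [(0, 1), (1, 0)]),
  (70, [(-1, 1), (1, -1)]), (77, [(-1, 1), (1, -1)]), (80, [(0, 1), (1, 0)]), (84, [(-1, 1), (1, -1)]),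
  (88, [(-1, 0), (0, -1)]), (90, [(1, 1)]), (99, [(-1, -1)]), (105, [(-1, 1), (1, -1)]), (112, [(-1, 1), (1, -1)]),
  (120, [(-1, -1)]), (126, [(-1, 1), (1, -1)]), (132, [(1, 1)]), (140, [(-1, 1), (1, -1)]),
  (144, [(-1, 0), (0, -1)]), (154, [(-1, 1), (1, -1)]), (160, [(1, 1)]), (165, [(-1, 0), (0, -1)]),
  (168, [(-1, 1), (1, -1)]), (176, [(-1, -1)]), (192, [(0, 1), (1, 0)]), (210, [(-1, 1), (1, -1)]),
  (220, [(0, 1), (1, 0)]), (224, [(-1, 1), (1, -1)]), (231, [(-1, 1), (1, -1)]), (252, [(-1, 1), (1, -1)]),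
  (280, [(-1, 1), (1, -1)]), (288, [(-1, -1)]), (308, [(-1, 1), (1, -1)]), (315, [(-1, 1), (1, -1)]),
  (330, [(-1, -1)]), (336, [(-1, 1), (1, -1)]), (360, [(0, 1), (1, 0)]), (384, [(1, 1)]), (385, [(-1, 1), (1, -1)]),
  (396, [(-1, 0), (0, -1)]), (420, [(-1, 1), (1, -1)]), (440, [(1, 1)]), (448, [(-1, 1), (1, -1)]),
  (462, [(-1, 1), (1, -1)]), (480, [(-1, 0), (0, -1)]), (504, [(-1, 1), (1, -1)]), (528, [(0, 1), (1, 0)]),
  (560, [(-1, 1), (1, -1)]), (616, [(-1, 1), (1, -1)]), (630, [(-1, 1), (1, -1)]), (640, [(0, 1), (1, 0)])]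
theorem t73_ok : TbOk 443520 7 3 0 t73 = true := by decide +kernel
def t76 : List (ℕ × List U) := [
  (2, [(-2, -2)]), (6, [(1, 1)]), (8, [(-1, -1)]), (9, [(-2, -2)]), (12, [(2, 2)]), (15, [(-1, -1)]),
  (16, [(-2, -2)]), (20, [(1, 1)]), (22, [(-1, -1)]), (30, [(-2, -2)]), (33, [(2, 2)]), (36, [(-1, -1)]),
  (40, [(2, 2)]), (44, [(-2, -2)]), (48, [(1, 1)]), (55, [(1, 1)]), (64, [(-1, -1)]), (72, [(-2, -2)]),
  (90, [(1, 1)]), (96, [(2, 2)]), (99, [(-1, -1)]), (110, [(2, 2)]), (120, [(-1, -1)]), (128, [(-2, -2)]),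
  (132, [(1, 1)]), (160, [(1, 1)]), (176, [(-1, -1)]), (180, [(2, 2)]), (198, [(-2, -2)]), (240, [(-2, -2)]),
  (264, [(2, 2)]), (288, [(-1, -1)]), (320, [(2, 2)]), (330, [(-1, -1)]), (352, [(-2, -2)]), (384, [(1, 1)]),
  (440, [(1, 1)]), (495, [(2, 2)]), (576, [(-2, -2)]), (660, [(-2, -2)])]
theorem t76_ok : TbOk 443520 7 6 0 t76 = true := by decide +kernel
def t52 : List (ℕ × List U) := [
  (2, [(0, 1), (1, 0)]), (3, [(-1, 0), (0, -1)]), (4, [(1, 1)]), (5, [(-1, 1), (1, -1)]), (6, [(-1, -1)]),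
  (7, [(0, 1), (1, 0)]), (8, [(-1, 0), (0, -1)]), (9, [(1, 1)]), (10, [(-1, 1), (1, -1)]), (11, [(-1, -1)]),
  (12, [(0, 1), (1, 0)]), (14, [(1, 1)]), (15, [(-1, 1), (1, -1)]), (16, [(-1, -1)]), (18, [(-1, 0), (0, -1)]),
  (20, [(-1, 1), (1, -1)]), (21, [(-1, -1)]), (22, [(0, 1), (1, 0)]), (24, [(1, 1)]), (28, [(-1, 0), (0, -1)]),
  (30, [(-1, 1), (1, -1)]), (32, [(0, 1), (1, 0)]), (33, [(-1, 0), (0, -1)]), (35, [(-1, 1), (1, -1)]),
  (36, [(-1, -1)]), (40, [(-1, 1), (1, -1)]), (42, [(0, 1), (1, 0)]), (44, [(1, 1)]), (45, [(-1, 1), (1, -1)]),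
  (48, [(-1, 0), (0, -1)]), (55, [(-1, 1), (1, -1)]), (56, [(-1, -1)]), (60, [(-1, 1), (1, -1)]),
  (63, [(-1, 0), (0, -1)]), (64, [(1, 1)]), (66, [(-1, -1)]), (70, [(-1, 1), (1, -1)]), (72, [(0, 1), (1, 0)]),
  (77, [(0, 1), (1, 0)]), (80, [(-1, 1), (1, -1)]), (84, [(1, 1)]), (88, [(-1, 0), (0, -1)]),
  (90, [(-1, 1), (1, -1)]), (96, [(-1, -1)]), (99, [(1, 1)]), (105, [(-1, 1), (1, -1)]), (110, [(-1, 1), (1, -1)]),
  (112, [(0, 1), (1, 0)]), (120, [(-1, 1), (1, -1)]), (126, [(-1, -1)]), (128, [(-1, 0), (0, -1)]),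
  (132, [(0, 1), (1, 0)]), (140, [(-1, 1), (1, -1)]), (144, [(1, 1)]), (154, [(1, 1)]), (160, [(-1, 1), (1, -1)]),
  (165, [(-1, 1), (1, -1)]), (168, [(-1, 0), (0, -1)]), (176, [(-1, -1)]), (180, [(-1, 1), (1, -1)]),
  (192, [(0, 1), (1, 0)]), (198, [(-1, 0), (0, -1)]), (210, [(-1, 1), (1, -1)]), (220, [(-1, 1), (1, -1)]),
  (224, [(1, 1)]), (231, [(-1, -1)]), (240, [(-1, 1), (1, -1)]), (252, [(0, 1), (1, 0)]), (264, [(1, 1)]),
  (280, [(-1, 1), (1, -1)]), (288, [(-1, 0), (0, -1)]), (308, [(-1, 0), (0, -1)]), (315, [(-1, 1), (1, -1)]),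
  (320, [(-1, 1), (1, -1)]), (330, [(-1, 1), (1, -1)]), (336, [(-1, -1)]), (352, [(0, 1), (1, 0)]),
  (360, [(-1, 1), (1, -1)]), (384, [(1, 1)]), (385, [(-1, 1), (1, -1)]), (396, [(-1, -1)]),
  (420, [(-1, 1), (1, -1)]), (440, [(-1, 1), (1, -1)]), (448, [(-1, 0), (0, -1)]), (462, [(0, 1), (1, 0)]),
  (480, [(-1, 1), (1, -1)]), (495, [(-1, 1), (1, -1)]), (504, [(1, 1)]), (528, [(-1, 0), (0, -1)]),
  (560, [(-1, 1), (1, -1)]), (576, [(-1, -1)]), (616, [(-1, -1)]), (630, [(-1, 1), (1, -1)]),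
  (640, [(-1, 1), (1, -1)]), (660, [(-1, 1), (1, -1)])]
theorem t52_ok : TbOk 443520 5 2 0 t52 = true := by decide +kernel
def t54 : List (ℕ × List U) := [
  (2, [(-2, -2)]), (4, [(1, 1)]), (6, [(-1, -1)]), (7, [(-2, -2)]), (8, [(2, 2)]), (9, [(1, 1)]), (11, [(-1, -1)]),
  (12, [(-2, -2)]), (14, [(1, 1)]), (16, [(-1, -1)]), (18, [(2, 2)]), (21, [(-1, -1)]), (22, [(-2, -2)]),
  (24, [(1, 1)]), (28, [(2, 2)]), (32, [(-2, -2)]), (33, [(2, 2)]), (36, [(-1, -1)]), (42, [(-2, -2)]),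
  (44, [(1, 1)]), (48, [(2, 2)]), (56, [(-1, -1)]), (63, [(2, 2)]), (64, [(1, 1)]), (66, [(-1, -1)]),
  (72, [(-2, -2)]), (77, [(-2, -2)]), (84, [(1, 1)]), (88, [(2, 2)]), (96, [(-1, -1)]), (99, [(1, 1)]),
  (112, [(-2, -2)]), (126, [(-1, -1)]), (128, [(2, 2)]), (132, [(-2, -2)]), (144, [(1, 1)]), (154, [(1, 1)]),
  (168, [(2, 2)]), (176, [(-1, -1)]), (192, [(-2, -2)]), (198, [(2, 2)]), (224, [(1, 1)]), (231, [(-1, -1)]),
  (252, [(-2, -2)]), (264, [(1, 1)]), (288, [(2, 2)]), (308, [(2, 2)]), (336, [(-1, -1)]), (352, [(-2, -2)]),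
  (384, [(1, 1)]), (396, [(-1, -1)]), (448, [(2, 2)]), (462, [(-2, -2)]), (504, [(1, 1)]), (528, [(2, 2)]),
  (576, [(-1, -1)]), (616, [(-1, -1)])]
theorem t54_ok : TbOk 443520 5 4 0 t54 = true := by decide +kernel
def W0 : List Wt := [
  (10, 3, []), (14, 3, []), (20, 4, []), (28, 5, []), (30, 5, []), (40, 6, []), (42, 6, []), (56, 7, []),
  (60, 7, []), (70, 8, []), (80, 8, []), (84, 9, []), (90, 9, []), (112, 10, []), (120, 10, []), (126, 11, []),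
  (128, 11, []), (140, 11, []), (160, 12, []), (168, 12, []), (180, 13, []), (210, 14, []), (224, 14, []),
  (240, 15, []), (252, 15, []), (280, 16, []), (320, 17, []), (336, 18, []), (360, 18, []), (384, 19, []),
  (420, 20, []), (448, 21, []), (480, 21, []), (504, 22, []), (560, 23, []), (630, 25, []), (640, 25, []),
  (672, 25, []), (720, 26, []), (840, 28, []), (896, 29, []), (960, 30, []), (1008, 31, []), (1120, 33, []),
  (1152, 33, []), (1260, 35, []), (1344, 36, []), (1440, 37, []), (1680, 40, []), (1920, 43, []), (2016, 44, []),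
  (2240, 47, []), (2520, 50, []), (2688, 51, []), (2880, 53, []), (3360, 57, []), (4032, 63, []), (4480, 66, []),
  (5040, 70, []), (5760, 75, []), (6720, 81, []), (8064, 89, []), (10080, 100, []), (13440, 115, []),
  (20160, 141, []), (40320, 200, [])]
theorem W0_ok : w0ok 1 (fun x => Nat.beq (x % 2) 0 && (Nat.beq (x % 128) 0 || (Nat.beq (x % 5) 0 || Nat.beq (x % 7) 0))) W0 = true := by
  decide +kernel
def W1 : List Wt := [
  (22, 4, []), (44, 6, []), (66, 8, []), (88, 9, []), (110, 10, []), (132, 11, []), (154, 12, []), (176, 13, []),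
  (198, 14, []), (220, 14, []), (264, 16, []), (308, 17, []), (330, 18, []), (352, 18, []), (396, 19, []),
  (440, 20, []), (462, 21, []), (528, 22, []), (616, 24, []), (660, 25, []), (704, 26, []), (770, 27, []),
  (792, 28, []), (880, 29, []), (924, 30, []), (990, 31, []), (1056, 32, []), (1232, 35, []), (1320, 36, []),
  (1386, 37, []), (1408, 37, []), (1540, 39, []), (1584, 39, []), (1760, 41, []), (1848, 42, []), (1980, 44, []),
  (2112, 45, []), (2310, 48, []), (2464, 49, []), (2640, 51, []), (2772, 52, []), (3080, 55, []), (3168, 56, []),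
  (3520, 59, []), (3696, 60, []), (3960, 62, []), (4224, 64, []), (4620, 67, []), (4928, 70, []), (5280, 72, []),
  (5544, 74, []), (6160, 78, []), (6336, 79, []), (6930, 83, []), (7040, 83, []), (7392, 85, []), (7920, 88, []),
  (9240, 96, []), (9856, 99, []), (10560, 102, []), (11088, 105, []), (12320, 110, []), (12672, 112, []),
  (13860, 117, []), (14784, 121, []), (15840, 125, []), (18480, 135, []), (21120, 145, []), (22176, 148, []),
  (24640, 156, []), (27720, 166, []), (29568, 171, []), (31680, 177, []), (36960, 192, []), (44352, 210, []),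
  (49280, 221, []), (55440, 235, []), (63360, 251, []), (73920, 271, []), (88704, 297, []), (110880, 332, []),
  (147840, 384, []), (221760, 470, []), (443520, 665, [])]
theorem W1_ok : w0ok 11 (fun x => Nat.beq (x % 2) 0) W1 = true := by decide +kernel
def LBn : List (List ℕ) := [
  [355, 348, 137], [355, 348, 786, 786, 676, 676], [355, 348, 2898, 1380, 676, 676],
  [355, 348, 3602, 2084, 676, 676], [355, 348, 9234, 7716, 676, 676], [355, 348, 3602, 1380, 1380, 676],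
  [355, 348, 16164, 13458, 3602, 676], [355, 348, 2084, 786, 786, 786], [355, 348, 2898, 2084, 1380, 786],
  [355, 348, 3602, 2084, 2084, 786], [355, 348, 9234, 7716, 2084, 786], [355, 348, 7716, 3602, 3602, 786],
  [355, 348, 24612, 20498, 3602, 786], [355, 348, 20498, 16164, 2084, 2084], [355, 348, 16164, 9234, 9234, 2084],
  [355, 348, 24612, 13458, 13458, 2084], [355, 348, 16164, 9234, 3602, 3602], [355, 348, 20498, 16164, 7716, 3602],
  [355, 348, 35876, 13458, 13458, 9234], [355, 348, 24612, 20498, 20498, 16164], [410, 403, 2898, 2084, 676, 676],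
  [410, 403, 1380, 786, 786, 676], [410, 403, 2898, 1380, 1380, 676], [410, 403, 3602, 2084, 1380, 676],
  [410, 403, 9234, 7716, 1380, 676], [410, 403, 16164, 13458, 2898, 676], [410, 403, 2898, 2084, 2084, 786],
  [410, 403, 7716, 3602, 2898, 786], [410, 403, 24612, 20498, 2898, 786], [410, 403, 3602, 1380, 1380, 1380],
  [410, 403, 16164, 13458, 3602, 1380], [410, 403, 16164, 9234, 3602, 2898], [410, 403, 20498, 16164, 7716, 2898],
  [1059, 1052, 2898, 676, 676, 676], [1059, 1052, 3602, 1380, 676, 676], [1059, 1052, 2898, 2084, 786, 676],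
  [1059, 1052, 1380, 786, 786, 786], [1059, 1052, 2898, 1380, 1380, 786], [1059, 1052, 3602, 2084, 1380, 786],
  [1059, 1052, 9234, 7716, 1380, 786], [1059, 1052, 16164, 13458, 2898, 786], [1059, 1052, 20498, 16164, 2084, 1380],
  [1059, 1052, 16164, 9234, 9234, 1380], [1059, 1052, 24612, 13458, 13458, 1380],
  [1059, 1052, 7716, 2898, 2898, 2898], [1059, 1052, 13458, 7716, 7716, 2898],
  [1059, 1052, 24612, 13458, 9234, 2898], [1818, 1811, 1380, 786, 676, 676], [1818, 1811, 2898, 2084, 2084, 676],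
  [1818, 1811, 7716, 3602, 2898, 676], [1818, 1811, 24612, 20498, 2898, 676], [1818, 1811, 2084, 1380, 786, 786],
  [1818, 1811, 2898, 2084, 1380, 1380], [1818, 1811, 3602, 2084, 2084, 1380], [1818, 1811, 9234, 7716, 2084, 1380],
  [1818, 1811, 7716, 3602, 3602, 1380], [1818, 1811, 24612, 20498, 3602, 1380],
  [1818, 1811, 16164, 13458, 2898, 2084], [3875, 3868, 2898, 786, 786, 676], [3875, 3868, 2898, 2898, 1380, 676],
  [3875, 3868, 13458, 7716, 1380, 676], [3875, 3868, 3602, 2898, 2084, 676], [3875, 3868, 9234, 7716, 2898, 676],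
  [3875, 3868, 3602, 1380, 786, 786], [3875, 3868, 20498, 16164, 1380, 786], [3875, 3868, 3602, 2898, 1380, 1380],
  [3875, 3868, 9234, 2084, 2084, 1380], [3875, 3868, 3602, 3602, 2084, 1380], [3875, 3868, 9234, 7716, 3602, 1380],
  [3875, 3868, 20498, 7716, 7716, 1380], [3875, 3868, 24612, 20498, 9234, 1380],
  [3875, 3868, 16164, 13458, 3602, 2898], [4634, 4627, 2084, 1380, 676, 676], [4634, 4627, 7716, 2898, 786, 676],
  [4634, 4627, 1380, 1380, 1380, 676], [4634, 4627, 16164, 13458, 1380, 676], [4634, 4627, 16164, 9234, 2898, 676],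
  [4634, 4627, 2084, 2084, 1380, 786], [4634, 4627, 7716, 3602, 1380, 786], [4634, 4627, 24612, 20498, 1380, 786],
  [4634, 4627, 16164, 9234, 3602, 1380], [4634, 4627, 20498, 16164, 7716, 1380],
  [4634, 4627, 24612, 13458, 3602, 2898], [6746, 6739, 7716, 786, 786, 676], [6746, 6739, 16164, 9234, 786, 676],
  [6746, 6739, 7716, 2898, 1380, 676], [6746, 6739, 2084, 2084, 2084, 676], [6746, 6739, 7716, 3602, 2084, 676],
  [6746, 6739, 24612, 20498, 2084, 676], [6746, 6739, 9234, 7716, 7716, 676], [6746, 6739, 24612, 9234, 9234, 676],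
  [6746, 6739, 24612, 13458, 3602, 786], [6746, 6739, 2084, 2084, 1380, 1380], [6746, 6739, 7716, 3602, 1380, 1380],
  [6746, 6739, 24612, 20498, 1380, 1380], [6746, 6739, 16164, 13458, 2084, 2084],
  [6746, 6739, 16164, 3602, 2898, 2898], [6746, 6739, 16164, 13458, 7716, 3602],
  [6746, 6739, 24612, 20498, 16164, 13458], [8099, 8092, 9234, 1380, 786, 676], [8099, 8092, 2898, 2898, 2898, 676],
  [8099, 8092, 13458, 7716, 2898, 676], [8099, 8092, 3602, 2898, 786, 786], [8099, 8092, 20498, 16164, 2898, 786],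
  [8099, 8092, 13458, 2084, 2084, 1380], [8099, 8092, 3602, 2898, 2898, 1380], [8099, 8092, 13458, 7716, 3602, 1380],
  [8099, 8092, 24612, 20498, 13458, 1380], [8099, 8092, 9234, 2898, 2084, 2084],
  [8099, 8092, 3602, 3602, 2898, 2084], [8099, 8092, 9234, 7716, 3602, 2898], [8099, 8092, 20498, 7716, 7716, 2898],
  [8099, 8092, 24612, 20498, 9234, 2898], [10266, 10259, 7716, 1380, 676, 676],
  [10266, 10259, 16164, 3602, 2898, 676], [10266, 10259, 7716, 2084, 1380, 786],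
  [10266, 10259, 16164, 9234, 2084, 1380], [10266, 10259, 16164, 3602, 3602, 1380],
  [10266, 10259, 24612, 13458, 2898, 2084], [10266, 10259, 35876, 13458, 9234, 2898],
  [12323, 12316, 13458, 1380, 786, 676], [12323, 12316, 9234, 2898, 786, 676], [12323, 12316, 9234, 3602, 1380, 786],
  [12323, 12316, 20498, 7716, 1380, 786], [12323, 12316, 20498, 16164, 9234, 1380],
  [12323, 12316, 13458, 2898, 2084, 2084], [12323, 12316, 3602, 2898, 2898, 2898],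
  [12323, 12316, 13458, 7716, 3602, 2898], [12323, 12316, 24612, 20498, 13458, 2898],
  [17955, 17948, 20498, 1380, 676, 676], [17955, 17948, 13458, 2898, 786, 786],
  [17955, 17948, 20498, 2084, 1380, 786], [17955, 17948, 9234, 9234, 1380, 786],
  [17955, 17948, 13458, 2898, 2898, 1380], [17955, 17948, 13458, 13458, 7716, 1380],
  [17955, 17948, 13458, 3602, 2898, 2084], [17955, 17948, 9234, 2898, 2898, 2898],
  [17955, 17948, 13458, 9234, 7716, 2898], [21530, 21523, 24612, 2898, 786, 676],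
  [21530, 21523, 16164, 7716, 2898, 676], [21530, 21523, 24612, 3602, 1380, 786],
  [21530, 21523, 16164, 2084, 2084, 1380], [21530, 21523, 16164, 7716, 3602, 1380]]
def dc (n : ℕ) : R := (n / 64, [(Int.subNatNat (n / 8 % 8) 3, Int.subNatNat (n % 8) 3)])
def LB : List (List R × List R) := LBn.map fun l => ((l.take 2).map dc, (l.drop 2).map dc)
theorem LB_ok : extL 443520 11 5 1 tA 1 (List.replicate 0 0) [] [] (fun _ Ne Nn => decide ((Ne, Nn) ∈ LB)) = true := by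
  decide +kernel

end CfH4.En
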