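import Cfsg.Agent.H4.Ru4
/-! Certificates for the automorphisms of the Rudvalis graph. -/
set_option autoImplicit false
set_option maxRecDepth 100000
namespace CfH4.Ru
open CfH6 CfL
noncomputable def dtr0 : DT := .n 17 (.n 10 (.n 11 (.n 5 (.n 2 (.n 12 (.n 4 (.n 3 (.l 4028) (.l 1905)) (.n 7 (.l 3626) (.n 14 (.l 2208) (.l 3872)))) (.n 4 (.n 7 (.l 2067) (.l 1945)) (.n 3 (.n 14 (.l 2464) (.l 2527)) (.l 2232)))) (.n 3 (.n 4 (.n 6 (.l 3748) (.l 3986)) (.n 6 (.l 1903) (.n 8 (.l 1933) (.l 1839)))) (.n 6 (.n 13 (.l 3931) (.l 3802)) (.n 4 (.l 2347) (.n 7 (.l 3011) (.l 2888)))))) (.n 12 (.n 2 (.n 3 (.n 4 (.n 8 (.l 3892) (.l 3796)) (.l 2083)) (.n 4 (.l 2238) (.l 3039))) (.n 3 (.n 4 (.l 3158) (.n 8 (.l 2599) (.l 1784))) (.n 8 (.l 3229) (.l 2603)))) (.n 4 (.n 2 (.n 3 (.n 14 (.l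 3563) (.l 3795)) (.l 1899)) (.n 6 (.l 3411) (.l 2288))) (.n 8 (.n 6 (.l 1979) (.l 1818)) (.n 3 (.l 3844) (.l 2326)))))) (.n 3 (.n 6 (.n 2 (.n 7 (.n 4 (.n 5 (.l 2920) (.l 3868)) (.l 2956)) (.n 4 (.n 8 (.l 2827) (.l 3675)) (.l 3957))) (.n 8 (.n 7 (.l 3719) (.l 2137)) (.n 4 (.l 3901) (.l 2853)))) (.n 5 (.n 7 (.n 2 (.n 12 (.l 1885) (.l 2779)) (.l 2142)) (.n 14 (.l 3951) (.l 3787))) (.n 7 (.n 8 (.l 3746) (.l 1858)) (.n 2 (.n 4 (.l 1867) (.l 2001)) (.l 3763))))) (.n 6 (.n 12 (.n 18 (.n 4 (.n 15 (.l 3289) (.l 1810)) (.l 3213)) (.n 2 (.l 3306) (.l 2860))) (.n 4 (.n 2 (.l 3043) (.l 2952)) (.n 7 (.n 13 (.l 3466) (.l 1856)) (.l 1805)))) (.n 5 (.n 4 (.n 7 (.l 1886) (.l 3490)) (.n 7 (.l 3692) (.l 2508))) (.n 2 (.n 13 (.l 1840) (.l 2909)) (.n 4 (.n 12 (.l 2046) (.l 2807)) (.l 3926)))))))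 (.n 2 (.n 5 (.n 3 (.n 8 (.n 6 (.n 4 (.n 11 (.l 2389) (.l 3920)) (.l 2072)) (.n 7 (.l 2856) (.l 2293))) (.n 4 (.n 6 (.n 7 (.l 2114) (.l 3502)) (.l 2057)) (.n 7 (.l 1909) (.l 3756)))) (.n 4 (.n 6 (.n 7 (.n 8 (.l 3429) (.l 3932)) (.l 2941)) (.n 7 (.n 11 (.l 2309) (.l 3824)) (.l 3216))) (.n 6 (.n 7 (.l 2084) (.n 13 (.l 1813) (.l 3849))) (.n 8 (.l 2061) (.l 3537))))) (.n 14 (.n 3 (.n 6 (.n 7 (.n 8 (.l 2961) (.l 2682)) (.l 4059)) (.n 4 (.l 3789) (.l 1788))) (.n 7 (.n 4 (.n 12 (.l 3975) (.l 2403)) (.l 3774)) (.n 4 (.n 11 (.l 2052) (.l 2085)) (.l 1831)))) (.n 4 (.n 6 (.n 7 (.l 2166) (.l 3979)) (.n 3 (.l 3349) (.n 7 (.l 3867) (.l 3813)))) (.n 7 (.n 3 (.l 1992) (.n 8 (.l 2445) (.l 4047))) (.n 6 (.l 3781) (.l 2595)))))) (.n 15 (.n 5 (.n 3 (.n 4 (.n 6 (.l 2773) (.n 11 (.l 1929)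 (.l 2873))) (.n 6 (.l 2587) (.l 2657))) (.n 6 (.n 13 (.l 1965) (.l 4024)) (.n 7 (.l 1991) (.n 8 (.l 2295) (.l 1759))))) (.n 4 (.n 7 (.n 3 (.l 3918) (.l 2881)) (.n 6 (.n 8 (.l 1946) (.l 3133)) (.l 1976))) (.n 3 (.n 6 (.l 2261) (.n 7 (.l 3226) (.l 1925))) (.n 6 (.l 3806) (.n 11 (.l 2082) (.l 3880)))))) (.n 4 (.n 11 (.n 3 (.n 5 (.n 6 (.l 2290) (.l 2483)) (.l 2036)) (.n 5 (.l 2899) (.l 2034))) (.n 6 (.n 5 (.n 7 (.l 1800) (.l 2988)) (.l 3992)) (.n 3 (.l 1920) (.l 3770)))) (.n 5 (.n 7 (.n 3 (.n 6 (.l 3372) (.l 2932)) (.l 2913)) (.n 11 (.l 2877) (.l 3820))) (.n 3 (.n 6 (.l 3580) (.l 3337)) (.n 6 (.l 3631) (.l 3878)))))))) (.n 2 (.n 11 (.n 6 (.n 3 (.n 5 (.n 7 (.n 14 (.l 4053) (.l 3934)) (.n 4 (.n 8 (.l 2660) (.l 1922)) (.l 3616))) (.n 7 (.n 10 (.l 3939) (.l 3907)) (.n 4 (.l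 1817) (.l 1806)))) (.n 13 (.n 4 (.n 7 (.n 8 (.l 3410) (.l 1787)) (.l 2041)) (.n 5 (.l 2313) (.l 1796))) (.n 7 (.n 8 (.l 2862) (.n 10 (.l 3925) (.l 3989))) (.n 4 (.l 3735) (.l 3468))))) (.n 4 (.n 3 (.n 8 (.n 7 (.l 3032) (.l 1978)) (.n 10 (.n 12 (.l 3670) (.l 1863)) (.l 3860))) (.n 12 (.n 7 (.l 2825) (.l 2765)) (.n 5 (.l 3966) (.l 1761)))) (.n 8 (.n 3 (.n 7 (.l 3040) (.n 12 (.l 3741) (.l 2669))) (.n 10 (.l 2236) (.l 2670))) (.n 5 (.n 3 (.n 7 (.l 1880) (.l 2341)) (.l 1825)) (.n 7 (.l 1811) (.l 2139)))))) (.n 13 (.n 4 (.n 10 (.n 3 (.n 6 (.n 8 (.l 4025) (.l 2134)) (.l 1756)) (.n 7 (.l 3144) (.l 2112))) (.n 14 (.n 3 (.l 2328) (.n 6 (.l 2901) (.l 2771))) (.n 5 (.n 12 (.l 2029) (.l 3728)) (.l 3798)))) (.n 3 (.n 6 (.n 7 (.l 3587) (.l 3050)) (.n 5 (.l 3051) (.n 12 (.l 1765)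 (.n 15 (.l 3815) (.l 1782))))) (.n 5 (.n 6 (.l 3155) (.l 1975)) (.n 14 (.l 2780) (.l 1891))))) (.n 3 (.n 12 (.n 5 (.n 4 (.n 6 (.l 3963) (.l 3972)) (.l 3945)) (.n 6 (.l 3827) (.l 4039))) (.n 4 (.n 18 (.l 3501) (.l 3948)) (.n 5 (.l 3526) (.n 8 (.l 1908) (.l 2681))))) (.n 5 (.n 6 (.n 7 (.l 4051) (.n 15 (.l 3783) (.l 3865))) (.n 4 (.l 3628) (.l 1892))) (.n 7 (.n 8 (.l 2589) (.n 10 (.l 2109) (.l 3141))) (.n 4 (.n 6 (.l 3850) (.l 3729)) (.l 3639))))))) (.n 5 (.n 3 (.n 19 (.n 4 (.n 6 (.n 8 (.l 3884) (.l 2265)) (.n 7 (.l 3761) (.n 10 (.l 2954) (.l 2478)))) (.n 10 (.n 8 (.l 1871) (.n 14 (.l 3521) (.l 3159))) (.n 7 (.l 3338) (.l 2055)))) (.n 7 (.n 4 (.n 8 (.n 10 (.l 2674) (.l 2809)) (.l 3524)) (.n 6 (.l 2872) (.l 4016))) (.n 4 (.n 6 (.n 11 (.l 3898) (.l 3668)) (.l 3367)) (.n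 6 (.l 1859) (.l 2933))))) (.n 7 (.n 12 (.n 6 (.n 4 (.n 10 (.l 3791) (.l 2266)) (.l 2911)) (.n 4 (.n 8 (.l 2241) (.l 2990)) (.l 2774))) (.n 4 (.n 6 (.n 8 (.l 3914) (.l 1961)) (.l 2764)) (.n 11 (.l 1812) (.l 1940)))) (.n 15 (.n 18 (.n 4 (.n 11 (.l 3025) (.l 3985)) (.l 2412)) (.n 4 (.n 10 (.l 1778) (.l 3800)) (.l 2790))) (.n 6 (.n 4 (.n 11 (.l 3489) (.l 3228)) (.l 3793)) (.n 8 (.l 1794) (.l 3585)))))) (.n 4 (.n 15 (.n 3 (.n 8 (.n 7 (.l 1921) (.l 1997)) (.n 6 (.l 3428) (.l 3147))) (.n 8 (.n 6 (.l 4022) (.l 1969)) (.n 13 (.l 2462) (.l 2879)))) (.n 6 (.n 10 (.n 12 (.l 1855) (.l 2451)) (.n 7 (.n 8 (.l 3625) (.l 3834)) (.l 2379))) (.n 12 (.n 3 (.l 1950) (.l 3854)) (.n 7 (.l 1865) (.l 2656))))) (.n 6 (.n 7 (.n 8 (.n 10 (.l 2586) (.l 1967)) (.n 3 (.n 10 (.l 2940) (.l 3753))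 (.l 2006))) (.n 10 (.n 3 (.n 8 (.l 3810) (.l 3220)) (.l 3734)) (.n 3 (.n 14 (.l 3874) (.l 3832)) (.l 2064)))) (.n 10 (.n 3 (.n 7 (.l 1938) (.l 3134)) (.n 8 (.n 12 (.l 4029) (.l 1910)) (.l 4032))) (.n 3 (.n 14 (.l 3005) (.l 3350)) (.n 8 (.l 1834) (.n 11 (.l 3044) (.l 3523)))))))))
noncomputable def dtr1 : DT := .n 17 (.n 13 (.n 18 (.n 5 (.n 2 (.n 4 (.n 7 (.n 3 (.n 6 (.l 2991) (.l 2053)) (.l 3373)) (.n 3 (.n 8 (.l 4003) (.l 2352)) (.l 1942))) (.n 6 (.n 3 (.l 2040) (.l 2164)) (.n 7 (.l 3859) (.n 8 (.l 3847) (.l 2296))))) (.n 7 (.n 3 (.n 6 (.n 12 (.l 2654) (.l 2945)) (.l 4023)) (.n 6 (.l 4026) (.l 2667))) (.n 8 (.n 3 (.n 10 (.l 1984) (.l 2664)) (.l 3505)) (.n 4 (.l 2331) (.l 3425))))) (.n 6 (.n 3 (.n 2 (.n 7 (.l 3723) (.l 2012)) (.n 4 (.n 8 (.l 2439) (.l 2195)) (.l 1898)))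 (.n 2 (.n 7 (.l 2066) (.l 3221)) (.n 4 (.n 7 (.l 1914) (.l 1951)) (.l 3974)))) (.n 4 (.n 7 (.n 3 (.l 2401) (.n 11 (.l 2914) (.l 2661))) (.n 3 (.l 3997) (.n 10 (.l 2867) (.l 3933)))) (.n 3 (.n 2 (.l 2077) (.l 3831)) (.n 7 (.n 12 (.l 3863) (.l 4054)) (.l 2769)))))) (.n 10 (.n 4 (.n 8 (.n 3 (.n 5 (.l 3760) (.l 1981)) (.n 2 (.n 5 (.l 3888) (.l 3046)) (.l 1833))) (.n 2 (.n 3 (.l 3161) (.n 6 (.l 3866) (.l 1932))) (.n 11 (.l 3919) (.l 3004)))) (.n 2 (.n 3 (.n 12 (.l 2675) (.l 2480)) (.n 6 (.n 7 (.l 3562) (.l 1798)) (.l 2869))) (.n 5 (.n 6 (.n 7 (.l 2287) (.l 3154)) (.l 2141)) (.n 3 (.l 3881) (.l 3940))))) (.n 3 (.n 12 (.n 2 (.n 5 (.n 6 (.l 4004) (.l 1987)) (.l 3693)) (.n 4 (.l 3021) (.l 1780))) (.n 6 (.n 8 (.l 1999) (.l 3928)) (.n 2 (.l 1758) (.n 7 (.l 3533) (.l 3467)))))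 (.n 2 (.n 5 (.n 4 (.l 2596) (.l 1973)) (.n 7 (.n 8 (.l 3718) (.l 1785)) (.l 3418))) (.n 6 (.n 4 (.l 3959) (.n 8 (.l 4048) (.l 2299))) (.n 8 (.l 1926) (.l 3825))))))) (.n 7 (.n 15 (.n 10 (.n 4 (.n 3 (.n 5 (.l 3136) (.n 8 (.l 1776) (.l 3348))) (.n 5 (.n 8 (.l 1907) (.l 2794)) (.l 3334))) (.n 6 (.n 5 (.l 1792) (.n 8 (.l 2679) (.l 1956))) (.n 2 (.l 3030) (.l 3020)))) (.n 3 (.n 6 (.n 2 (.l 2017) (.n 5 (.l 1875) (.l 2882))) (.n 2 (.l 3036) (.n 4 (.l 2088) (.l 3150)))) (.n 4 (.n 6 (.l 3560) (.l 2027)) (.n 8 (.l 4037) (.l 2310))))) (.n 5 (.n 4 (.n 3 (.n 11 (.l 1889) (.l 3981)) (.n 2 (.n 10 (.l 3491) (.l 3140)) (.l 1852))) (.n 3 (.n 6 (.l 3743) (.l 2903)) (.n 6 (.l 2181) (.n 11 (.l 3838) (.l 2951))))) (.n 2 (.n 3 (.n 4 (.l 2210) (.l 3694)) (.n 4 (.n 10 (.l 4018) (.l 3870))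 (.l 2460))) (.n 3 (.n 4 (.l 2028) (.l 3027)) (.n 8 (.l 3953) (.l 1763)))))) (.n 3 (.n 4 (.n 2 (.n 5 (.n 6 (.l 1919) (.l 2788)) (.n 6 (.l 3823) (.n 8 (.l 2145) (.l 3936)))) (.n 5 (.n 11 (.l 1837) (.l 2824)) (.n 8 (.l 2284) (.n 12 (.l 2090) (.l 2588))))) (.n 5 (.n 2 (.n 6 (.l 2022) (.l 4030)) (.n 6 (.l 4033) (.l 1846))) (.n 6 (.n 8 (.n 12 (.l 2234) (.l 3218)) (.l 1994)) (.n 2 (.l 2935) (.l 3536))))) (.n 5 (.n 6 (.n 2 (.n 4 (.l 3755) (.l 1881)) (.n 4 (.l 1850) (.n 12 (.l 4010) (.l 2808)))) (.n 4 (.n 2 (.l 2391) (.l 3976)) (.n 11 (.n 12 (.l 3782) (.l 1767)) (.l 2795)))) (.n 6 (.n 4 (.n 8 (.l 3969) (.l 3818)) (.n 8 (.l 1845) (.l 2231))) (.n 2 (.n 8 (.l 3149) (.l 2776)) (.n 4 (.l 2079) (.n 8 (.l 2784) (.l 3911))))))))) (.n 4 (.n 5 (.n 18 (.n 7 (.n 3 (.n 12 (.n 8 (.n 13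 (.l 1801) (.l 1757)) (.l 3219)) (.n 2 (.l 3162) (.n 10 (.l 2004) (.l 2908)))) (.n 2 (.n 8 (.n 10 (.l 3696) (.l 1789)) (.l 1893)) (.n 6 (.l 3841) (.l 3516)))) (.n 2 (.n 10 (.n 3 (.n 11 (.l 2530) (.l 2054)) (.l 2073)) (.n 11 (.l 1927) (.l 1900))) (.n 3 (.n 6 (.l 2014) (.n 8 (.l 2229) (.l 3817))) (.n 6 (.l 3539) (.l 2584))))) (.n 2 (.n 6 (.n 8 (.n 3 (.n 12 (.l 3351) (.l 1849)) (.l 3531)) (.n 7 (.l 3780) (.l 2852))) (.n 3 (.n 7 (.l 3970) (.l 2937)) (.n 7 (.l 3422) (.n 11 (.l 3828) (.l 3826))))) (.n 3 (.n 8 (.n 6 (.n 7 (.l 1869) (.l 3773)) (.l 2653)) (.n 7 (.n 11 (.l 2950) (.l 1853)) (.l 3333))) (.n 6 (.n 7 (.n 10 (.l 3751) (.l 1912)) (.l 3528)) (.n 10 (.l 3758) (.l 4027)))))) (.n 12 (.n 8 (.n 3 (.n 19 (.n 2 (.n 14 (.l 2414) (.l 3137)) (.l 2038)) (.n 11 (.l 3303) (.l 4002)))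 (.n 2 (.n 6 (.n 19 (.l 3973) (.l 2058)) (.l 3908)) (.n 10 (.l 2893) (.n 11 (.l 3923) (.l 3671))))) (.n 2 (.n 6 (.n 11 (.l 2180) (.l 2957)) (.n 11 (.l 3474) (.n 13 (.l 2263) (.l 2947)))) (.n 3 (.n 18 (.l 2467) (.l 1939)) (.n 6 (.l 3235) (.l 2110))))) (.n 8 (.n 6 (.n 7 (.n 3 (.l 1989) (.l 2065)) (.n 2 (.n 10 (.l 2146) (.l 3506)) (.l 2806))) (.n 3 (.n 2 (.n 11 (.l 2921) (.l 2905)) (.l 3857)) (.n 7 (.l 3717) (.l 1786)))) (.n 11 (.n 3 (.n 6 (.n 13 (.l 1917) (.l 3584)) (.l 2925)) (.n 10 (.l 3807) (.l 3035))) (.n 2 (.n 10 (.l 1829) (.l 2312)) (.n 3 (.l 1959) (.n 6 (.l 1983) (.l 3726)))))))) (.n 5 (.n 10 (.n 3 (.n 15 (.n 12 (.n 2 (.n 7 (.l 4031) (.n 11 (.l 4057) (.l 2678))) (.l 2025)) (.n 6 (.l 2032) (.l 2783))) (.n 6 (.n 7 (.l 1930) (.l 3998)) (.n 2 (.n 7 (.l 3885) (.l 1972))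 (.l 3809)))) (.n 2 (.n 7 (.n 8 (.n 18 (.l 2377) (.l 2324)) (.l 3915)) (.n 6 (.l 3942) (.l 2989))) (.n 6 (.n 7 (.l 3891) (.l 2194)) (.n 13 (.n 15 (.l 4005) (.l 3861)) (.l 2826))))) (.n 13 (.n 2 (.n 6 (.n 3 (.l 3284) (.l 2581)) (.n 7 (.l 3641) (.n 11 (.l 2871) (.l 3877)))) (.n 3 (.n 6 (.n 8 (.l 3010) (.l 3745)) (.l 3724)) (.n 6 (.l 3785) (.l 3762)))) (.n 8 (.n 3 (.n 2 (.l 3853) (.l 1842)) (.n 6 (.l 1860) (.l 2866))) (.n 11 (.n 14 (.l 4009) (.l 2335)) (.n 2 (.n 3 (.l 2138) (.l 2020)) (.l 1906)))))) (.n 12 (.n 15 (.n 7 (.n 6 (.n 8 (.n 13 (.l 3029) (.l 3990)) (.l 2513)) (.n 3 (.l 2857) (.l 3227))) (.n 2 (.n 6 (.l 3737) (.l 3488)) (.n 3 (.l 2787) (.l 3369)))) (.n 3 (.n 6 (.n 7 (.n 10 (.l 3519) (.l 2479)) (.l 1971)) (.n 2 (.l 3993) (.l 4045))) (.n 2 (.n 6 (.l 3983) (.n 7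 (.l 3960) (.l 2876))) (.n 6 (.l 3938) (.l 1873))))) (.n 2 (.n 7 (.n 3 (.n 8 (.l 3769) (.l 2062)) (.n 6 (.n 13 (.l 2237) (.l 2597)) (.l 2890))) (.n 8 (.n 3 (.n 11 (.l 1827) (.l 1962)) (.l 3614)) (.n 10 (.l 3231) (.l 2002)))) (.n 6 (.n 10 (.n 7 (.l 2960) (.l 2456)) (.n 8 (.l 3413) (.l 3558))) (.n 3 (.n 7 (.l 2594) (.n 8 (.l 2019) (.l 2047))) (.n 7 (.l 3739) (.l 3946))))))))
noncomputable def dtr2 : DT := .n 17 (.n 14 (.n 10 (.n 2 (.n 5 (.n 7 (.n 6 (.n 3 (.n 12 (.l 1783) (.l 2671)) (.l 2024)) (.n 11 (.l 2340) (.l 2805))) (.n 4 (.n 11 (.l 3956) (.l 1897)) (.n 3 (.n 11 (.l 2033) (.l 4001)) (.l 2672)))) (.n 3 (.n 6 (.n 7 (.l 1911) (.n 8 (.l 3779) (.l 3967))) (.n 4 (.l 4008) (.l 2949))) (.n 4 (.n 6 (.l 1764) (.l 1770)) (.n 6 (.l 2135) (.n 8 (.l 3954) (.l 1947)))))) (.n 7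 (.n 3 (.n 5 (.n 6 (.n 11 (.l 4043) (.l 2677)) (.n 8 (.l 3534) (.l 2482))) (.n 4 (.l 1790) (.n 8 (.l 3864) (.l 1879)))) (.n 4 (.n 5 (.n 6 (.l 3978) (.l 3339)) (.l 3935)) (.n 6 (.l 1884) (.l 1877)))) (.n 18 (.n 3 (.n 4 (.l 3026) (.n 6 (.l 2023) (.l 2240))) (.n 5 (.l 3833) (.l 3138))) (.n 3 (.n 4 (.l 2878) (.n 6 (.l 2108) (.l 3848))) (.n 4 (.l 3031) (.l 3363)))))) (.n 4 (.n 5 (.n 2 (.n 3 (.n 7 (.l 1832) (.l 1953)) (.n 6 (.l 3720) (.l 3624))) (.n 6 (.n 13 (.l 3900) (.l 3355)) (.n 3 (.n 7 (.l 1854) (.l 3727)) (.l 2233)))) (.n 3 (.n 19 (.n 2 (.l 2517) (.n 6 (.l 2039) (.l 3517))) (.n 2 (.l 3999) (.n 8 (.l 2450) (.l 2883)))) (.n 13 (.n 7 (.l 3871) (.l 3135)) (.n 6 (.l 1802) (.l 1964))))) (.n 3 (.n 11 (.n 2 (.n 8 (.l 4035) (.l 1954)) (.n 6 (.n 7 (.l 2390) (.l 3902)) (.l 1779)))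 (.n 5 (.n 6 (.l 1866) (.l 3477)) (.n 6 (.l 3821) (.l 2165)))) (.n 2 (.n 5 (.n 7 (.n 11 (.l 1773) (.l 3023)) (.l 1993)) (.n 8 (.l 2944) (.l 2016))) (.n 5 (.n 6 (.n 7 (.l 2668) (.l 3408)) (.l 2768)) (.n 6 (.l 2400) (.l 1838))))))) (.n 5 (.n 7 (.n 3 (.n 10 (.n 6 (.n 4 (.l 2267) (.n 8 (.l 3669) (.l 3736))) (.n 2 (.l 3916) (.l 1864))) (.n 4 (.n 6 (.n 8 (.l 2973) (.l 3843)) (.l 3033)) (.n 6 (.l 2143) (.l 4058)))) (.n 11 (.n 2 (.n 4 (.n 6 (.l 3882) (.l 2868)) (.l 3557)) (.n 4 (.l 3812) (.l 1923))) (.n 12 (.n 2 (.l 2792) (.l 2327)) (.n 13 (.l 2015) (.n 15 (.l 2069) (.l 2211)))))) (.n 12 (.n 3 (.n 4 (.n 8 (.n 10 (.l 3929) (.l 3299)) (.l 3725)) (.n 10 (.l 4017) (.l 3022))) (.n 2 (.n 4 (.n 6 (.l 1998) (.l 2662)) (.l 3529)) (.n 6 (.l 3047) (.l 3930)))) (.n 15 (.n 3 (.n 6 (.l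 3143) (.n 18 (.l 3145) (.l 4021))) (.n 4 (.l 1760) (.l 2308))) (.n 2 (.n 6 (.l 2521) (.l 4012)) (.n 3 (.n 8 (.l 3296) (.l 1966)) (.l 2840)))))) (.n 10 (.n 2 (.n 7 (.n 3 (.n 6 (.n 8 (.l 3987) (.l 3530)) (.l 2781)) (.n 6 (.l 3738) (.l 2915))) (.n 3 (.n 4 (.n 8 (.l 3750) (.l 3893)) (.l 3430)) (.n 4 (.l 1887) (.l 3500)))) (.n 3 (.n 4 (.n 7 (.l 4038) (.l 3629)) (.n 7 (.l 3153) (.l 4046))) (.n 6 (.n 7 (.n 8 (.l 3950) (.l 4006)) (.l 3484)) (.n 8 (.l 1821) (.l 3895))))) (.n 11 (.n 2 (.n 4 (.n 6 (.n 7 (.l 2010) (.l 1944)) (.l 3518)) (.n 7 (.l 2789) (.l 2680))) (.n 12 (.n 3 (.n 6 (.l 2910) (.l 3845)) (.l 2865)) (.n 3 (.n 6 (.l 3586) (.l 3764)) (.l 1935)))) (.n 12 (.n 3 (.n 4 (.l 2465) (.l 3869)) (.n 4 (.l 3146) (.n 6 (.l 3744) (.l 2050)))) (.n 3 (.n 2 (.l 3698) (.l 2793)) (.n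 6 (.n 8 (.l 2785) (.l 1974)) (.l 3009)))))))) (.n 19 (.n 2 (.n 7 (.n 3 (.n 8 (.n 4 (.n 5 (.n 6 (.l 2958) (.l 1793)) (.l 2136)) (.n 5 (.n 10 (.l 3672) (.l 2948)) (.l 2018))) (.n 4 (.n 10 (.l 2089) (.l 2855)) (.n 5 (.n 12 (.l 3768) (.l 4011)) (.n 11 (.l 3912) (.l 3816))))) (.n 11 (.n 6 (.n 12 (.l 3835) (.l 3298)) (.n 4 (.l 2376) (.n 8 (.l 2031) (.l 3752)))) (.n 4 (.n 8 (.l 3640) (.l 3875)) (.n 6 (.n 8 (.l 1822) (.l 2242)) (.l 2298))))) (.n 5 (.n 3 (.n 6 (.n 8 (.l 3294) (.l 3995)) (.n 11 (.l 3285) (.n 13 (.l 3776) (.l 2811)))) (.n 11 (.n 6 (.l 2512) (.n 12 (.l 1799) (.l 2076))) (.n 4 (.l 1890) (.l 3368)))) (.n 11 (.n 3 (.n 10 (.l 1990) (.l 3028)) (.n 4 (.l 3674) (.n 12 (.l 2059) (.l 3234)))) (.n 6 (.n 3 (.n 4 (.l 2063) (.l 2133)) (.l 3905)) (.n 14 (.l 2285) (.l 2021))))))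 (.n 15 (.n 4 (.n 11 (.n 6 (.n 3 (.l 4040) (.n 5 (.l 2239) (.l 2045))) (.n 3 (.l 2260) (.n 8 (.l 3906) (.l 2262)))) (.n 5 (.n 7 (.l 3851) (.n 8 (.l 4007) (.l 3876))) (.n 6 (.l 3630) (.l 1931)))) (.n 3 (.n 7 (.n 6 (.l 2922) (.l 2009)) (.n 5 (.l 1841) (.l 3786))) (.n 6 (.n 10 (.l 1901) (.l 2870)) (.n 5 (.l 3581) (.l 3965))))) (.n 3 (.n 7 (.n 5 (.n 6 (.n 8 (.l 1862) (.l 3949)) (.l 1924)) (.n 8 (.l 3772) (.l 2683))) (.n 10 (.n 6 (.l 3475) (.l 2444)) (.n 4 (.l 2519) (.l 1857)))) (.n 4 (.n 5 (.n 6 (.n 7 (.l 2889) (.l 4000)) (.l 2329)) (.n 7 (.l 3996) (.l 1872))) (.n 5 (.n 6 (.l 1824) (.n 7 (.l 3583) (.l 2315))) (.n 6 (.l 2938) (.l 3811))))))) (.n 11 (.n 15 (.n 6 (.n 5 (.n 2 (.n 3 (.l 3302) (.n 4 (.l 3805) (.l 1774))) (.n 4 (.n 8 (.l 2912) (.l 1894)) (.l 3767))) (.n 8 (.n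 2 (.l 3886) (.n 4 (.l 3139) (.l 3855))) (.n 13 (.l 3924) (.l 2786)))) (.n 8 (.n 3 (.n 12 (.n 13 (.l 3740) (.l 3487)) (.l 2906)) (.n 5 (.l 3944) (.l 1882))) (.n 7 (.n 4 (.l 3627) (.l 3896)) (.n 2 (.l 2778) (.l 4055))))) (.n 3 (.n 5 (.n 7 (.n 2 (.n 6 (.l 2476) (.l 3988)) (.l 2585)) (.n 4 (.l 3038) (.l 2963))) (.n 2 (.n 4 (.n 6 (.l 3615) (.l 2463)) (.l 2415)) (.n 4 (.l 3757) (.l 2858)))) (.n 2 (.n 7 (.n 8 (.l 3230) (.l 3132)) (.n 4 (.l 2070) (.l 1904))) (.n 4 (.n 5 (.n 6 (.l 2580) (.l 3982)) (.l 1941)) (.n 5 (.l 2091) (.l 2026)))))) (.n 3 (.n 6 (.n 2 (.n 4 (.n 5 (.l 2531) (.l 4049)) (.n 5 (.n 7 (.l 2838) (.l 3336)) (.l 2346))) (.n 5 (.n 10 (.l 3836) (.l 1996)) (.n 4 (.n 7 (.l 2880) (.l 1949)) (.l 1958)))) (.n 4 (.n 7 (.n 8 (.l 2946) (.n 12 (.l 3431) (.l 4015))) (.n 2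 (.n 5 (.l 2111) (.l 2864)) (.l 3503))) (.n 5 (.n 7 (.l 2013) (.l 2075)) (.n 8 (.l 2924) (.n 10 (.l 3922) (.l 2115)))))) (.n 10 (.n 4 (.n 2 (.n 6 (.l 2078) (.n 8 (.l 2297) (.l 1977))) (.n 6 (.n 8 (.l 2979) (.l 2676)) (.l 3409))) (.n 8 (.n 2 (.n 6 (.l 3352) (.l 2007)) (.l 3962)) (.n 7 (.l 2049) (.l 2516)))) (.n 2 (.n 6 (.n 12 (.l 1936) (.l 1968)) (.n 4 (.n 14 (.l 3899) (.l 1769)) (.l 3007))) (.n 4 (.n 7 (.l 2043) (.l 2286)) (.n 5 (.l 1835) (.l 2892))))))))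
noncomputable def dtr3 : DT := .n 17 (.n 7 (.n 10 (.n 2 (.n 3 (.n 11 (.n 4 (.n 5 (.n 8 (.l 4052) (.l 2030)) (.l 1771)) (.n 6 (.l 2859) (.l 2311))) (.n 4 (.n 5 (.l 2939) (.n 6 (.l 2854) (.l 1795))) (.n 5 (.l 3217) (.l 2953)))) (.n 14 (.n 4 (.n 5 (.l 2334) (.n 6 (.l 3894) (.l 3733))) (.n 5 (.l 3754) (.l 2192))) (.n 12 (.n 6 (.l 1830) (.l 3858)) (.n 4 (.l 1876) (.n 5 (.l 1851) (.l 3873)))))) (.n 4 (.n 15 (.n 3 (.n 5 (.n 6 (.l 3535) (.l 2051)) (.l 3699)) (.n 8 (.l 2457) (.l 3527))) (.n 6 (.n 5 (.l 1943) (.l 2518)) (.n 11 (.n 12 (.l 3759) (.l 1928)) (.l 1955)))) (.n 5 (.n 3 (.n 8 (.l 1902) (.l 2230)) (.n 6 (.l 2325) (.n 12 (.l 3879) (.l 2923)))) (.n 6 (.n 3 (.l 3917) (.l 3730)) (.n 11 (.l 1815) (.n 14 (.l 3362) (.l 3797))))))) (.n 11 (.n 2 (.n 8 (.n 5 (.n 4 (.l 2147) (.l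 1808)) (.n 3 (.n 12 (.l 2782) (.l 3804)) (.l 2772))) (.n 3 (.n 4 (.l 1988) (.l 2962)) (.n 4 (.n 5 (.l 2509) (.l 2602)) (.l 3307)))) (.n 4 (.n 8 (.n 3 (.l 4013) (.l 1888)) (.n 6 (.l 2959) (.l 3332))) (.n 5 (.n 6 (.n 15 (.l 3006) (.l 1843)) (.l 3520)) (.n 3 (.l 3830) (.l 2907))))) (.n 4 (.n 8 (.n 6 (.n 3 (.l 2652) (.n 5 (.l 1836) (.l 2900))) (.n 3 (.l 4042) (.n 12 (.l 2144) (.l 2044)))) (.n 12 (.n 2 (.n 3 (.l 1816) (.l 1957)) (.l 3883)) (.n 6 (.l 2402) (.l 2042)))) (.n 13 (.n 2 (.n 3 (.n 5 (.l 1807) (.l 3955)) (.l 4050)) (.n 3 (.l 1980) (.l 3042))) (.n 2 (.n 5 (.l 3801) (.n 8 (.l 3977) (.l 1896))) (.n 5 (.l 3212) (.l 2481))))))) (.n 4 (.n 10 (.n 13 (.n 2 (.n 6 (.n 3 (.l 3732) (.n 18 (.l 3561) (.l 2978))) (.n 8 (.l 2904) (.l 3961))) (.n 8 (.n 5 (.n 12 (.l 2522) (.l 3525))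 (.l 3775)) (.n 3 (.l 3765) (.l 1934)))) (.n 6 (.n 8 (.n 5 (.l 3522) (.l 2388)) (.n 11 (.l 3794) (.n 12 (.l 2891) (.l 3778)))) (.n 3 (.n 2 (.l 3507) (.n 5 (.l 2209) (.l 2228))) (.n 5 (.l 1918) (.l 3909))))) (.n 13 (.n 19 (.n 2 (.n 6 (.l 1844) (.l 2466)) (.n 3 (.l 3292) (.n 8 (.l 3968) (.l 2598)))) (.n 2 (.n 12 (.l 2011) (.l 3034)) (.n 3 (.l 3819) (.n 6 (.l 2875) (.l 1820))))) (.n 11 (.n 3 (.n 6 (.l 3921) (.l 1915)) (.n 2 (.n 5 (.l 3842) (.l 3731)) (.l 2943))) (.n 2 (.n 5 (.l 3980) (.n 6 (.l 3288) (.l 3423))) (.n 3 (.l 2182) (.l 2056)))))) (.n 5 (.n 2 (.n 6 (.n 10 (.n 11 (.l 3790) (.n 12 (.l 2000) (.l 3485))) (.n 3 (.l 3771) (.l 3890))) (.n 12 (.n 8 (.l 3903) (.l 3716)) (.n 3 (.l 1772) (.l 3721)))) (.n 3 (.n 10 (.n 8 (.l 2839) (.l 3784)) (.n 11 (.n 13 (.l 3927) (.l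 3412)) (.l 1797))) (.n 6 (.n 8 (.l 3556) (.l 3163)) (.n 8 (.l 3822) (.n 10 (.l 3156) (.l 1986)))))) (.n 3 (.n 8 (.n 13 (.n 2 (.l 3295) (.n 11 (.l 2060) (.l 3695))) (.n 2 (.l 3476) (.n 10 (.l 2068) (.l 2074)))) (.n 2 (.n 12 (.l 2931) (.l 2526)) (.n 6 (.n 12 (.l 3941) (.l 3538)) (.l 2659)))) (.n 10 (.n 2 (.n 6 (.n 8 (.l 3354) (.l 3994)) (.l 2936)) (.n 6 (.l 2167) (.l 2861))) (.n 6 (.n 8 (.l 1995) (.n 15 (.l 2810) (.l 3840))) (.n 8 (.l 3742) (.l 1874)))))))) (.n 2 (.n 11 (.n 3 (.n 4 (.n 6 (.n 5 (.n 10 (.l 3152) (.l 2438)) (.n 8 (.n 12 (.l 3041) (.l 2874)) (.l 2087))) (.n 10 (.n 5 (.n 8 (.l 3799) (.l 3792)) (.l 3889)) (.n 7 (.n 8 (.l 2183) (.l 2289)) (.l 3673)))) (.n 8 (.n 5 (.n 12 (.n 13 (.l 1868) (.l 4019)) (.l 3037)) (.n 10 (.l 3504) (.l 1762))) (.n 5 (.n 7 (.n 13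 (.l 2314) (.l 3856)) (.l 1826)) (.n 7 (.l 2413) (.l 3837))))) (.n 7 (.n 4 (.n 5 (.n 6 (.n 10 (.l 2008) (.l 2140)) (.l 4014)) (.n 6 (.l 1870) (.l 3814))) (.n 5 (.n 8 (.n 10 (.l 2930) (.l 3160)) (.l 1847)) (.n 6 (.n 8 (.l 3952) (.l 2081)) (.l 1766)))) (.n 10 (.n 5 (.n 6 (.n 8 (.l 3971) (.l 2071)) (.l 1985)) (.n 13 (.l 1848) (.l 2770))) (.n 4 (.n 5 (.n 6 (.l 3142) (.l 3964)) (.l 1781)) (.n 5 (.l 2113) (.l 2048)))))) (.n 15 (.n 3 (.n 5 (.n 10 (.n 14 (.l 3829) (.l 3469)) (.n 4 (.n 7 (.l 1878) (.l 3532)) (.l 2666))) (.n 4 (.n 6 (.l 2520) (.l 1861)) (.n 6 (.l 2777) (.n 8 (.l 1960) (.l 3958))))) (.n 6 (.n 4 (.n 5 (.l 2080) (.l 3862)) (.n 5 (.n 7 (.l 2663) (.l 3947)) (.l 3024))) (.n 13 (.n 5 (.l 3486) (.n 8 (.l 2791) (.l 3897))) (.n 4 (.n 10 (.l 2378) (.l 3766)) (.l 2902)))))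 (.n 5 (.n 8 (.n 3 (.n 4 (.n 7 (.l 1916) (.l 3788)) (.l 3904)) (.n 4 (.n 10 (.l 3913) (.l 2841)) (.l 2037))) (.n 6 (.n 3 (.n 4 (.l 3887) (.l 2035)) (.l 3424)) (.n 18 (.l 2461) (.l 1883)))) (.n 19 (.n 3 (.n 13 (.l 3747) (.l 3937)) (.n 4 (.n 7 (.l 2934) (.l 1819)) (.l 1895))) (.n 4 (.n 3 (.l 1791) (.l 3991)) (.n 6 (.n 12 (.l 2767) (.l 3353)) (.l 3697))))))) (.n 8 (.n 15 (.n 7 (.n 11 (.n 12 (.n 4 (.l 2863) (.l 3157)) (.n 3 (.n 5 (.l 1804) (.l 1828)) (.l 2766))) (.n 3 (.n 4 (.l 3839) (.l 3984)) (.n 4 (.n 5 (.l 2477) (.l 2235)) (.l 3366)))) (.n 6 (.n 4 (.n 5 (.l 1982) (.l 4036)) (.n 3 (.l 1952) (.l 4056))) (.n 3 (.n 5 (.l 2898) (.l 2292)) (.n 4 (.l 3049) (.l 1768))))) (.n 4 (.n 3 (.n 5 (.n 6 (.l 3008) (.n 7 (.l 3808) (.l 1823))) (.n 6 (.l 2353) (.l 2005))) (.n 5 (.n 7 (.l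 3777) (.l 4041)) (.n 6 (.l 1775) (.n 7 (.l 3293) (.l 2942))))) (.n 5 (.n 6 (.n 10 (.n 11 (.l 1937) (.l 3048)) (.l 2972)) (.n 3 (.n 7 (.l 3749) (.l 2264)) (.l 2291))) (.n 3 (.n 7 (.l 3617) (.l 3297)) (.n 6 (.l 2330) (.n 14 (.l 2193) (.l 2658))))))) (.n 12 (.n 7 (.n 3 (.n 4 (.n 10 (.l 4034) (.l 2294)) (.n 5 (.l 3910) (.n 6 (.l 2775) (.l 3419)))) (.n 5 (.n 10 (.l 3582) (.l 2523)) (.n 4 (.l 2086) (.l 2003)))) (.n 15 (.n 3 (.n 4 (.l 2655) (.l 2673)) (.n 5 (.l 1948) (.n 10 (.l 3943) (.l 2132)))) (.n 4 (.n 3 (.l 1814) (.n 5 (.l 3559) (.l 1913))) (.n 6 (.l 3638) (.l 2665))))) (.n 13 (.n 4 (.n 5 (.n 3 (.n 6 (.l 4044) (.l 3846)) (.l 1970)) (.n 7 (.l 1963) (.l 3148))) (.n 3 (.n 6 (.l 3335) (.l 4020)) (.n 5 (.l 3045) (.l 3803)))) (.n 5 (.n 4 (.n 3 (.n 7 (.l 1777) (.l 2243)) (.l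 3151)) (.n 6 (.l 1809) (.l 1803))) (.n 6 (.n 3 (.l 2955) (.l 2804)) (.n 4 (.l 3722) (.l 3852))))))))
noncomputable def dtr4 : DT := .n 10 (.n 6 (.n 2 (.n 7 (.n 5 (.n 12 (.n 13 (.n 11 (.l 2356) (.l 3121)) (.n 3 (.l 3633) (.l 2359))) (.n 4 (.n 3 (.n 9 (.l 3662) (.l 3173)) (.l 2828)) (.n 9 (.l 3184) (.l 2371)))) (.n 14 (.n 9 (.n 3 (.l 3578) (.l 3387)) (.n 11 (.n 16 (.l 2740) (.l 3444)) (.l 2986))) (.n 3 (.n 4 (.l 3291) (.n 16 (.l 2384) (.l 3543))) (.n 4 (.n 13 (.l 3260) (.l 2542)) (.l 3205))))) (.n 3 (.n 13 (.n 5 (.n 9 (.n 12 (.l 3067) (.l 3191)) (.l 3187)) (.l 3666)) (.n 4 (.n 5 (.l 2624) (.l 2648)) (.l 2121))) (.n 12 (.n 4 (.n 11 (.l 3086) (.l 3275)) (.n 5 (.n 9 (.l 2251) (.l 3417)) (.l 3066))) (.n 4 (.n 5 (.l 3286) (.l 2106)) (.n 5 (.n 9 (.l 3701) (.l 3390)) (.l 3060))))))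 (.n 4 (.n 5 (.n 9 (.n 13 (.n 12 (.l 2590) (.l 2800)) (.n 3 (.l 2600) (.l 2701))) (.n 11 (.n 13 (.l 2252) (.l 3426)) (.n 3 (.n 7 (.l 2274) (.l 3381)) (.l 2247)))) (.n 7 (.n 9 (.n 3 (.n 12 (.l 2993) (.l 2796)) (.l 2532)) (.n 3 (.n 12 (.l 2122) (.l 3678)) (.l 2552))) (.n 15 (.n 3 (.l 3646) (.l 2449)) (.n 9 (.l 3320) (.l 3003))))) (.n 11 (.n 9 (.n 3 (.n 12 (.l 3391) (.l 2404)) (.n 7 (.l 2268) (.l 3266))) (.n 12 (.n 13 (.l 2999) (.l 2204)) (.n 3 (.l 2545) (.l 3577)))) (.n 5 (.n 9 (.n 3 (.l 3327) (.l 2307)) (.n 7 (.l 2119) (.l 2273))) (.n 16 (.n 3 (.l 2847) (.l 3180)) (.n 9 (.l 3096) (.l 3196))))))) (.n 12 (.n 13 (.n 4 (.n 5 (.n 2 (.n 14 (.l 2203) (.l 2372)) (.n 9 (.l 3635) (.l 2501))) (.n 3 (.n 2 (.l 2651) (.l 2430)) (.n 7 (.l 3166) (.l 3492)))) (.n 5 (.n 3 (.n 7 (.n 15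 (.l 2548) (.l 2118)) (.l 2318)) (.n 7 (.l 3550) (.l 2722))) (.n 2 (.n 3 (.l 2100) (.l 2387)) (.n 14 (.l 2363) (.l 2248))))) (.n 7 (.n 4 (.n 2 (.n 3 (.n 5 (.l 2837) (.l 2487)) (.l 2621)) (.n 9 (.l 2124) (.l 2214))) (.n 3 (.n 2 (.l 3194) (.l 3689)) (.n 5 (.l 2829) (.l 2305)))) (.n 2 (.n 3 (.n 5 (.l 2155) (.l 2447)) (.n 4 (.l 3115) (.l 2704))) (.n 3 (.n 4 (.l 3308) (.l 2223)) (.n 4 (.l 2702) (.l 2572)))))) (.n 17 (.n 4 (.n 5 (.n 3 (.n 2 (.l 2225) (.n 11 (.l 3681) (.l 3346))) (.n 7 (.l 2475) (.l 3313))) (.n 2 (.n 3 (.l 2116) (.l 2153)) (.n 7 (.l 2736) (.l 3510)))) (.n 3 (.n 5 (.n 2 (.n 7 (.l 3256) (.l 2615)) (.l 2696)) (.n 9 (.l 3317) (.l 2537))) (.n 5 (.n 7 (.l 3457) (.l 3667)) (.l 3473)))) (.n 2 (.n 5 (.n 9 (.n 3 (.l 3649) (.l 3495)) (.n 4 (.l 3598) (.l 3619))) (.n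 4 (.n 9 (.n 13 (.l 3274) (.l 3290)) (.l 3091)) (.n 3 (.l 3611) (.l 3265)))) (.n 9 (.n 3 (.n 4 (.l 3371) (.l 2737)) (.n 4 (.l 2198) (.l 2895))) (.n 13 (.n 3 (.l 3114) (.l 2350)) (.n 14 (.l 3172) (.l 3597)))))))) (.n 2 (.n 3 (.n 6 (.n 5 (.n 4 (.n 7 (.n 9 (.n 15 (.l 2646) (.l 3642)) (.l 2606)) (.n 9 (.l 3201) (.l 2551))) (.n 12 (.n 14 (.l 2174) (.l 3456)) (.n 9 (.l 3493) (.l 3100)))) (.n 4 (.n 7 (.n 9 (.l 3685) (.n 11 (.l 3247) (.l 3437))) (.n 13 (.l 2709) (.l 2148))) (.n 9 (.n 12 (.l 3309) (.l 2554)) (.n 7 (.l 3322) (.l 3544))))) (.n 11 (.n 9 (.n 12 (.n 4 (.l 2105) (.l 2611)) (.n 15 (.l 3106) (.l 2370))) (.n 4 (.n 5 (.n 12 (.l 3209) (.l 2500)) (.l 3053)) (.n 7 (.l 2218) (.l 3483)))) (.n 14 (.n 5 (.n 4 (.l 2524) (.l 2817)) (.n 15 (.l 2101) (.l 2104))) (.n 15 (.n 5 (.l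 2505) (.l 3328)) (.n 4 (.l 3432) (.l 2514)))))) (.n 6 (.n 4 (.n 13 (.n 5 (.n 7 (.l 3282) (.l 3078)) (.n 7 (.l 3661) (.l 2150))) (.n 5 (.l 3123) (.n 7 (.n 14 (.l 3370) (.l 3574)) (.l 3713)))) (.n 5 (.n 7 (.n 9 (.l 3601) (.l 2339)) (.n 9 (.l 2742) (.l 3125))) (.n 11 (.n 9 (.n 13 (.l 2896) (.l 2342)) (.l 2708)) (.n 16 (.l 2489) (.l 2221))))) (.n 5 (.n 4 (.n 12 (.n 13 (.l 2558) (.l 2405)) (.n 13 (.l 2539) (.l 2926))) (.n 7 (.n 11 (.l 3447) (.l 2280)) (.n 9 (.l 3200) (.l 2097)))) (.n 11 (.n 7 (.n 4 (.l 2714) (.l 3589)) (.n 13 (.l 2969) (.l 2529))) (.n 4 (.n 12 (.l 2547) (.l 2994)) (.n 7 (.l 2578) (.l 2601))))))) (.n 13 (.n 11 (.n 5 (.n 6 (.n 3 (.n 7 (.l 3385) (.l 2420)) (.n 12 (.l 3375) (.l 2279))) (.n 14 (.n 3 (.l 2169) (.l 3364)) (.n 4 (.l 2967) (.l 2399)))) (.n 3 (.n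 6 (.n 9 (.l 3702) (.l 3359)) (.n 7 (.l 2965) (.l 3016))) (.n 6 (.n 7 (.l 2745) (.l 2348)) (.n 4 (.l 2641) (.l 2497))))) (.n 3 (.n 4 (.n 12 (.n 5 (.l 3264) (.l 2848)) (.n 6 (.l 3269) (.l 2574))) (.n 6 (.n 7 (.l 3167) (.l 2160)) (.n 5 (.l 2884) (.l 3280)))) (.n 9 (.n 5 (.n 6 (.l 3482) (.l 3214)) (.n 6 (.l 2851) (.l 3610))) (.n 4 (.n 5 (.l 2486) (.l 3549)) (.n 6 (.l 3258) (.l 2502)))))) (.n 3 (.n 18 (.n 14 (.n 4 (.n 7 (.l 3576) (.l 2382)) (.n 5 (.l 3223) (.l 2628))) (.n 6 (.n 5 (.l 3061) (.l 3637)) (.n 4 (.l 3542) (.l 2760)))) (.n 6 (.n 7 (.n 9 (.l 3189) (.l 3305)) (.n 5 (.l 3314) (.l 3071))) (.n 4 (.n 12 (.l 3618) (.l 2751)) (.n 9 (.l 3178) (.l 3690))))) (.n 4 (.n 5 (.n 9 (.n 6 (.l 2178) (.l 2749)) (.n 7 (.l 2424) (.l 3326))) (.n 9 (.n 11 (.l 2375) (.l 2816)) (.n 7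 (.l 2102) (.l 3245)))) (.n 7 (.n 9 (.n 6 (.l 3603) (.l 2323)) (.n 11 (.l 3570) (.l 3659))) (.n 11 (.n 5 (.l 3453) (.l 3082)) (.n 14 (.l 3259) (.l 2830))))))))
noncomputable def dtr5 : DT := .n 15 (.n 10 (.n 5 (.n 3 (.n 4 (.n 6 (.n 9 (.n 11 (.n 13 (.l 2373) (.l 2385)) (.l 3446)) (.n 2 (.l 2846) (.l 3197))) (.n 9 (.n 12 (.l 2626) (.l 3568)) (.n 7 (.l 2980) (.l 3013)))) (.n 6 (.n 2 (.n 7 (.n 9 (.l 3190) (.l 2173)) (.l 3606)) (.n 7 (.l 3052) (.l 2507))) (.n 7 (.n 12 (.l 3069) (.l 2095)) (.n 2 (.n 9 (.l 2246) (.l 3420)) (.l 2159))))) (.n 7 (.n 2 (.n 6 (.n 9 (.l 2322) (.l 2741)) (.n 4 (.n 12 (.l 2746) (.l 3682)) (.l 2731))) (.n 4 (.n 11 (.l 2498) (.l 3168)) (.n 6 (.l 2443) (.l 2684)))) (.n 2 (.n 4 (.n 12 (.l 2639) (.l 2276)) (.n 6 (.l 3711) (.n 9 (.l 2798) (.l 2179))))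 (.n 6 (.n 9 (.l 3094) (.l 2533)) (.n 9 (.l 3712) (.l 2571)))))) (.n 4 (.n 12 (.n 3 (.n 6 (.n 7 (.l 3634) (.l 3677)) (.n 7 (.l 2128) (.n 13 (.l 2645) (.l 3648)))) (.n 7 (.n 11 (.l 3706) (.l 2697)) (.n 2 (.l 2216) (.l 2484)))) (.n 6 (.n 2 (.n 3 (.l 2831) (.n 7 (.l 2125) (.l 3645))) (.n 14 (.l 3593) (.l 3062))) (.n 7 (.n 2 (.l 3465) (.l 3101)) (.n 11 (.l 3345) (.l 2184))))) (.n 12 (.n 11 (.n 3 (.n 13 (.l 2894) (.l 3406)) (.n 9 (.l 2435) (.l 2627))) (.n 2 (.n 6 (.n 9 (.l 3068) (.l 3202)) (.l 3623)) (.n 3 (.l 3002) (.l 3621)))) (.n 3 (.n 2 (.n 6 (.l 2819) (.n 7 (.l 3709) (.l 3287))) (.n 6 (.l 3605) (.l 2515))) (.n 6 (.n 7 (.n 9 (.l 2755) (.l 2440)) (.l 2156)) (.n 9 (.l 3239) (.l 3402))))))) (.n 6 (.n 4 (.n 2 (.n 3 (.n 5 (.n 9 (.n 12 (.l 2573) (.l 3105)) (.l 2411)) (.n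 7 (.n 9 (.l 2302) (.l 2559)) (.l 3318))) (.n 5 (.n 7 (.n 9 (.l 2540) (.l 2510)) (.l 2996)) (.n 7 (.l 2434) (.l 3347)))) (.n 5 (.n 9 (.n 7 (.n 11 (.l 3241) (.l 2976)) (.l 3195)) (.n 11 (.l 3655) (.l 2304))) (.n 3 (.n 7 (.l 2190) (.l 3480)) (.n 7 (.l 2207) (.l 2282))))) (.n 3 (.n 5 (.n 7 (.n 13 (.l 2406) (.l 3588)) (.n 2 (.n 11 (.l 3386) (.l 2897)) (.l 2396))) (.n 2 (.n 12 (.l 2593) (.l 3415)) (.l 3204))) (.n 2 (.n 5 (.n 7 (.l 2919) (.n 9 (.l 3384) (.l 3708))) (.n 7 (.l 2474) (.l 3186))) (.n 7 (.n 9 (.l 3571) (.l 2987)) (.n 9 (.l 2227) (.l 2321)))))) (.n 5 (.n 4 (.n 3 (.n 2 (.n 7 (.n 9 (.l 2492) (.l 3665)) (.l 3707)) (.n 9 (.l 2635) (.l 2694))) (.n 7 (.n 2 (.l 3564) (.l 2971)) (.n 11 (.l 2592) (.n 14 (.l 2185) (.l 2546))))) (.n 16 (.n 3 (.n 2 (.l 3103) (.l 3109)) (.n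 9 (.n 12 (.l 2504) (.l 2929)) (.l 3452))) (.n 7 (.n 3 (.n 13 (.l 3602) (.l 2738)) (.l 3688)) (.n 11 (.l 2452) (.l 2640))))) (.n 7 (.n 2 (.n 4 (.n 3 (.l 2583) (.l 2495)) (.n 9 (.l 2369) (.l 3110))) (.n 3 (.n 9 (.l 2344) (.l 3546)) (.n 4 (.n 11 (.l 2219) (.l 2634)) (.l 2756)))) (.n 9 (.n 4 (.n 11 (.l 3323) (.l 3055)) (.n 11 (.l 3104) (.l 3686))) (.n 3 (.n 4 (.l 2427) (.l 2843)) (.n 2 (.l 2171) (.l 2374)))))))) (.n 13 (.n 18 (.n 12 (.n 5 (.n 4 (.n 3 (.n 2 (.n 7 (.l 2320) (.l 3240)) (.l 2982)) (.n 2 (.n 7 (.l 3210) (.l 3458)) (.l 3098))) (.n 6 (.n 17 (.l 3380) (.l 3511)) (.n 2 (.l 3165) (.l 3433)))) (.n 6 (.n 3 (.n 4 (.l 2710) (.n 7 (.l 3374) (.l 3445))) (.n 4 (.l 3324) (.l 3129))) (.n 3 (.n 2 (.n 7 (.l 2802) (.l 3325)) (.l 2351)) (.n 7 (.l 2735) (.l 3329))))) (.n 10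 (.n 2 (.n 3 (.n 5 (.n 7 (.l 3379) (.l 3403)) (.l 3271)) (.n 4 (.l 2703) (.l 3472))) (.n 14 (.n 3 (.l 3208) (.l 2565)) (.n 17 (.l 3622) (.l 3471)))) (.n 14 (.n 4 (.n 2 (.l 2441) (.l 2367)) (.n 6 (.l 3174) (.l 3089))) (.n 3 (.n 4 (.l 3513) (.l 2544)) (.n 2 (.l 3095) (.l 3679)))))) (.n 10 (.n 3 (.n 2 (.n 4 (.n 5 (.n 6 (.l 2423) (.l 3703)) (.l 2503)) (.n 6 (.l 2744) (.l 2562))) (.n 6 (.n 9 (.l 2433) (.l 3122)) (.n 4 (.l 2488) (.l 3394)))) (.n 4 (.n 9 (.n 2 (.l 2197) (.l 2303)) (.n 11 (.l 2362) (.l 2762))) (.n 2 (.n 5 (.l 2833) (.l 2206)) (.n 6 (.l 2511) (.l 2319))))) (.n 4 (.n 9 (.n 3 (.n 2 (.n 7 (.l 3058) (.l 2213)) (.l 2757)) (.n 5 (.l 3464) (.l 2977))) (.n 2 (.n 5 (.l 3704) (.l 2618)) (.n 3 (.l 3512) (.l 2491)))) (.n 2 (.n 5 (.n 6 (.n 7 (.l 3199) (.l 3319)) (.l 2570))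 (.n 7 (.l 2361) (.l 2818))) (.n 3 (.l 2689) (.n 6 (.l 2730) (.n 7 (.l 3590) (.l 2163)))))))) (.n 2 (.n 3 (.n 6 (.n 5 (.n 4 (.n 7 (.l 2393) (.l 3063)) (.n 10 (.l 2300) (.l 2205))) (.n 10 (.n 9 (.n 11 (.l 2426) (.l 3365)) (.l 3278)) (.n 7 (.l 3111) (.l 3054)))) (.n 11 (.n 4 (.n 12 (.l 3343) (.l 2357)) (.n 9 (.l 3084) (.l 3395))) (.n 5 (.n 4 (.l 3193) (.l 3169)) (.n 10 (.l 2094) (.l 2093))))) (.n 12 (.n 4 (.n 10 (.n 9 (.l 3596) (.l 2721)) (.n 5 (.l 3012) (.l 2117))) (.n 5 (.n 6 (.n 9 (.l 3316) (.l 2380)) (.l 3117)) (.n 6 (.l 2753) (.l 3463)))) (.n 6 (.n 16 (.n 5 (.l 2254) (.l 3508)) (.n 4 (.l 2187) (.l 3255))) (.n 5 (.n 9 (.n 11 (.l 2386) (.l 3407)) (.l 2123)) (.n 7 (.l 2281) (.l 2202)))))) (.n 9 (.n 4 (.n 3 (.n 5 (.n 6 (.l 3206) (.l 2421)) (.n 6 (.n 7 (.l 2650) (.l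 2549)) (.l 3311))) (.n 10 (.n 6 (.l 2409) (.l 2407)) (.n 5 (.l 3459) (.l 3076)))) (.n 6 (.n 10 (.n 3 (.l 3376) (.l 3470)) (.n 11 (.l 3300) (.l 3113))) (.n 7 (.n 3 (.l 3509) (.l 3378)) (.n 10 (.l 3182) (.l 2126))))) (.n 4 (.n 3 (.n 10 (.n 6 (.n 14 (.l 3057) (.l 3497)) (.l 3656)) (.n 5 (.l 2220) (.l 2692))) (.n 5 (.n 10 (.l 2567) (.l 2642)) (.n 12 (.l 2129) (.l 2394)))) (.n 6 (.n 5 (.n 11 (.l 3700) (.l 3279)) (.l 3436)) (.n 3 (.n 7 (.l 3017) (.l 2494)) (.n 11 (.l 3243) (.l 2832))))))))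
noncomputable def dtr6 : DT := .n 12 (.n 18 (.n 5 (.n 4 (.n 14 (.n 9 (.n 11 (.n 3 (.l 2564) (.l 3079)) (.n 6 (.l 3170) (.l 3441))) (.n 3 (.n 6 (.l 2591) (.l 2612)) (.n 6 (.l 3321) (.l 2556)))) (.n 3 (.n 10 (.n 9 (.l 3608) (.l 3657)) (.n 6 (.l 3414) (.l 3014))) (.n 6 (.n 7 (.l 3650) (.l 2616)) (.n 7 (.l 2637) (.l 3225))))) (.n 3 (.n 14 (.n 13 (.n 7 (.l 2716) (.l 3660)) (.n 6 (.l 2368) (.l 3273))) (.n 10 (.n 9 (.l 2448) (.l 3612)) (.n 7 (.l 2845) (.l 3248)))) (.n 9 (.n 6 (.n 7 (.l 3632) (.l 3567)) (.n 7 (.l 3124) (.l 2815))) (.n 13 (.n 6 (.l 3341) (.l 3358)) (.n 14 (.l 2428) (.l 2734)))))) (.n 10 (.n 3 (.n 4 (.n 6 (.n 7 (.n 9 (.l 3207) (.l 2918)) (.l 3112)) (.n 7 (.l 3653) (.l 2582))) (.n 6 (.n 9 (.l 3242) (.l 2332)) (.n 7 (.l 2560) (.n 9 (.l 3421) (.l 2561))))) (.n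 9 (.n 4 (.n 6 (.l 2425) (.l 2970)) (.n 6 (.l 2158) (.l 2541))) (.n 14 (.n 13 (.l 3573) (.l 3056)) (.n 6 (.l 2607) (.l 3604))))) (.n 9 (.n 13 (.n 3 (.n 6 (.l 2226) (.l 2609)) (.n 7 (.l 3257) (.l 2686))) (.n 6 (.n 4 (.l 2189) (.l 2244)) (.n 7 (.l 2162) (.l 3494)))) (.n 3 (.n 4 (.n 6 (.l 3498) (.l 3081)) (.n 7 (.l 2750) (.l 3263))) (.n 11 (.n 4 (.l 3565) (.l 3442)) (.n 6 (.l 3541) (.l 2543))))))) (.n 5 (.n 7 (.n 3 (.n 16 (.n 6 (.n 10 (.l 3312) (.l 3080)) (.n 14 (.l 2349) (.l 2916))) (.n 9 (.n 4 (.l 2408) (.l 2366)) (.n 10 (.l 2493) (.l 3087)))) (.n 4 (.n 6 (.n 9 (.l 2576) (.l 2712)) (.l 3203)) (.n 6 (.n 9 (.l 2188) (.l 3088)) (.n 10 (.l 3000) (.l 3644))))) (.n 9 (.n 10 (.n 13 (.n 17 (.l 2215) (.l 3438)) (.n 3 (.n 4 (.l 3099) (.l 3120)) (.l 3018))) (.n 3 (.n 4 (.l 2395)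 (.n 11 (.l 3251) (.l 3304))) (.n 6 (.l 2569) (.l 3427)))) (.n 4 (.n 10 (.n 14 (.l 3714) (.l 3272)) (.n 11 (.l 2392) (.l 2099))) (.n 3 (.l 2643) (.n 13 (.l 2525) (.l 2269)))))) (.n 17 (.n 3 (.n 9 (.n 14 (.n 6 (.l 2747) (.l 2835)) (.n 4 (.l 2455) (.l 3592))) (.n 4 (.n 6 (.l 2610) (.l 3075)) (.n 6 (.l 3177) (.l 2176)))) (.n 10 (.n 6 (.n 4 (.l 2398) (.n 7 (.l 3175) (.l 3651))) (.n 9 (.l 2157) (.l 2727))) (.n 13 (.n 6 (.l 2301) (.l 3377)) (.n 15 (.l 2723) (.l 3127))))) (.n 6 (.n 3 (.n 7 (.n 9 (.l 2437) (.l 2365)) (.n 4 (.l 2968) (.l 3276))) (.n 7 (.n 9 (.n 10 (.l 2632) (.l 3405)) (.l 2719)) (.n 4 (.l 2130) (.l 2381)))) (.n 11 (.n 3 (.n 13 (.l 2707) (.l 3126)) (.n 4 (.l 2563) (.l 3331))) (.n 4 (.n 7 (.l 2275) (.l 2245)) (.n 3 (.l 2317) (.l 2579)))))))) (.n 6 (.n 3 (.n 10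 (.n 7 (.n 4 (.n 9 (.n 5 (.l 2127) (.l 2726)) (.n 15 (.l 2170) (.n 16 (.l 3128) (.l 2154)))) (.n 5 (.n 9 (.l 2098) (.l 2528)) (.n 13 (.l 3434) (.l 2630)))) (.n 9 (.n 5 (.n 11 (.l 2417) (.l 2836)) (.n 4 (.n 11 (.l 3450) (.l 3211)) (.l 3108))) (.n 17 (.n 4 (.l 3119) (.l 2418)) (.n 11 (.l 3566) (.l 2555))))) (.n 4 (.n 5 (.n 14 (.n 13 (.l 3515) (.l 2534)) (.n 9 (.l 3238) (.l 3315))) (.n 9 (.n 11 (.l 3215) (.l 3591)) (.n 11 (.l 3244) (.l 3301)))) (.n 5 (.n 11 (.n 7 (.l 2720) (.l 2739)) (.n 14 (.l 2249) (.l 2966))) (.n 7 (.n 9 (.l 2472) (.n 11 (.l 2700) (.l 2691))) (.n 9 (.l 3443) (.l 2196)))))) (.n 5 (.n 7 (.n 9 (.n 4 (.n 11 (.l 3383) (.l 2250)) (.n 10 (.l 3652) (.l 2614))) (.n 11 (.n 14 (.l 2283) (.l 3254)) (.n 14 (.l 2834) (.l 2705)))) (.n 13 (.n 4 (.n 14 (.l 2823) (.l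 2885)) (.l 3575)) (.n 15 (.n 9 (.l 3572) (.l 3398)) (.n 17 (.l 3356) (.l 3073))))) (.n 9 (.n 15 (.n 16 (.n 13 (.l 3548) (.l 3283)) (.n 7 (.l 2693) (.l 2820))) (.n 4 (.n 10 (.l 2553) (.l 3249)) (.n 7 (.l 2453) (.l 3455)))) (.n 4 (.n 7 (.l 2222) (.n 11 (.l 3059) (.l 3116))) (.n 7 (.n 11 (.l 3083) (.l 3070)) (.l 3090)))))) (.n 3 (.n 13 (.n 4 (.n 9 (.n 5 (.n 14 (.l 2096) (.l 2336)) (.l 2191)) (.n 10 (.n 5 (.l 2473) (.l 3396)) (.n 15 (.l 3440) (.l 2161)))) (.n 10 (.n 5 (.n 11 (.l 3676) (.l 3552)) (.n 7 (.l 3547) (.l 2506))) (.n 9 (.n 11 (.l 2622) (.l 3404)) (.n 11 (.l 2431) (.l 2458))))) (.n 4 (.n 7 (.n 11 (.n 5 (.l 3555) (.l 2690)) (.n 14 (.l 3643) (.l 2928))) (.n 5 (.l 2623) (.n 10 (.l 2131) (.l 2442)))) (.n 5 (.n 7 (.n 9 (.l 3687) (.l 2257)) (.n 10 (.l 3579) (.l 3382)))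 (.n 7 (.n 9 (.l 2422) (.n 14 (.l 2759) (.l 2728))) (.n 11 (.l 3569) (.l 3594)))))) (.n 4 (.n 10 (.n 13 (.n 7 (.n 5 (.l 2814) (.l 2358)) (.n 15 (.l 2619) (.l 3107))) (.n 5 (.n 9 (.l 2649) (.l 3481)) (.l 3342))) (.n 11 (.n 9 (.n 13 (.l 2821) (.n 15 (.l 2633) (.l 2454))) (.l 2733)) (.n 5 (.n 7 (.l 2468) (.l 2535)) (.n 7 (.l 2729) (.l 3654))))) (.n 19 (.n 9 (.n 10 (.n 7 (.l 2429) (.l 2844)) (.n 11 (.l 3344) (.l 3064))) (.n 5 (.n 7 (.l 2354) (.l 2812)) (.l 3461))) (.n 5 (.n 7 (.n 15 (.l 2605) (.l 3448)) (.l 3267)) (.n 10 (.n 11 (.l 2636) (.l 2343)) (.n 13 (.l 2850) (.l 2337))))))))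
noncomputable def dtr7 : DT := .n 15 (.n 6 (.n 10 (.n 4 (.n 19 (.n 5 (.n 17 (.n 7 (.l 2152) (.l 2998)) (.n 12 (.l 2822) (.l 2699))) (.n 3 (.n 9 (.l 2984) (.l 2568)) (.l 2469))) (.n 12 (.n 3 (.n 9 (.l 2271) (.l 2724)) (.l 2620)) (.n 7 (.n 3 (.l 3183) (.l 3281)) (.n 13 (.l 3085) (.l 3462))))) (.n 17 (.n 5 (.n 3 (.n 7 (.l 3478) (.l 2258)) (.l 2575)) (.n 9 (.n 12 (.l 2270) (.l 3620)) (.n 3 (.l 3454) (.l 3065)))) (.n 3 (.n 9 (.n 7 (.l 3268) (.l 2754)) (.n 5 (.l 3130) (.l 2631))) (.n 5 (.n 9 (.l 2107) (.l 3599)) (.l 2355))))) (.n 5 (.n 14 (.n 3 (.n 4 (.n 7 (.l 2803) (.l 3181)) (.l 3439)) (.n 7 (.n 13 (.l 2604) (.l 3252)) (.l 3715))) (.n 9 (.n 3 (.n 4 (.l 3658) (.l 2272)) (.l 3246)) (.n 16 (.n 3 (.l 2397) (.l 2752)) (.n 7 (.l 2485) (.l 3185))))) (.n 9 (.n 3 (.n 7 (.n 11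 (.l 3553) (.l 3435)) (.n 4 (.l 3330) (.l 2499))) (.n 4 (.l 3361) (.n 12 (.l 2419) (.l 2200)))) (.n 13 (.n 3 (.n 7 (.l 3691) (.l 2306)) (.l 2416)) (.n 3 (.n 7 (.l 3097) (.l 3001)) (.l 3479)))))) (.n 11 (.n 4 (.n 7 (.n 3 (.n 5 (.n 13 (.l 2992) (.l 3232)) (.n 9 (.l 2743) (.l 2698))) (.n 12 (.l 3499) (.l 3250))) (.n 3 (.n 5 (.n 9 (.l 3663) (.l 3357)) (.n 13 (.l 2199) (.l 2277))) (.n 5 (.n 10 (.l 2718) (.l 2613)) (.l 3684)))) (.n 5 (.n 3 (.n 7 (.l 3710) (.n 9 (.l 2981) (.l 2695))) (.n 7 (.l 3400) (.n 9 (.l 3607) (.l 2629)))) (.n 3 (.n 9 (.n 10 (.l 2995) (.l 3179)) (.n 13 (.l 2975) (.l 3451))) (.n 14 (.l 3222) (.l 3118))))) (.n 5 (.n 3 (.n 14 (.n 17 (.n 12 (.l 2725) (.l 2536)) (.n 4 (.l 3647) (.l 2436))) (.n 4 (.n 7 (.l 2333) (.l 2092)) (.l 2172))) (.n 4 (.n 7 (.l 2758)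 (.l 2259)) (.n 7 (.n 9 (.l 3554) (.l 2732)) (.l 2186)))) (.n 10 (.n 13 (.n 7 (.n 4 (.l 3680) (.l 2490)) (.n 3 (.l 3261) (.l 2625))) (.n 3 (.n 4 (.l 3393) (.l 2985)) (.l 2471))) (.n 3 (.n 7 (.l 2120) (.n 9 (.l 3072) (.l 3600))) (.n 9 (.l 2255) (.n 12 (.l 2151) (.l 3277)))))))) (.n 7 (.n 14 (.n 16 (.n 18 (.n 4 (.n 5 (.n 3 (.l 3360) (.l 2715)) (.n 6 (.l 2974) (.l 2432))) (.n 3 (.n 5 (.l 2927) (.l 3460)) (.l 3188))) (.n 12 (.n 3 (.n 4 (.l 2566) (.l 3077)) (.l 2446)) (.n 3 (.n 6 (.n 9 (.l 2217) (.l 2253)) (.l 3198)) (.l 2168)))) (.n 4 (.n 5 (.n 10 (.n 3 (.l 3019) (.l 2917)) (.n 17 (.l 3388) (.l 3397))) (.n 3 (.n 6 (.l 2813) (.l 3176)) (.l 3310))) (.n 3 (.n 10 (.l 2644) (.n 13 (.l 2459) (.l 2177))) (.n 11 (.n 5 (.l 2149) (.l 0)) (.n 6 (.l 3131) (.l 3102)))))) (.n 6 (.n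 11 (.n 5 (.n 4 (.l 2797) (.n 12 (.l 2316) (.l 2557))) (.n 9 (.n 12 (.l 3262) (.l 2383)) (.l 3237))) (.n 3 (.n 9 (.n 4 (.l 3164) (.l 2706)) (.n 5 (.l 2360) (.l 3074))) (.n 10 (.n 13 (.l 2256) (.l 2717)) (.n 5 (.l 2212) (.l 2887))))) (.n 3 (.n 12 (.n 5 (.l 2608) (.n 13 (.l 2997) (.l 2748))) (.n 4 (.l 3340) (.n 5 (.l 3233) (.l 3270)))) (.n 10 (.n 9 (.n 4 (.l 2983) (.l 3514)) (.n 11 (.l 2638) (.l 2842))) (.n 4 (.n 5 (.l 3171) (.l 3545)) (.l 2617)))))) (.n 10 (.n 11 (.n 3 (.n 4 (.n 13 (.n 6 (.l 2687) (.l 3449)) (.n 5 (.l 2685) (.l 2338))) (.n 5 (.l 3636) (.n 9 (.l 3540) (.l 3595)))) (.n 9 (.n 4 (.l 3192) (.n 13 (.l 2849) (.l 2801))) (.n 4 (.l 3389) (.n 14 (.l 2496) (.l 3224))))) (.n 12 (.n 3 (.n 4 (.l 3401) (.n 5 (.l 2761) (.l 2345))) (.n 18 (.n 5 (.l 2647) (.l 2763))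 (.n 4 (.l 2577) (.l 2964)))) (.n 14 (.n 3 (.n 4 (.l 3683) (.l 2103)) (.l 2364)) (.n 13 (.l 2278) (.n 17 (.l 3551) (.l 2224)))))) (.n 3 (.n 12 (.n 4 (.n 6 (.n 13 (.l 2886) (.l 3253)) (.l 3092)) (.n 5 (.l 2538) (.n 11 (.l 3093) (.l 3236)))) (.n 6 (.n 4 (.n 13 (.l 2799) (.l 2201)) (.n 5 (.l 2713) (.l 3015))) (.n 9 (.n 13 (.l 3416) (.l 2711)) (.l 2175)))) (.n 5 (.n 13 (.n 4 (.l 3705) (.n 11 (.l 3613) (.l 2688))) (.n 6 (.n 9 (.l 2470) (.l 3609)) (.l 2410))) (.n 6 (.n 4 (.n 11 (.l 3392) (.l 3664)) (.l 3496)) (.n 12 (.l 3399) (.l 2550)))))))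
noncomputable def dtr8 : DT := .n 5 (.n 1 (.n 4 (.n 9 (.n 15 (.n 19 (.n 2 (.n 3 (.l 153) (.l 357)) (.n 3 (.n 12 (.l 71) (.l 462)) (.l 978))) (.n 3 (.n 2 (.l 212) (.n 10 (.l 663) (.l 722))) (.n 8 (.l 548) (.l 188)))) (.n 16 (.n 13 (.n 3 (.l 508) (.l 857)) (.n 2 (.l 78) (.l 770))) (.n 2 (.n 3 (.l 648) (.l 255)) (.n 10 (.l 91) (.n 14 (.l 236) (.l 827)))))) (.n 14 (.n 3 (.n 8 (.n 2 (.n 15 (.l 488) (.l 327)) (.l 217)) (.n 10 (.n 12 (.l 431) (.l 758)) (.l 531))) (.n 12 (.n 13 (.l 647) (.l 559)) (.n 2 (.l 573) (.n 8 (.l 415) (.l 487))))) (.n 2 (.n 3 (.n 10 (.l 683) (.n 13 (.l 374) (.l 682))) (.n 8 (.l 922) (.l 398))) (.n 8 (.n 12 (.l 209) (.l 490)) (.n 10 (.l 409) (.l 305)))))) (.n 2 (.n 3 (.n 10 (.n 8 (.n 9 (.l 743) (.l 436)) (.n 12 (.l 576) (.l 784))) (.n 14 (.n 8 (.n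 16 (.l 329) (.l 70)) (.l 676)) (.n 12 (.l 385) (.l 175)))) (.n 10 (.n 8 (.n 9 (.n 12 (.l 657) (.l 122)) (.l 1040)) (.n 9 (.l 432) (.l 157))) (.n 12 (.n 9 (.l 762) (.l 918)) (.n 8 (.l 1013) (.l 644))))) (.n 13 (.n 3 (.n 14 (.n 8 (.l 801) (.l 395)) (.n 9 (.l 434) (.l 116))) (.n 8 (.n 9 (.l 900) (.l 572)) (.n 12 (.n 14 (.l 227) (.l 353)) (.l 494)))) (.n 3 (.n 9 (.n 12 (.l 546) (.l 419)) (.l 151)) (.n 8 (.n 9 (.l 110) (.l 150)) (.n 9 (.n 10 (.l 349) (.l 609)) (.l 867))))))) (.n 9 (.n 3 (.n 10 (.n 8 (.n 4 (.n 14 (.l 1346) (.l 1217)) (.n 2 (.l 1309) (.l 1485))) (.n 14 (.n 13 (.l 1317) (.l 1359)) (.n 4 (.l 1083) (.l 1726)))) (.n 18 (.n 12 (.n 4 (.l 1267) (.l 1702)) (.n 2 (.l 1563) (.l 1704))) (.n 2 (.n 4 (.l 1392) (.l 1715)) (.n 4 (.l 1515) (.l 1522))))) (.n 17 (.n 2 (.n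 13 (.n 14 (.l 1205) (.l 11)) (.n 4 (.l 1494) (.l 1064))) (.n 10 (.n 4 (.l 1659) (.l 1648)) (.n 13 (.l 1635) (.l 1326)))) (.n 10 (.n 12 (.n 4 (.l 1110) (.l 1071)) (.n 2 (.n 15 (.l 1579) (.l 1568)) (.l 1294))) (.n 2 (.n 4 (.l 1148) (.l 1580)) (.n 4 (.l 1543) (.l 1624)))))) (.n 8 (.n 17 (.n 13 (.n 3 (.n 15 (.l 1227) (.l 1694)) (.n 2 (.l 1618) (.l 1271))) (.n 4 (.n 2 (.l 1057) (.l 1605)) (.n 12 (.l 1520) (.l 1072)))) (.n 3 (.n 4 (.n 12 (.l 1211) (.l 1438)) (.n 10 (.l 1282) (.l 1344))) (.n 10 (.n 2 (.l 1123) (.l 1090)) (.n 15 (.l 1499) (.l 1471))))) (.n 15 (.n 3 (.n 2 (.n 4 (.n 10 (.l 1153) (.l 1163)) (.l 1275)) (.n 4 (.l 1334) (.l 1354))) (.n 10 (.n 2 (.l 1272) (.l 1443)) (.n 12 (.l 1319) (.l 1556)))) (.n 19 (.n 2 (.n 3 (.l 1511) (.l 1174)) (.n 4 (.l 1719) (.l 1302)))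 (.n 3 (.n 2 (.l 1495) (.l 1338)) (.n 12 (.l 1204) (.l 1448)))))))) (.n 2 (.n 1 (.n 15 (.n 4 (.n 3 (.n 9 (.n 10 (.l 515) (.l 928)) (.n 10 (.l 338) (.l 906))) (.n 8 (.n 12 (.l 619) (.l 470)) (.n 9 (.n 10 (.l 907) (.l 304)) (.l 697)))) (.n 8 (.n 3 (.n 9 (.l 237) (.n 14 (.l 718) (.l 397))) (.n 9 (.l 564) (.l 445))) (.n 9 (.n 3 (.n 13 (.l 180) (.l 319)) (.l 29)) (.n 12 (.l 848) (.l 142))))) (.n 3 (.n 9 (.n 8 (.n 4 (.l 635) (.l 277)) (.n 13 (.l 296) (.l 956))) (.n 4 (.n 10 (.n 14 (.l 444) (.l 68)) (.l 966)) (.n 8 (.l 377) (.l 947)))) (.n 17 (.n 8 (.n 4 (.l 241) (.n 14 (.l 259) (.l 167))) (.n 13 (.l 390) (.l 952))) (.n 4 (.n 8 (.l 909) (.l 360)) (.n 9 (.n 10 (.l 583) (.l 1032)) (.l 636)))))) (.n 17 (.n 16 (.n 3 (.n 8 (.n 10 (.l 1718) (.l 1279)) (.n 4 (.l 1107) (.l 1391)))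 (.n 10 (.n 4 (.l 24) (.n 8 (.l 25) (.l 6))) (.n 9 (.l 1641) (.l 1731)))) (.n 4 (.n 9 (.n 10 (.l 1623) (.l 1195)) (.n 3 (.n 8 (.l 1251) (.l 1079)) (.l 1755))) (.n 3 (.n 9 (.l 1692) (.l 1445)) (.n 8 (.l 1416) (.l 1620))))) (.n 10 (.n 9 (.n 4 (.n 3 (.n 8 (.l 1127) (.l 1315)) (.l 1172)) (.n 13 (.l 1092) (.l 1154))) (.n 3 (.n 8 (.l 1147) (.l 1481)) (.n 4 (.l 1104) (.l 1120)))) (.n 12 (.n 3 (.n 8 (.n 15 (.l 1587) (.l 1288)) (.l 1440)) (.n 13 (.l 1138) (.l 1581))) (.n 18 (.n 3 (.l 1052) (.l 1301)) (.n 4 (.l 1498) (.l 1212))))))) (.n 8 (.n 9 (.n 3 (.n 12 (.n 1 (.n 13 (.n 15 (.l 458) (.l 367)) (.l 418)) (.n 4 (.l 1743) (.l 1356))) (.n 4 (.n 14 (.l 1010) (.l 313)) (.n 1 (.n 18 (.l 997) (.l 441)) (.l 1361)))) (.n 10 (.n 1 (.n 4 (.l 326) (.l 392)) (.n 12 (.l 1741) (.l 1735)))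 (.n 4 (.n 12 (.l 988) (.l 821)) (.n 1 (.l 260) (.l 1144))))) (.n 1 (.n 12 (.n 13 (.n 3 (.l 894) (.l 627)) (.n 4 (.l 732) (.l 971))) (.n 10 (.n 14 (.l 780) (.l 282)) (.n 4 (.l 54) (.l 674)))) (.n 12 (.n 10 (.n 3 (.l 1730) (.l 1233)) (.n 4 (.l 1133) (.l 1234))) (.n 3 (.n 13 (.l 1452) (.l 23)) (.l 1253))))) (.n 10 (.n 19 (.n 14 (.n 1 (.n 3 (.l 984) (.l 113)) (.n 4 (.l 1450) (.l 1591))) (.n 3 (.n 1 (.l 505) (.l 1379)) (.n 4 (.l 1708) (.l 1487)))) (.n 3 (.n 9 (.n 4 (.n 12 (.l 901) (.l 792)) (.l 860)) (.n 13 (.l 81) (.l 57))) (.n 1 (.n 4 (.l 1043) (.l 689)) (.n 4 (.l 1245) (.l 1597))))) (.n 3 (.n 19 (.n 4 (.n 1 (.l 535) (.l 1518)) (.n 12 (.l 588) (.l 1016))) (.n 1 (.n 9 (.l 684) (.l 164)) (.n 4 (.l 1232) (.l 1156)))) (.n 14 (.n 9 (.n 4 (.l 302) (.l 202)) (.n 1 (.l 622)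 (.l 1696))) (.n 1 (.n 4 (.l 400) (.l 939)) (.l 1513)))))))
noncomputable def dtr9 : DT := .n 8 (.n 10 (.n 15 (.n 1 (.n 16 (.n 2 (.n 5 (.n 4 (.l 291) (.n 9 (.l 344) (.l 424))) (.n 14 (.l 553) (.l 734))) (.n 3 (.n 5 (.l 844) (.l 37)) (.n 9 (.l 489) (.l 940)))) (.n 4 (.n 3 (.n 2 (.n 9 (.l 248) (.l 841)) (.l 558)) (.n 9 (.l 284) (.l 536))) (.n 2 (.n 9 (.l 668) (.l 399)) (.n 3 (.l 530) (.l 45))))) (.n 12 (.n 16 (.n 2 (.n 4 (.l 1424) (.l 1437)) (.n 3 (.l 1574) (.l 1505))) (.n 3 (.n 5 (.l 16) (.l 1506)) (.n 2 (.l 1059) (.l 1198)))) (.n 9 (.n 2 (.n 5 (.n 13 (.l 1398) (.l 1744)) (.l 1598)) (.n 3 (.l 1573) (.l 1667))) (.n 5 (.n 2 (.l 1089) (.l 1353)) (.n 14 (.l 1453) (.l 1414)))))) (.n 13 (.n 1 (.n 4 (.n 3 (.n 5 (.l 229) (.n 9 (.l 63) (.l 268))) (.n 2 (.l 1046) (.l 713))) (.n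 3 (.n 2 (.n 5 (.l 788) (.l 469)) (.l 611)) (.n 5 (.l 541) (.l 769)))) (.n 3 (.n 9 (.n 5 (.l 1208) (.l 1220)) (.n 4 (.n 12 (.l 1203) (.l 1500)) (.l 1304))) (.n 4 (.n 5 (.l 1178) (.l 1576)) (.n 5 (.n 9 (.l 1406) (.l 1207)) (.l 1094))))) (.n 4 (.n 1 (.n 2 (.n 3 (.n 5 (.l 933) (.l 523)) (.l 168)) (.n 5 (.l 76) (.l 563))) (.n 3 (.n 2 (.n 12 (.l 1113) (.l 1461)) (.l 1228)) (.n 5 (.l 1478) (.l 1229)))) (.n 12 (.n 5 (.n 3 (.l 193) (.l 1008)) (.n 2 (.l 191) (.l 729))) (.n 1 (.n 17 (.l 156) (.l 982)) (.l 19)))))) (.n 17 (.n 14 (.n 2 (.n 16 (.n 12 (.n 1 (.l 714) (.l 1091)) (.n 5 (.l 1039) (.l 686))) (.n 1 (.n 3 (.l 340) (.l 623)) (.n 3 (.l 1165) (.l 1707)))) (.n 18 (.n 3 (.n 1 (.l 368) (.l 1357)) (.n 9 (.l 477) (.l 667))) (.n 1 (.n 3 (.l 196) (.l 794)) (.n 4 (.l 1509) (.l 1622)))))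 (.n 4 (.n 9 (.n 1 (.n 2 (.l 1042) (.l 967)) (.n 2 (.l 1159) (.l 1661))) (.n 3 (.n 1 (.l 869) (.l 1723)) (.n 12 (.l 974) (.l 159)))) (.n 2 (.n 3 (.n 13 (.l 782) (.l 520)) (.n 5 (.n 9 (.l 266) (.l 808)) (.l 921))) (.n 15 (.n 1 (.l 46) (.l 1476)) (.n 3 (.l 416) (.l 403)))))) (.n 15 (.n 18 (.n 12 (.n 1 (.n 2 (.l 290) (.l 533)) (.n 2 (.l 1463) (.l 1098))) (.n 14 (.n 2 (.l 864) (.l 664)) (.n 1 (.l 816) (.l 1477)))) (.n 1 (.n 2 (.n 3 (.l 343) (.l 182)) (.n 3 (.l 700) (.l 102))) (.n 19 (.n 2 (.l 1190) (.l 1750)) (.n 5 (.l 1268) (.l 1433))))) (.n 13 (.n 3 (.n 1 (.n 5 (.l 525) (.l 165)) (.n 4 (.l 1585) (.l 1295))) (.n 4 (.n 16 (.l 756) (.l 876)) (.n 2 (.l 914) (.l 992)))) (.n 2 (.n 1 (.n 4 (.l 446) (.l 92)) (.n 5 (.l 1352) (.l 1690))) (.n 4 (.n 5 (.l 993) (.l 335)) (.l 624)))))))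 (.n 9 (.n 12 (.n 3 (.n 2 (.n 4 (.n 1 (.n 5 (.n 10 (.l 799) (.l 840)) (.l 287)) (.n 13 (.l 1141) (.l 1376))) (.n 15 (.n 16 (.l 815) (.l 433)) (.n 1 (.l 846) (.l 1246)))) (.n 4 (.n 5 (.n 17 (.l 884) (.l 232)) (.n 14 (.l 345) (.l 842))) (.n 1 (.n 10 (.l 118) (.l 735)) (.l 1469)))) (.n 19 (.n 4 (.n 5 (.n 2 (.l 863) (.l 806)) (.n 10 (.l 570) (.l 617))) (.n 1 (.l 379) (.n 2 (.l 1611) (.l 1403)))) (.n 4 (.n 2 (.n 5 (.l 93) (.l 704)) (.n 5 (.l 833) (.l 473))) (.n 1 (.l 388) (.n 5 (.l 1160) (.l 1526)))))) (.n 3 (.n 1 (.n 2 (.n 5 (.n 4 (.l 138) (.l 733)) (.n 10 (.l 764) (.l 67))) (.n 13 (.n 4 (.l 124) (.l 364)) (.n 10 (.l 207) (.l 958)))) (.n 4 (.n 5 (.n 10 (.l 1187) (.l 1241)) (.l 1430)) (.n 13 (.n 10 (.l 1677) (.l 1754)) (.n 2 (.l 1646) (.l 1630))))) (.n 5 (.n 4 (.n 1 (.n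 14 (.l 334) (.l 887)) (.n 13 (.l 1390) (.l 1729))) (.n 15 (.n 14 (.l 1384) (.l 1277)) (.n 2 (.l 1683) (.l 1325)))) (.n 1 (.n 10 (.n 17 (.l 822) (.l 888)) (.n 2 (.l 726) (.l 1003))) (.n 2 (.l 1351) (.n 10 (.l 1663) (.l 1247))))))) (.n 1 (.n 15 (.n 5 (.n 2 (.n 10 (.l 134) (.n 13 (.l 492) (.l 210))) (.n 10 (.n 4 (.l 803) (.l 215)) (.n 12 (.l 192) (.l 638)))) (.n 3 (.n 12 (.l 358) (.l 225)) (.n 10 (.n 4 (.l 170) (.l 757)) (.n 16 (.l 886) (.l 731))))) (.n 2 (.n 3 (.n 4 (.l 274) (.n 5 (.l 737) (.l 74))) (.n 4 (.n 5 (.l 877) (.l 452)) (.n 10 (.l 771) (.l 147)))) (.n 16 (.n 4 (.l 924) (.n 10 (.l 181) (.l 871))) (.n 3 (.n 4 (.l 1021) (.l 429)) (.l 457))))) (.n 14 (.n 3 (.n 2 (.n 5 (.n 10 (.l 1583) (.l 1569)) (.n 4 (.l 1168) (.l 1674))) (.n 5 (.n 13 (.l 1280) (.l 1679)) (.l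 1093))) (.n 4 (.n 12 (.l 1401) (.n 13 (.l 1551) (.l 1291))) (.n 2 (.n 5 (.l 1420) (.l 1602)) (.l 1201)))) (.n 2 (.n 12 (.n 3 (.n 10 (.l 1740) (.l 1559)) (.l 1145)) (.n 3 (.n 13 (.l 1570) (.l 1278)) (.l 1671))) (.n 4 (.n 5 (.n 13 (.l 1590) (.l 1524)) (.n 10 (.l 1678) (.l 1412))) (.n 3 (.l 1378) (.n 5 (.l 1415) (.l 1701))))))))
noncomputable def dtr10 : DT := .n 5 (.n 15 (.n 2 (.n 9 (.n 12 (.n 4 (.n 8 (.n 1 (.l 561) (.l 1432)) (.n 14 (.l 13) (.l 1689))) (.n 3 (.n 8 (.l 661) (.l 688)) (.n 8 (.n 10 (.l 916) (.l 136)) (.l 941)))) (.n 10 (.n 8 (.n 1 (.l 934) (.l 1713)) (.n 13 (.l 127) (.l 467))) (.n 1 (.n 13 (.l 690) (.n 14 (.l 346) (.l 885))) (.n 4 (.l 1161) (.l 1682))))) (.n 1 (.n 3 (.n 10 (.n 8 (.l 999) (.l 1033)) (.n 4 (.l 1015) (.l 672))) (.n 14 (.n 10 (.l 581) (.l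 1007)) (.n 8 (.l 243) (.l 449)))) (.n 8 (.n 3 (.l 1292) (.n 4 (.l 1742) (.l 1340))) (.n 13 (.n 4 (.l 1084) (.l 17)) (.n 10 (.l 1180) (.n 14 (.l 1332) (.l 1746))))))) (.n 17 (.n 8 (.n 13 (.n 1 (.n 4 (.l 314) (.l 742)) (.n 4 (.l 1533) (.l 1504))) (.n 10 (.n 4 (.l 820) (.l 927)) (.n 1 (.l 114) (.l 1531)))) (.n 4 (.n 9 (.n 3 (.l 370) (.l 273)) (.n 1 (.l 288) (.l 1458))) (.n 3 (.n 9 (.l 709) (.l 809)) (.n 16 (.l 417) (.l 923))))) (.n 10 (.n 4 (.n 19 (.n 8 (.l 1728) (.l 1321)) (.n 1 (.l 739) (.l 1686))) (.n 1 (.n 8 (.l 972) (.l 323)) (.n 8 (.l 1628) (.l 1593)))) (.n 13 (.n 3 (.n 1 (.l 132) (.l 1525)) (.n 8 (.l 913) (.l 258))) (.n 8 (.n 1 (.l 80) (.l 1088)) (.n 3 (.l 675) (.l 544))))))) (.n 18 (.n 3 (.n 8 (.n 13 (.n 2 (.n 1 (.l 514) (.l 1078)) (.n 10 (.l 115) (.l 949)))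 (.n 10 (.n 4 (.l 324) (.l 507)) (.n 14 (.l 128) (.l 865)))) (.n 9 (.n 17 (.n 1 (.l 154) (.l 15)) (.n 19 (.l 440) (.l 401))) (.n 2 (.n 4 (.l 1058) (.l 1179)) (.n 4 (.l 1349) (.l 1542))))) (.n 10 (.n 9 (.n 12 (.n 14 (.l 309) (.l 659)) (.n 1 (.l 767) (.l 1191))) (.n 1 (.n 2 (.l 669) (.l 831)) (.n 2 (.l 1238) (.l 1355)))) (.n 13 (.n 2 (.n 1 (.l 454) (.l 1577)) (.n 9 (.l 601) (.l 468))) (.n 1 (.n 2 (.l 875) (.l 393)) (.n 4 (.l 1442) (.l 1501)))))) (.n 1 (.n 4 (.n 8 (.n 9 (.n 3 (.l 254) (.l 362)) (.n 2 (.l 586) (.l 501))) (.n 2 (.n 12 (.l 163) (.l 631)) (.n 9 (.l 391) (.l 315)))) (.n 8 (.n 2 (.n 3 (.n 10 (.l 753) (.l 294)) (.l 224)) (.n 3 (.l 539) (.l 786))) (.n 10 (.n 13 (.l 372) (.l 187)) (.n 3 (.l 593) (.l 460))))) (.n 9 (.n 3 (.n 8 (.n 12 (.l 1197) (.l 1134)) (.n 4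 (.l 1709) (.l 1699))) (.n 16 (.n 2 (.l 1171) (.l 1557)) (.n 8 (.l 1669) (.l 1314)))) (.n 4 (.n 8 (.n 3 (.n 10 (.l 1449) (.l 1388)) (.l 1400)) (.n 10 (.l 1285) (.l 18))) (.n 8 (.n 12 (.l 1732) (.l 1675)) (.n 2 (.l 1672) (.l 1562)))))))) (.n 4 (.n 9 (.n 8 (.n 1 (.n 14 (.n 2 (.n 3 (.l 891) (.n 10 (.l 802) (.l 973))) (.n 3 (.l 238) (.l 578))) (.n 12 (.n 15 (.l 350) (.l 500)) (.n 2 (.l 1044) (.l 332)))) (.n 19 (.n 2 (.n 10 (.l 1680) (.l 1697)) (.n 12 (.l 1362) (.l 1095))) (.n 13 (.n 10 (.l 1375) (.l 1152)) (.n 14 (.l 1335) (.l 1206))))) (.n 14 (.n 1 (.n 2 (.n 12 (.l 620) (.l 328)) (.n 3 (.l 979) (.l 575))) (.n 10 (.n 12 (.l 1688) (.l 1644)) (.n 12 (.l 1073) (.l 1607)))) (.n 3 (.n 1 (.n 10 (.l 712) (.l 987)) (.n 12 (.l 1660) (.l 1488))) (.n 10 (.n 13 (.l 964) (.l 574))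 (.n 1 (.l 141) (.l 1296)))))) (.n 2 (.n 1 (.n 8 (.n 3 (.n 10 (.l 352) (.l 650)) (.n 10 (.l 711) (.l 791))) (.n 13 (.n 14 (.l 245) (.l 912)) (.l 1049))) (.n 3 (.n 12 (.n 10 (.n 14 (.l 1117) (.l 1413)) (.l 1074)) (.n 8 (.l 1312) (.l 1056))) (.n 15 (.n 16 (.l 1342) (.l 1185)) (.n 10 (.l 1507) (.l 1175))))) (.n 12 (.n 3 (.n 8 (.n 13 (.l 485) (.l 797)) (.l 895)) (.n 10 (.n 1 (.l 752) (.l 1216)) (.n 8 (.l 836) (.l 935)))) (.n 14 (.n 1 (.n 3 (.l 538) (.l 496)) (.n 3 (.l 1167) (.l 1139))) (.n 10 (.n 3 (.l 937) (.l 680)) (.n 8 (.l 384) (.l 126))))))) (.n 16 (.n 2 (.n 8 (.n 1 (.n 3 (.n 9 (.l 414) (.l 754)) (.n 10 (.l 35) (.l 121))) (.n 3 (.n 10 (.l 1067) (.l 1318)) (.l 1614))) (.n 12 (.n 1 (.n 14 (.l 807) (.l 587)) (.n 3 (.l 1601) (.l 1626))) (.n 3 (.n 1 (.l 426) (.l 1561))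 (.n 10 (.l 65) (.l 387))))) (.n 3 (.n 9 (.n 8 (.n 12 (.l 804) (.l 497)) (.n 10 (.l 551) (.l 652))) (.n 1 (.n 10 (.l 491) (.l 430)) (.l 1621))) (.n 15 (.n 9 (.l 632) (.n 12 (.l 176) (.l 832))) (.n 1 (.n 8 (.l 283) (.l 779)) (.l 1710))))) (.n 12 (.n 3 (.n 18 (.n 1 (.n 14 (.l 355) (.l 53)) (.l 1347)) (.n 2 (.n 10 (.l 519) (.l 38)) (.l 94))) (.n 1 (.n 2 (.n 8 (.l 160) (.l 111)) (.l 879)) (.n 8 (.l 1670) (.n 9 (.l 1724) (.l 1061))))) (.n 10 (.n 2 (.n 3 (.n 8 (.l 73) (.l 421)) (.l 781)) (.n 1 (.n 8 (.l 1022) (.l 177)) (.l 1076))) (.n 14 (.n 3 (.n 8 (.l 133) (.l 169)) (.l 235)) (.n 1 (.l 925) (.n 3 (.l 1266) (.l 1604))))))))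
noncomputable def dtr11 : DT := .n 2 (.n 15 (.n 10 (.n 3 (.n 5 (.n 18 (.n 1 (.l 977) (.n 9 (.l 1739) (.l 1550))) (.n 1 (.l 892) (.n 12 (.l 1231) (.l 1350)))) (.n 4 (.n 14 (.n 8 (.l 60) (.l 630)) (.n 16 (.l 868) (.l 796))) (.n 1 (.n 8 (.l 52) (.l 897)) (.l 1158)))) (.n 4 (.n 1 (.n 5 (.n 8 (.l 1006) (.l 882)) (.n 8 (.l 211) (.l 69))) (.n 5 (.l 1539) (.n 13 (.l 1722) (.l 1751)))) (.n 5 (.n 1 (.n 8 (.l 511) (.l 366)) (.l 1255)) (.n 1 (.n 8 (.l 961) (.l 380)) (.l 1124))))) (.n 4 (.n 3 (.n 8 (.n 9 (.n 14 (.l 1030) (.l 795)) (.l 1020)) (.n 1 (.n 12 (.l 990) (.l 411)) (.n 9 (.l 1070) (.l 1396)))) (.n 8 (.n 9 (.n 12 (.l 97) (.l 480)) (.l 107)) (.n 1 (.n 5 (.l 145) (.l 31)) (.l 1053)))) (.n 1 (.n 8 (.n 3 (.n 5 (.l 1026) (.l 300)) (.l 40)) (.n 17 (.n 3 (.l 694) (.l 998)) (.n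 13 (.l 855) (.l 404)))) (.n 3 (.n 5 (.n 8 (.l 1532) (.l 1257)) (.l 1642)) (.n 5 (.n 8 (.l 1068) (.l 8)) (.l 1490)))))) (.n 13 (.n 3 (.n 5 (.n 1 (.n 16 (.n 8 (.l 1038) (.l 708)) (.n 4 (.l 699) (.l 778))) (.n 8 (.l 1617) (.n 9 (.l 1462) (.l 1711)))) (.n 4 (.n 1 (.n 8 (.l 811) (.l 451)) (.l 1173)) (.n 1 (.n 8 (.l 179) (.l 438)) (.l 1472)))) (.n 4 (.n 10 (.n 8 (.n 12 (.l 75) (.l 272)) (.l 566)) (.n 1 (.n 12 (.l 311) (.l 692)) (.n 8 (.l 4) (.l 1428)))) (.n 5 (.n 8 (.n 14 (.l 625) (.l 203)) (.l 240)) (.n 1 (.l 213) (.n 9 (.l 1109) (.l 1434)))))) (.n 5 (.n 4 (.n 1 (.n 3 (.n 8 (.l 859) (.l 1005)) (.n 8 (.l 162) (.l 1012))) (.n 3 (.n 8 (.l 1444) (.l 1584)) (.l 1377))) (.n 8 (.n 3 (.n 9 (.l 945) (.l 957)) (.l 56)) (.n 3 (.n 9 (.l 36) (.l 77)) (.l 333)))) (.n 9 (.n 1 (.n 10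 (.n 3 (.l 905) (.l 738)) (.n 12 (.l 717) (.l 112))) (.n 8 (.n 10 (.l 1284) (.l 1281)) (.l 1252))) (.n 10 (.n 8 (.n 14 (.l 1028) (.l 603)) (.l 772)) (.n 3 (.n 4 (.l 221) (.l 616)) (.l 194))))))) (.n 19 (.n 16 (.n 9 (.n 5 (.n 3 (.n 8 (.l 693) (.n 10 (.l 750) (.l 252))) (.n 4 (.n 8 (.l 584) (.l 59)) (.l 932))) (.n 4 (.n 3 (.n 14 (.l 310) (.l 425)) (.l 547)) (.n 1 (.n 8 (.l 200) (.l 936)) (.l 1656)))) (.n 1 (.n 12 (.n 4 (.n 5 (.l 256) (.l 590)) (.l 285)) (.n 3 (.n 5 (.l 381) (.l 342)) (.l 376))) (.n 3 (.n 4 (.n 10 (.l 1140) (.l 1517)) (.l 1135)) (.n 4 (.n 12 (.l 1565) (.l 1606)) (.l 1575))))) (.n 10 (.n 5 (.n 8 (.n 13 (.n 1 (.l 152) (.l 1237)) (.n 3 (.l 72) (.l 140))) (.n 3 (.n 4 (.l 736) (.l 307)) (.l 447))) (.n 1 (.n 3 (.l 847) (.n 9 (.l 30) (.l 1))) (.n 3 (.n 17 (.l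 1394) (.l 20)) (.l 1492)))) (.n 9 (.n 3 (.n 1 (.n 4 (.l 994) (.l 919)) (.l 1493)) (.n 5 (.n 13 (.l 1036) (.l 476)) (.l 748))) (.n 1 (.n 8 (.l 727) (.n 13 (.l 571) (.l 1009))) (.n 12 (.l 1114) (.l 1474)))))) (.n 18 (.n 10 (.n 3 (.n 1 (.n 5 (.n 12 (.l 267) (.l 592)) (.n 4 (.l 1041) (.l 612))) (.n 4 (.n 5 (.l 1451) (.l 1118)) (.l 1632))) (.n 8 (.n 4 (.l 465) (.l 359)) (.n 1 (.n 5 (.l 189) (.l 828)) (.l 1063)))) (.n 13 (.n 1 (.n 4 (.l 234) (.n 12 (.l 903) (.l 685))) (.n 4 (.n 12 (.l 1235) (.l 1475)) (.l 1613))) (.n 16 (.n 1 (.l 518) (.n 3 (.l 1698) (.l 1528))) (.n 1 (.l 930) (.n 8 (.l 1651) (.l 1427)))))) (.n 1 (.n 3 (.n 13 (.n 4 (.n 5 (.l 723) (.l 347)) (.l 264)) (.n 4 (.n 8 (.l 84) (.l 83)) (.l 483))) (.n 4 (.n 5 (.l 545) (.n 10 (.l 281) (.l 585))) (.n 8 (.l 137) (.n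 9 (.l 654) (.l 766))))) (.n 10 (.n 4 (.n 3 (.n 5 (.l 1523) (.l 1222)) (.l 1609)) (.n 3 (.n 9 (.l 1196) (.l 1736)) (.l 1303))) (.n 8 (.n 3 (.n 9 (.l 1483) (.l 1588)) (.l 1210)) (.n 9 (.n 13 (.l 1436) (.l 1370)) (.l 1540)))))))
noncomputable def dtr12 : DT := .n 4 (.n 2 (.n 3 (.n 17 (.n 15 (.n 8 (.n 11 (.n 5 (.l 529) (.l 41)) (.n 7 (.l 776) (.l 995))) (.n 5 (.n 7 (.l 386) (.l 437)) (.n 7 (.l 814) (.l 899)))) (.n 5 (.n 8 (.n 12 (.l 299) (.l 166)) (.n 7 (.l 747) (.l 461))) (.n 11 (.n 9 (.l 222) (.l 556)) (.n 13 (.l 818) (.l 618))))) (.n 8 (.n 11 (.n 9 (.n 7 (.n 10 (.l 250) (.l 269)) (.l 456)) (.n 13 (.l 341) (.l 670))) (.n 5 (.n 7 (.l 975) (.l 710)) (.n 9 (.l 184) (.l 48)))) (.n 5 (.n 7 (.n 10 (.l 361) (.l 100)) (.n 9 (.l 785) (.l 406))) (.n 7 (.n 10 (.l 383) (.l 665))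 (.n 9 (.l 271) (.l 247)))))) (.n 5 (.n 12 (.n 10 (.n 9 (.n 7 (.n 13 (.l 870) (.l 297)) (.l 741)) (.n 11 (.l 719) (.l 702))) (.n 8 (.n 7 (.l 696) (.l 98)) (.n 9 (.l 1029) (.l 550)))) (.n 7 (.n 9 (.n 8 (.l 1045) (.l 628)) (.n 10 (.l 543) (.l 428))) (.n 11 (.l 580) (.n 15 (.l 666) (.l 226))))) (.n 10 (.n 8 (.n 11 (.n 12 (.l 790) (.l 970)) (.l 557)) (.n 11 (.n 7 (.l 230) (.l 826)) (.n 9 (.l 542) (.l 506)))) (.n 7 (.n 9 (.n 12 (.l 105) (.l 598)) (.l 149)) (.n 15 (.n 8 (.l 607) (.l 427)) (.n 9 (.n 13 (.l 1018) (.l 528)) (.l 239))))))) (.n 19 (.n 12 (.n 3 (.n 10 (.n 13 (.n 9 (.l 130) (.l 800)) (.n 5 (.l 512) (.l 198))) (.n 5 (.n 7 (.l 89) (.l 991)) (.n 8 (.l 641) (.l 760)))) (.n 7 (.n 11 (.n 5 (.l 161) (.l 369)) (.n 8 (.l 331) (.l 190))) (.n 5 (.n 8 (.l 1048) (.l 410)) (.l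 579)))) (.n 9 (.n 16 (.n 3 (.n 5 (.l 537) (.l 104)) (.n 7 (.l 793) (.l 504))) (.n 17 (.n 11 (.l 881) (.l 422)) (.n 5 (.l 634) (.l 673)))) (.n 3 (.n 10 (.n 8 (.l 789) (.l 681)) (.n 5 (.l 810) (.l 478))) (.n 5 (.l 337) (.l 651))))) (.n 8 (.n 3 (.n 5 (.n 11 (.n 10 (.l 448) (.l 862)) (.n 7 (.l 50) (.l 642))) (.n 7 (.n 12 (.l 577) (.l 835)) (.l 402))) (.n 7 (.n 5 (.n 12 (.l 148) (.l 552)) (.l 279)) (.n 5 (.n 9 (.l 981) (.l 312)) (.l 662)))) (.n 7 (.n 3 (.n 12 (.n 10 (.l 777) (.l 744)) (.n 9 (.l 980) (.l 883))) (.n 5 (.n 9 (.l 948) (.l 582)) (.l 854))) (.n 5 (.n 9 (.n 16 (.l 540) (.l 605)) (.n 3 (.l 88) (.l 765))) (.n 10 (.l 983) (.n 12 (.l 51) (.l 99)))))))) (.n 13 (.n 3 (.n 8 (.n 5 (.n 2 (.n 9 (.n 10 (.l 920) (.l 208)) (.n 10 (.l 103) (.l 32))) (.n 9 (.l 943) (.n 10 (.l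 521) (.l 228)))) (.n 7 (.n 2 (.n 9 (.l 466) (.l 1035)) (.n 10 (.l 565) (.l 1034))) (.n 9 (.n 12 (.l 1014) (.l 120)) (.n 11 (.l 499) (.l 348))))) (.n 2 (.n 10 (.n 11 (.n 7 (.l 173) (.l 853)) (.n 5 (.l 602) (.l 817))) (.n 11 (.l 186) (.n 12 (.l 567) (.l 996)))) (.n 7 (.n 12 (.n 5 (.l 944) (.l 486)) (.n 9 (.l 613) (.l 66))) (.n 5 (.n 9 (.l 965) (.l 131)) (.l 49))))) (.n 9 (.n 7 (.n 10 (.n 15 (.n 5 (.l 286) (.l 962)) (.n 2 (.l 373) (.l 172))) (.n 8 (.n 12 (.l 691) (.l 706)) (.l 959))) (.n 2 (.n 5 (.n 10 (.l 549) (.l 555)) (.l 526)) (.n 5 (.n 10 (.l 413) (.l 139)) (.l 849)))) (.n 2 (.n 5 (.n 7 (.n 8 (.l 911) (.l 1051)) (.l 850)) (.n 11 (.n 7 (.l 206) (.l 106)) (.n 8 (.l 591) (.l 325)))) (.n 5 (.n 7 (.l 263) (.l 455)) (.n 11 (.l 655) (.n 15 (.l 439) (.l 942))))))) (.n 19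 (.n 3 (.n 7 (.n 2 (.n 5 (.n 10 (.l 874) (.l 724)) (.l 834)) (.n 5 (.n 9 (.l 1001) (.l 812)) (.n 9 (.l 320) (.l 321)))) (.n 9 (.n 5 (.n 11 (.l 830) (.l 532)) (.l 481)) (.n 2 (.n 8 (.l 365) (.l 656)) (.l 889)))) (.n 7 (.n 5 (.n 2 (.n 8 (.l 322) (.l 960)) (.l 858)) (.n 8 (.n 10 (.l 745) (.l 86)) (.l 125))) (.n 16 (.n 2 (.n 5 (.l 95) (.l 798)) (.l 42)) (.n 2 (.n 9 (.l 516) (.l 989)) (.l 123))))) (.n 16 (.n 3 (.n 2 (.n 8 (.l 195) (.n 12 (.l 608) (.l 1023))) (.n 5 (.n 9 (.l 679) (.l 716)) (.n 8 (.l 55) (.l 896)))) (.n 5 (.n 8 (.n 9 (.l 394) (.l 825)) (.l 303)) (.n 7 (.l 216) (.l 653)))) (.n 2 (.n 3 (.n 7 (.n 8 (.l 295) (.l 751)) (.l 701)) (.n 8 (.n 10 (.l 898) (.l 787)) (.n 7 (.l 412) (.l 336)))) (.n 8 (.n 3 (.n 7 (.l 443) (.l 950)) (.l 378)) (.n 3 (.n 10 (.l 218) (.l 720))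 (.l 453)))))))
noncomputable def dtr13 : DT := .n 17 (.n 13 (.n 4 (.n 3 (.n 7 (.n 2 (.n 5 (.l 1530) (.l 1567)) (.n 5 (.n 8 (.l 1290) (.l 1096)) (.l 1554))) (.n 16 (.n 2 (.n 5 (.l 1595) (.l 1199)) (.l 1364)) (.n 9 (.l 1446) (.n 10 (.l 1389) (.l 1566))))) (.n 7 (.n 5 (.n 2 (.n 10 (.l 1299) (.l 1329)) (.l 1636)) (.n 2 (.n 8 (.l 1658) (.l 1125)) (.l 14))) (.n 2 (.n 5 (.n 18 (.l 1385) (.l 1103)) (.l 1486)) (.n 5 (.n 8 (.l 1419) (.l 1262)) (.l 1341))))) (.n 5 (.n 2 (.n 3 (.n 8 (.n 9 (.l 1516) (.l 1142)) (.l 1192)) (.n 7 (.l 1333) (.l 1402))) (.n 7 (.n 3 (.l 7) (.l 1640)) (.n 8 (.n 9 (.l 1337) (.l 1749)) (.l 1305)))) (.n 8 (.n 18 (.n 3 (.n 7 (.l 1612) (.l 1181)) (.l 1603)) (.n 3 (.n 7 (.l 1106) (.l 1752)) (.l 1619))) (.n 7 (.n 2 (.n 9 (.l 1259) (.l 1261)) (.l 1286)) (.n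 9 (.l 1218) (.l 1298)))))) (.n 8 (.n 5 (.n 9 (.n 3 (.n 2 (.l 1116) (.n 10 (.l 1119) (.l 1645))) (.n 4 (.l 1371) (.n 7 (.l 1269) (.l 1297)))) (.n 2 (.n 10 (.n 11 (.l 1482) (.l 1712)) (.l 1548)) (.n 3 (.n 4 (.l 1363) (.l 1431)) (.l 1653)))) (.n 3 (.n 2 (.n 4 (.l 1311) (.n 10 (.l 1112) (.l 1397))) (.n 4 (.l 1544) (.n 9 (.l 10) (.l 1454)))) (.n 10 (.n 2 (.n 7 (.l 1508) (.l 1062)) (.l 12)) (.n 15 (.l 1721) (.l 1649))))) (.n 3 (.n 7 (.n 4 (.n 2 (.n 5 (.l 1358) (.l 1662)) (.l 1080)) (.n 5 (.l 1407) (.l 1534))) (.n 2 (.n 5 (.n 10 (.l 1664) (.l 1459)) (.l 1137)) (.n 4 (.l 1637) (.l 1639)))) (.n 4 (.n 2 (.n 7 (.n 11 (.l 1225) (.l 1380)) (.l 1423)) (.n 9 (.l 1087) (.l 1491))) (.n 11 (.n 2 (.n 7 (.l 1634) (.l 1283)) (.l 1681)) (.n 5 (.n 7 (.l 1264) (.l 1348)) (.l 1060)))))))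 (.n 9 (.n 10 (.n 13 (.n 2 (.n 3 (.n 4 (.n 5 (.l 1657) (.l 1265)) (.l 1256)) (.n 5 (.l 1360) (.n 15 (.l 1625) (.l 1473)))) (.n 3 (.n 4 (.l 1176) (.n 5 (.l 1519) (.l 1503))) (.n 5 (.l 1146) (.l 1425)))) (.n 3 (.n 19 (.n 5 (.n 12 (.l 1236) (.l 1075)) (.l 1194)) (.n 2 (.n 5 (.l 1695) (.l 1629)) (.l 1230))) (.n 2 (.n 5 (.l 1592) (.l 1470)) (.n 5 (.l 1055) (.n 15 (.l 1610) (.l 1586)))))) (.n 11 (.n 2 (.n 3 (.n 4 (.n 8 (.l 1250) (.l 1745)) (.l 1258)) (.n 4 (.n 7 (.l 1596) (.l 1209)) (.l 1447))) (.n 4 (.n 5 (.l 1643) (.l 1254)) (.n 7 (.l 1578) (.n 13 (.l 1308) (.l 1537))))) (.n 13 (.n 12 (.n 3 (.n 15 (.l 1465) (.l 1131)) (.l 1122)) (.n 2 (.n 3 (.l 1480) (.l 1339)) (.l 1157))) (.n 2 (.n 3 (.n 4 (.l 1244) (.l 1466)) (.l 1121)) (.n 3 (.l 1510) (.l 1422)))))) (.n 18 (.n 3 (.n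 7 (.n 8 (.n 5 (.n 12 (.l 1202) (.l 1489)) (.l 1693)) (.n 4 (.l 1327) (.l 1560))) (.n 13 (.n 2 (.n 4 (.l 1665) (.l 1162)) (.l 1274)) (.n 8 (.n 10 (.l 1215) (.l 2)) (.l 1226)))) (.n 4 (.n 7 (.n 5 (.l 1399) (.l 1310)) (.n 2 (.n 8 (.l 1685) (.l 1404)) (.l 1081))) (.n 2 (.n 8 (.n 12 (.l 1714) (.l 1435)) (.l 1382)) (.n 5 (.l 1130) (.n 7 (.l 1065) (.l 1691)))))) (.n 16 (.n 3 (.n 5 (.n 2 (.n 15 (.l 1514) (.l 1738)) (.l 1186)) (.n 2 (.n 7 (.l 1733) (.l 1126)) (.l 1367))) (.n 4 (.n 5 (.n 11 (.l 1706) (.l 1365)) (.l 1287)) (.n 2 (.l 1725) (.l 1536)))) (.n 2 (.n 5 (.n 3 (.l 1747) (.n 12 (.l 1111) (.l 21))) (.n 3 (.l 1242) (.n 4 (.l 1260) (.l 1193)))) (.n 10 (.n 11 (.l 1100) (.l 1546)) (.n 3 (.n 8 (.l 1668) (.l 1673)) (.l 1753)))))))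
noncomputable def dtr14 : DT := .n 18 (.n 2 (.n 4 (.n 9 (.n 5 (.n 10 (.n 12 (.n 15 (.l 878) (.l 64)) (.n 3 (.l 482) (.l 604))) (.n 1 (.n 12 (.l 749) (.l 1037)) (.l 1184))) (.n 16 (.n 12 (.n 10 (.l 484) (.l 660)) (.n 3 (.l 873) (.l 560))) (.n 1 (.n 3 (.l 28) (.l 658)) (.n 3 (.l 1600) (.l 1328))))) (.n 1 (.n 3 (.n 11 (.n 12 (.l 705) (.l 317)) (.n 5 (.l 129) (.l 852))) (.n 5 (.n 8 (.l 82) (.l 649)) (.l 926))) (.n 10 (.n 13 (.n 8 (.l 1164) (.l 3)) (.n 3 (.l 1441) (.l 1263))) (.n 3 (.n 8 (.l 1727) (.l 1343)) (.n 8 (.l 1248) (.l 1589)))))) (.n 16 (.n 3 (.n 5 (.n 1 (.n 8 (.l 595) (.l 474)) (.l 1633)) (.n 8 (.n 10 (.l 450) (.l 435)) (.n 1 (.l 610) (.l 1650)))) (.n 17 (.n 1 (.n 5 (.l 1011) (.l 479)) (.l 1541)) (.n 9 (.l 902) (.l 698)))) (.n 3 (.n 11 (.n 5 (.n 8 (.l 600) (.l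 904)) (.l 562)) (.n 1 (.n 17 (.l 838) (.l 985)) (.l 1426))) (.n 13 (.n 9 (.l 861) (.l 1050)) (.n 1 (.l 510) (.l 1086)))))) (.n 5 (.n 1 (.n 3 (.n 19 (.n 4 (.l 522) (.n 9 (.l 289) (.l 986))) (.n 4 (.l 640) (.n 13 (.l 774) (.l 976)))) (.n 11 (.n 8 (.n 10 (.l 298) (.l 1004)) (.l 845)) (.n 8 (.n 12 (.l 824) (.l 197)) (.l 951)))) (.n 8 (.n 9 (.n 10 (.l 1538) (.n 11 (.l 27) (.l 1716))) (.n 11 (.n 4 (.l 1077) (.l 1421)) (.n 10 (.l 1345) (.l 1102)))) (.n 4 (.n 10 (.n 11 (.l 1293) (.l 1654)) (.l 1386)) (.n 3 (.l 1322) (.n 9 (.l 1627) (.l 1502)))))) (.n 8 (.n 10 (.n 1 (.n 4 (.n 13 (.l 306) (.l 371)) (.l 599)) (.n 3 (.l 1409) (.l 1223))) (.n 9 (.n 1 (.l 707) (.n 4 (.l 1368) (.l 1300))) (.n 3 (.l 746) (.n 4 (.l 47) (.l 823))))) (.n 13 (.n 4 (.n 1 (.n 3 (.l 629) (.l 144)) (.l 1115))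 (.n 9 (.n 12 (.l 356) (.l 246)) (.l 615))) (.n 3 (.n 1 (.n 9 (.l 880) (.l 223)) (.l 1324)) (.n 1 (.n 4 (.l 645) (.l 185)) (.l 1136))))))) (.n 16 (.n 11 (.n 3 (.n 5 (.n 2 (.n 4 (.l 316) (.n 8 (.l 174) (.l 251))) (.n 1 (.n 13 (.l 265) (.l 829)) (.l 26))) (.n 1 (.n 2 (.l 938) (.n 8 (.l 524) (.l 633))) (.n 4 (.n 9 (.l 1439) (.l 1273)) (.l 1572)))) (.n 8 (.n 13 (.n 2 (.n 5 (.l 143) (.l 471)) (.l 637)) (.n 1 (.n 2 (.l 773) (.l 109)) (.l 1608))) (.n 5 (.n 1 (.n 4 (.l 946) (.l 596)) (.l 1496)) (.n 9 (.l 517) (.l 201))))) (.n 4 (.n 10 (.n 3 (.n 8 (.n 9 (.l 597) (.l 58)) (.l 363)) (.n 1 (.l 728) (.l 1069))) (.n 15 (.n 3 (.l 308) (.n 5 (.l 783) (.l 459))) (.n 1 (.l 775) (.n 5 (.l 1323) (.l 1105))))) (.n 10 (.n 9 (.n 1 (.l 1047) (.n 3 (.l 1316) (.l 1054))) (.n 1 (.l 594) (.n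 3 (.l 1155) (.l 1512)))) (.n 1 (.n 2 (.n 3 (.l 44) (.l 375)) (.l 119)) (.n 2 (.n 3 (.l 1631) (.l 1703)) (.l 1460)))))) (.n 8 (.n 1 (.n 2 (.n 5 (.n 3 (.n 9 (.l 420) (.l 219)) (.n 9 (.l 43) (.l 626))) (.n 4 (.l 464) (.n 11 (.l 687) (.l 761)))) (.n 9 (.n 3 (.n 17 (.l 178) (.l 85)) (.l 442)) (.n 5 (.l 910) (.l 108)))) (.n 4 (.n 11 (.n 2 (.n 5 (.l 1166) (.l 1097)) (.l 1734)) (.n 2 (.n 3 (.l 1687) (.l 1289)) (.l 1652))) (.n 2 (.n 3 (.n 5 (.l 1320) (.l 1276)) (.l 1101)) (.n 3 (.l 1213) (.l 1150))))) (.n 10 (.n 1 (.n 2 (.n 3 (.l 242) (.n 11 (.l 261) (.l 755))) (.n 9 (.n 3 (.l 872) (.l 953)) (.n 4 (.l 568) (.l 968)))) (.n 5 (.n 3 (.n 9 (.l 1553) (.l 1457)) (.l 1383)) (.n 2 (.l 1616) (.l 1366)))) (.n 4 (.n 2 (.n 3 (.n 11 (.l 101) (.l 339)) (.l 155)) (.n 1 (.l 278) (.l 1720)))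 (.n 1 (.n 5 (.n 9 (.l 513) (.l 205)) (.l 671)) (.n 3 (.l 1221) (.n 5 (.l 1132) (.l 1099))))))))
noncomputable def dtr15 : DT := .n 18 (.n 11 (.n 3 (.n 4 (.n 5 (.n 9 (.n 1 (.n 2 (.l 351) (.l 39)) (.l 1369)) (.n 1 (.n 13 (.l 292) (.l 231)) (.l 1479))) (.n 1 (.n 2 (.l 502) (.n 8 (.l 382) (.l 703))) (.n 8 (.l 1717) (.n 12 (.l 1527) (.l 1558))))) (.n 5 (.n 1 (.n 2 (.n 8 (.l 408) (.l 204)) (.l 1031)) (.n 10 (.n 9 (.l 1129) (.l 1684)) (.n 8 (.l 1224) (.l 1183)))) (.n 2 (.n 8 (.l 839) (.n 19 (.l 1000) (.l 837))) (.n 8 (.n 10 (.l 61) (.l 931)) (.l 740))))) (.n 17 (.n 5 (.n 1 (.n 9 (.n 10 (.l 915) (.l 569)) (.n 10 (.l 917) (.l 280))) (.n 2 (.l 1243) (.l 1582))) (.n 2 (.n 13 (.n 9 (.l 293) (.l 955)) (.n 1 (.l 503) (.l 1240))) (.n 1 (.n 4 (.l 249) (.l 893)) (.l 1411)))) (.n 4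 (.n 1 (.n 2 (.n 8 (.l 851) (.l 678)) (.n 8 (.l 257) (.l 270))) (.n 2 (.l 1748) (.n 10 (.l 1529) (.l 1085)))) (.n 8 (.n 10 (.n 1 (.l 890) (.l 1552)) (.n 2 (.l 1456) (.l 1143))) (.n 1 (.l 318) (.n 10 (.l 1249) (.l 1270))))))) (.n 17 (.n 8 (.n 1 (.n 3 (.n 15 (.n 4 (.l 396) (.l 423)) (.n 2 (.l 463) (.l 614))) (.n 4 (.n 5 (.l 1019) (.l 301)) (.l 171))) (.n 5 (.n 2 (.l 1170) (.n 9 (.l 1700) (.l 1200))) (.n 3 (.n 9 (.l 1066) (.l 1594)) (.l 1387)))) (.n 5 (.n 2 (.n 3 (.l 495) (.n 4 (.l 695) (.l 96))) (.n 1 (.l 330) (.l 1395))) (.n 1 (.n 4 (.n 9 (.l 117) (.l 183)) (.l 389)) (.n 2 (.l 1429) (.n 10 (.l 9) (.l 1307)))))) (.n 5 (.n 1 (.n 9 (.n 2 (.n 4 (.l 1025) (.l 407)) (.l 405)) (.n 3 (.l 969) (.n 4 (.l 606) (.l 639)))) (.n 4 (.n 3 (.n 9 (.l 1571) (.l 1330)) (.l 1373)) (.n 2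 (.n 3 (.l 1393) (.l 1417)) (.l 1169)))) (.n 2 (.n 3 (.n 4 (.n 9 (.l 534) (.l 929)) (.n 8 (.l 527) (.l 759))) (.n 1 (.n 13 (.l 721) (.l 90)) (.l 1108))) (.n 1 (.n 3 (.l 763) (.n 8 (.l 646) (.l 621))) (.n 10 (.l 1497) (.l 1410))))))) (.n 1 (.n 3 (.n 2 (.n 10 (.n 5 (.n 4 (.n 9 (.l 554) (.l 214)) (.l 146)) (.n 9 (.l 34) (.l 768))) (.n 4 (.n 5 (.l 475) (.n 8 (.l 79) (.l 866))) (.n 8 (.l 856) (.n 12 (.l 725) (.l 472))))) (.n 9 (.n 13 (.n 4 (.n 8 (.l 276) (.l 715)) (.l 730)) (.n 5 (.l 87) (.l 253))) (.n 4 (.n 8 (.n 10 (.l 509) (.l 262)) (.l 199)) (.n 5 (.l 589) (.n 8 (.l 1002) (.l 805)))))) (.n 4 (.n 11 (.n 12 (.n 2 (.n 9 (.l 244) (.l 33)) (.l 354)) (.n 5 (.l 819) (.l 963))) (.n 5 (.n 2 (.l 1024) (.n 8 (.l 954) (.l 813))) (.n 8 (.n 10 (.l 643) (.l 135)) (.l 233)))) (.n 10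 (.n 5 (.n 8 (.l 1017) (.n 9 (.l 220) (.l 843))) (.n 9 (.l 275) (.l 62))) (.n 8 (.n 2 (.l 1027) (.n 5 (.l 498) (.l 158))) (.n 2 (.l 677) (.n 11 (.l 493) (.l 908))))))) (.n 19 (.n 9 (.n 8 (.n 2 (.n 5 (.l 1082) (.l 1464)) (.n 3 (.l 1177) (.n 4 (.l 1306) (.l 1655)))) (.n 12 (.n 2 (.l 1331) (.n 4 (.l 1647) (.l 1555))) (.n 5 (.n 10 (.l 1408) (.l 1737)) (.l 1239)))) (.n 4 (.n 10 (.n 3 (.n 5 (.l 1405) (.l 1372)) (.l 1638)) (.n 2 (.l 1547) (.n 5 (.l 1705) (.l 1219)))) (.n 2 (.n 3 (.n 10 (.l 1666) (.l 1468)) (.l 1521)) (.n 3 (.l 1151) (.l 1128))))) (.n 2 (.n 4 (.n 3 (.n 5 (.n 10 (.l 1381) (.l 1214)) (.l 1189)) (.n 8 (.n 13 (.l 1149) (.l 1676)) (.l 22))) (.n 8 (.n 9 (.n 10 (.l 1188) (.l 1535)) (.l 1564)) (.n 5 (.l 1484) (.l 1549)))) (.n 8 (.n 17 (.n 11 (.l 1599) (.l 5)) (.n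 3 (.n 4 (.l 1313) (.l 1182)) (.l 1374))) (.n 4 (.n 9 (.n 3 (.l 1467) (.l 1615)) (.n 11 (.l 1455) (.l 1418))) (.n 10 (.l 1336) (.l 1545)))))))
noncomputable def dtr : DT := .n 0 (.n 1 (.n 9 (.n 16 dtr0 dtr1) (.n 16 dtr2 dtr3)) (.n 8 (.n 19 dtr4 dtr5) (.n 2 dtr6 dtr7))) (.n 6 (.n 7 (.n 11 dtr8 dtr9) (.n 11 dtr10 dtr11)) (.n 14 (.n 1 dtr12 dtr13) (.n 7 dtr14 dtr15)))
def P3 : List Ins := [⟨[(0, true)], [0], [1]⟩,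
  ⟨[(1, true)], [1], [1]⟩,
  ⟨[(2, true)], [2343], [1]⟩,
  ⟨[(3, true), (4, true), (5, true)], [2, 4, 5, 8, 9, 13, 15, 17, 18, 20, 22, 1053, 1055, 1056, 1058, 1060, 1061, 1062, 1063, 1066, 1067, 1068, 1070, 1073, 1074, 1076, 1078, 1081, 1082, 1084, 1085, 1088, 1095, 1100, 1103, 1108, 1109, 1114, 1117, 1118, 1119, 1121, 1122, 1124, 1126, 1128, 1129, 1134, 1135, 1137, 1139, 1140, 1143, 1149, 1151, 1152, 1158, 1161, 1162, 1167, 1169, 1170, 1171, 1173, 1175, 1177, 1179, 1180, 1181, 1182, 1183, 1185, 1188, 1189, 1191, 1193, 1196, 1197, 1199, 1200, 1206, 1209, 1210, 1214, 1215, 1216, 1218, 1219, 1222, 1224, 1226, 1230, 1231, 1235, 1237, 1238, 1239, 1240, 1243, 1249, 1252, 1254, 1255, 1257, 1258, 1262, 1266, 1270, 1274, 1281, 1283, 1284, 1285, 1292, 1296, 1297, 1298, 1303,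 1305, 1306, 1307, 1308, 1312, 1313, 1314, 1318, 1321, 1330, 1331, 1332, 1335, 1336, 1337, 1340, 1341, 1342, 1347, 1348, 1349, 1350, 1355, 1360, 1362, 1363, 1364, 1369, 1370, 1372, 1373, 1374, 1375, 1377, 1381, 1385, 1387, 1388, 1389, 1393, 1394, 1395, 1396, 1400, 1402, 1404, 1405, 1408, 1410, 1411, 1413, 1417, 1418, 1419, 1423, 1427, 1428, 1429, 1431, 1432, 1434, 1436, 1442, 1444, 1446, 1449, 1451, 1455, 1456, 1458, 1459, 1462, 1464, 1466, 1467, 1468, 1472, 1474, 1475, 1479, 1483, 1484, 1486, 1488, 1490, 1492, 1493, 1497, 1501, 1504, 1507, 1517, 1521, 1523, 1525, 1527, 1528, 1529, 1531, 1532, 1533, 1535, 1537, 1539, 1540, 1542, 1545, 1546, 1547, 1549, 1550, 1552, 1555, 1557, 1558, 1561, 1562, 1564, 1565, 1566, 1571, 1575, 1577, 1582, 1584, 1588, 1593, 1594, 1595,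 1599, 1601, 1604, 1606, 1607, 1609, 1613, 1614, 1615, 1617, 1621, 1626, 1628, 1632, 1637, 1638, 1639, 1642, 1644, 1645, 1647, 1651, 1655, 1656, 1660, 1664, 1665, 1666, 1668, 1669, 1670, 1672, 1673, 1675, 1676, 1680, 1681, 1682, 1684, 1685, 1686, 1688, 1689, 1691, 1695, 1697, 1698, 1699, 1700, 1705, 1709, 1710, 1711, 1713, 1717, 1722, 1724, 1728, 1732, 1736, 1737, 1739, 1742, 1746, 1748, 1749, 1751, 1752], [155, 123, 131]⟩,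
  ⟨[(7, false), (3, false)], [2199, 2399, 2616, 3206, 3663], [4]⟩]
def P4 : List Ins := [⟨[(0, true)], [0], [1]⟩,
  ⟨[(1, true)], [1], [1]⟩,
  ⟨[(2, true)], [2343], [1]⟩,
  ⟨[(3, true)], [1054], [1]⟩,
  ⟨[(4, true), (5, true), (7, true), (6, true)], [5, 9, 20, 1055, 1063, 1076, 1081, 1085, 1088, 1095, 1100, 1114, 1118, 1119, 1128, 1135, 1139, 1140, 1143, 1151, 1167, 1169, 1177, 1182, 1196, 1200, 1210, 1216, 1219, 1222, 1230, 1235, 1237, 1239, 1254, 1262, 1274, 1303, 1305, 1306, 1307, 1308, 1313, 1321, 1330, 1336, 1337, 1341, 1349, 1355, 1362, 1363, 1364, 1370, 1372, 1373, 1374, 1394, 1395, 1405, 1408, 1410, 1411, 1418, 1419, 1427, 1431, 1436, 1451, 1455, 1458, 1467, 1474, 1475, 1483, 1488, 1492, 1493, 1497, 1504, 1517, 1523, 1525, 1528, 1529, 1531, 1533, 1537, 1540,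 1542, 1545, 1546, 1555, 1557, 1562, 1565, 1571, 1575, 1582, 1588, 1593, 1599, 1606, 1609, 1613, 1615, 1621, 1628, 1632, 1637, 1638, 1639, 1645, 1647, 1651, 1655, 1656, 1660, 1668, 1673, 1681, 1686, 1691, 1698, 1700, 1705, 1710, 1728, 1736, 1737, 1749], [64, 68, 72, 76, 52, 63, 67, 71, 48, 38, 42]⟩,
  ⟨[(10, true), (7, true), (0, false), (1, false)], [4006], [1]⟩,
  ⟨[(10, true), (19, true), (11, false), (4, false)], [4042], [1]⟩]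
def L4 : List (Sp × ℕ × ℕ) := [([(0, true)], 0, 1),
  ([(1, true)], 1, 1),
  ([(3, true)], 1054, 1),
  ([(17, false), (20, false)], 1458, 1),
  ([(18, false), (19, false), (7, true), (4, true), (20, false)], 1237, 1),
  ([(18, false), (19, true), (20, false), (4, true), (17, true)], 1546, 1),
  ([(9, true), (6, true), (7, true), (4, false), (5, false), (19, false), (20, true)], 3292, 1),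
  ([(2, true)], 2343, 1),
  ([(12, false), (5, false), (7, false), (19, true), (20, false), (6, true)], 569, 1),
  ([(15, true), (4, true), (5, true), (3, false), (6, false), (19, true)], 1649, 1),
  ([(12, false), (5, false), (7, false), (6, false), (19, false)], 361, 1),
  ([(13, true), (6, true), (7, true), (5, true), (4, false), (14, false), (19, false)], 2363, 1),
  ([(8, true), (6, true), (4, true), (7, true), (20, true), (5, false), (19, false), (9, false)], 831, 1),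
  ([(16, false), (5, false), (6, false), (19, true), (20, true)], 282, 1),
  ([(15, true), (7, true), (20, true), (5, true), (6, false)], 2107, 1),
  ([(16, false), (5, false), (20, false), (19, false)], 88, 1),
  ([(15, true), (4, true), (19, false), (1, false)], 1619, 1),
  ([(13, true), (6, true), (4, true), (5, true), (7, false), (14, false), (19, false)], 1642, 1),
  ([(9, true), (6, true), (19, true), (7, true)], 2056, 1),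
  ([(9, true), (6, true), (4, true), (20, true)], 935, 1)]
theorem e1 : eng [0] [⟨[(0, true)], [0], [1]⟩] [([(1, true)], 1, 1755)] = true := by decide +kernel
theorem e2 : eng [0, 1] [⟨[(0, true)], [0], [1]⟩, ⟨[(1, true)], [1], [1]⟩] [([(0, false), (2, false), (3, true)], 2343, 1024)] = true := by
  decide +kernel
theorem e3 : eng [0, 1, 2343] P3 [([(9, true), (3, true), (8, true), (5, false), (6, false)], 1054, 20)] = true := by decide +kernel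
theorem e4 : eng [0, 1, 2343, 1054] P4 L4 = true := by decide +kernel
theorem e5 : sepB dtr [0, 1, 1054, 1458, 1237, 1546, 3292, 2343, 569, 1649] [361, 2363, 831, 282, 2107, 88, 1619, 1642, 2056, 935] = true := by decide +kernel
end CfH4.Ru
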