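import Cfsg.Agent.H4.Ru8
/-! The residue code of the Rudvalis lattice. -/
set_option autoImplicit false
set_option maxRecDepth 100000
namespace CfH4.Ru
noncomputable def dp0 : DT := .n 14 (.n 7 (.n 11 (.n 8 (.n 6 (.n 10 (.n 16 (.n 15 (.n 1 (.n 17 (.l 9999) (.l 1821)) (.l 2932)) (.n 17 (.l 1823) (.l 1887))) (.n 3 (.n 1 (.n 4 (.l 56) (.l 621)) (.l 628)) (.n 9 (.l 718) (.l 984)))) (.n 1 (.n 3 (.n 9 (.n 15 (.l 1267) (.l 1173)) (.l 783)) (.n 4 (.l 2159) (.l 792))) (.n 16 (.l 1336) (.l 20)))) (.n 2 (.n 9 (.n 15 (.n 17 (.l 1824) (.l 1888)) (.l 2016)) (.n 1 (.n 16 (.l 440) (.l 6)) (.n 4 (.l 404) (.l 859)))) (.n 3 (.n 10 (.n 9 (.l 471) (.l 784)) (.n 4 (.l 673) (.l 976))) (.n 9 (.l 1114) (.n 10 (.l 687) (.l 1048)))))) (.n 12 (.n 2 (.n 4 (.n 6 (.n 17 (.l 2217) (.l 2282)) (.n 9 (.l 1963) (.l 232))) (.n 3 (.l 3255) (.n 9 (.l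 986) (.l 794)))) (.n 1 (.n 3 (.l 342) (.n 9 (.l 1050) (.l 1112))) (.n 3 (.n 10 (.l 755) (.l 723)) (.n 10 (.l 947) (.l 915))))) (.n 1 (.n 2 (.n 3 (.n 9 (.l 1041) (.l 1562)) (.l 880)) (.n 9 (.l 977) (.l 785))) (.n 6 (.n 15 (.n 17 (.l 1836) (.l 1900)) (.l 2028)) (.n 3 (.l 2092) (.l 1776)))))) (.n 9 (.n 3 (.n 6 (.n 12 (.n 1 (.l 3382) (.n 4 (.l 2934) (.l 630))) (.n 8 (.n 15 (.l 930) (.l 460)) (.l 937))) (.n 1 (.n 16 (.n 2 (.l 2616) (.l 791)) (.n 8 (.l 40) (.l 198))) (.n 4 (.l 1320) (.n 8 (.l 2741) (.l 2293))))) (.n 10 (.n 2 (.n 4 (.l 1185) (.n 8 (.l 738) (.l 745))) (.n 1 (.l 661) (.n 8 (.l 2675) (.l 2227)))) (.n 4 (.n 2 (.l 1377) (.n 12 (.l 658) (.l 1496))) (.n 1 (.l 472) (.n 8 (.l 1257) (.l 1250)))))) (.n 12 (.n 16 (.n 6 (.n 15 (.n 17 (.l 1905) (.l 1841)) (.l 2033)) (.n 1 (.l 1498) (.l 2097))) (.n 2 (.n 10 (.n 15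 (.l 1047) (.l 1391)) (.l 1199)) (.n 8 (.l 983) (.l 465)))) (.n 10 (.n 4 (.n 1 (.n 15 (.l 2865) (.l 1111)) (.l 212)) (.n 2 (.l 474) (.l 464))) (.n 8 (.n 1 (.n 17 (.l 463) (.l 424)) (.l 281)) (.n 16 (.l 3) (.l 248))))))) (.n 6 (.n 3 (.n 15 (.n 10 (.n 2 (.n 1 (.l 225) (.l 2101)) (.n 9 (.l 680) (.l 886))) (.n 11 (.n 8 (.l 2026) (.l 2019)) (.n 2 (.n 16 (.l 2168) (.l 33)) (.l 394)))) (.n 1 (.n 8 (.n 2 (.n 17 (.l 1834) (.l 1898)) (.l 884)) (.n 17 (.l 1891) (.l 1827))) (.n 9 (.n 8 (.n 10 (.l 1313) (.l 2284)) (.l 2732)) (.n 10 (.n 4 (.l 877) (.l 589)) (.n 8 (.l 2737) (.l 2289)))))) (.n 10 (.n 8 (.n 9 (.n 1 (.n 16 (.l 21) (.l 1400)) (.l 1172)) (.n 16 (.l 3064) (.l 47))) (.n 1 (.n 2 (.l 210) (.n 11 (.l 3124) (.l 3126))) (.n 4 (.l 2928) (.l 624)))) (.n 9 (.n 12 (.n 1 (.n 16 (.l 18) (.l 1208)) (.l 1301)) (.n 2 (.l 239) (.l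 1511))) (.n 2 (.n 1 (.l 213) (.l 1327)) (.n 8 (.l 1063) (.l 1127)))))) (.n 16 (.n 17 (.n 11 (.n 10 (.n 3 (.l 603) (.l 2607)) (.n 15 (.l 2152) (.l 2090))) (.n 1 (.n 2 (.l 2869) (.l 696)) (.n 2 (.n 15 (.l 1845) (.l 2037)) (.l 660)))) (.n 10 (.n 1 (.n 4 (.n 9 (.l 1575) (.l 417)) (.l 3189)) (.n 2 (.l 1909) (.l 526))) (.n 3 (.n 9 (.l 2083) (.l 1703)) (.n 4 (.l 431) (.l 807))))) (.n 2 (.n 4 (.n 9 (.n 10 (.l 1384) (.l 1192)) (.n 10 (.l 402) (.l 405))) (.n 3 (.n 8 (.l 1773) (.n 10 (.l 563) (.l 531))) (.n 9 (.l 487) (.l 999)))) (.n 11 (.n 1 (.n 8 (.l 166) (.l 202)) (.n 15 (.l 1780) (.l 523))) (.n 3 (.n 1 (.l 10) (.l 1782)) (.n 8 (.l 546) (.l 553)))))))) (.n 13 (.n 16 (.n 6 (.n 8 (.n 10 (.n 3 (.n 4 (.l 2936) (.l 9)) (.n 2 (.l 2927) (.l 921))) (.n 1 (.n 15 (.l 1046) (.l 1325)) (.n 3 (.l 2157) (.l 594)))) (.n 1 (.n 3 (.n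 15 (.l 3056) (.l 2994)) (.n 7 (.l 2160) (.l 3128))) (.n 4 (.n 3 (.l 1964) (.l 1328)) (.n 7 (.l 201) (.l 2805))))) (.n 4 (.n 3 (.n 11 (.n 9 (.l 2796) (.l 429)) (.n 2 (.l 2605) (.l 685))) (.n 2 (.n 9 (.l 2608) (.l 432)) (.n 1 (.l 688) (.l 264)))) (.n 1 (.n 8 (.n 9 (.l 982) (.l 470)) (.l 343)) (.n 10 (.n 11 (.l 27) (.l 1973)) (.n 3 (.l 219) (.l 1179)))))) (.n 4 (.n 2 (.n 3 (.n 1 (.n 15 (.l 1200) (.l 1110)) (.n 8 (.l 45) (.l 237))) (.n 9 (.n 1 (.l 48) (.l 1197)) (.n 7 (.l 853) (.l 240)))) (.n 7 (.n 1 (.n 8 (.l 1432) (.l 1434)) (.n 8 (.l 1634) (.l 1641))) (.n 9 (.n 11 (.l 1396) (.l 1398)) (.l 1447)))) (.n 11 (.n 1 (.n 6 (.n 8 (.l 596) (.l 1651)) (.n 2 (.l 1307) (.l 790))) (.n 6 (.n 2 (.n 7 (.l 632) (.l 411)) (.l 729)) (.n 7 (.l 393) (.l 1784)))) (.n 6 (.n 2 (.n 3 (.n 10 (.l 1768) (.l 609)) (.l 623)) (.n 3 (.l 667)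 (.l 275))) (.n 12 (.n 2 (.l 1775) (.l 586)) (.n 10 (.l 616) (.l 1761))))))) (.n 10 (.n 6 (.n 17 (.n 3 (.n 2 (.n 7 (.n 8 (.n 15 (.l 1822) (.l 1951)) (.l 2091)) (.l 888)) (.n 11 (.l 3384) (.l 3512))) (.n 1 (.n 2 (.l 879) (.n 11 (.l 3062) (.l 3060))) (.n 4 (.l 1389) (.l 597)))) (.n 15 (.n 9 (.n 2 (.n 8 (.l 1886) (.l 327)) (.l 52)) (.n 1 (.l 346) (.l 1969))) (.n 8 (.n 2 (.l 13) (.l 54)) (.n 12 (.l 332) (.l 1392))))) (.n 2 (.n 7 (.n 1 (.n 15 (.n 8 (.l 1952) (.l 2027)) (.n 17 (.l 1835) (.l 1899))) (.n 3 (.l 2801) (.l 1371))) (.n 11 (.n 17 (.l 694) (.l 537)) (.n 9 (.l 692) (.l 872)))) (.n 4 (.n 9 (.n 11 (.l 2614) (.l 2612)) (.l 653)) (.n 8 (.l 337) (.l 336))))) (.n 9 (.n 15 (.n 4 (.n 2 (.n 8 (.l 2283) (.l 2731)) (.n 1 (.n 3 (.l 2164) (.l 1204)) (.l 1334))) (.n 3 (.n 8 (.l 2999) (.l 1241)) (.n 6 (.l 344) (.l 359))))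 (.n 2 (.n 8 (.n 6 (.l 1962) (.l 397)) (.n 11 (.l 1955) (.l 205))) (.n 1 (.n 3 (.l 2166) (.l 1206)) (.l 1332)))) (.n 12 (.n 15 (.n 16 (.n 1 (.l 436) (.l 852)) (.n 8 (.l 1431) (.l 335))) (.n 2 (.n 3 (.n 8 (.l 290) (.l 297)) (.l 850)) (.l 438))) (.n 2 (.n 3 (.n 8 (.n 17 (.l 865) (.l 270)) (.l 66)) (.l 267)) (.n 15 (.n 6 (.l 244) (.l 102)) (.n 1 (.l 246) (.l 307))))))))
noncomputable def dp1 : DT := .n 14 (.n 7 (.n 1 (.n 15 (.n 17 (.n 6 (.n 10 (.n 2 (.n 11 (.n 16 (.l 1848) (.l 29)) (.l 2088)) (.l 1972)) (.n 3 (.n 9 (.l 1266) (.l 221)) (.l 1386))) (.n 11 (.n 9 (.l 2104) (.l 413)) (.n 2 (.l 1832) (.l 2806)))) (.n 10 (.n 6 (.n 8 (.n 16 (.l 1912) (.l 28)) (.l 3251)) (.n 11 (.l 32) (.l 1896))) (.n 6 (.n 3 (.n 8 (.l 416) (.l 220)) (.l 1379)) (.n 8 (.l 412) (.l 224))))) (.n 10 (.n 11 (.n 16 (.n 2 (.n 4 (.l 2040) (.l 1271))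 (.l 2804)) (.n 3 (.l 31) (.n 8 (.l 1194) (.l 1187)))) (.n 8 (.n 2 (.n 6 (.l 2154) (.l 2024)) (.l 1974)) (.n 4 (.l 2147) (.l 1646)))) (.n 8 (.n 6 (.n 3 (.n 4 (.l 1329) (.l 3319)) (.l 2735)) (.n 2 (.l 415) (.l 682))) (.n 9 (.n 2 (.l 1324) (.l 675)) (.n 3 (.l 223) (.l 2287)))))) (.n 10 (.n 4 (.n 8 (.n 9 (.n 2 (.l 1965) (.l 754)) (.n 6 (.n 16 (.l 3192) (.l 49)) (.l 2609))) (.n 6 (.n 16 (.l 2872) (.l 44)) (.n 11 (.l 2797) (.l 2604)))) (.n 13 (.n 2 (.n 9 (.l 1397) (.l 1444)) (.n 8 (.n 11 (.l 946) (.l 2226)) (.l 2674))) (.n 6 (.n 2 (.n 11 (.l 606) (.l 165)) (.l 693)) (.n 3 (.l 619) (.l 3061))))) (.n 8 (.n 6 (.n 9 (.n 15 (.l 1311) (.n 17 (.l 1308) (.l 1309))) (.n 2 (.l 236) (.l 2679))) (.n 4 (.n 11 (.l 1312) (.l 433)) (.n 3 (.l 2165) (.l 1205)))) (.n 3 (.n 2 (.n 6 (.l 241) (.l 428)) (.l 759)) (.n 9 (.n 4 (.l 356) (.l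 302)) (.n 11 (.l 951) (.l 2231))))))) (.n 11 (.n 15 (.n 16 (.n 8 (.n 9 (.n 3 (.n 4 (.l 1322) (.l 2613)) (.l 3057)) (.n 2 (.l 2161) (.l 689))) (.n 1 (.n 3 (.l 875) (.l 1968)) (.l 1315))) (.n 6 (.n 13 (.n 17 (.l 1180) (.l 1181)) (.n 1 (.l 1375) (.l 1196))) (.n 1 (.n 3 (.l 567) (.l 1184)) (.n 8 (.l 1758) (.l 245))))) (.n 3 (.n 8 (.n 6 (.n 9 (.n 16 (.l 2744) (.l 42)) (.l 862)) (.n 4 (.l 426) (.l 562))) (.n 10 (.n 1 (.l 419) (.l 1771)) (.n 16 (.l 2296) (.l 35)))) (.n 6 (.n 13 (.n 1 (.l 1183) (.l 1388)) (.n 17 (.l 1372) (.l 1373))) (.n 12 (.l 1376) (.l 2800))))) (.n 6 (.n 3 (.n 9 (.n 12 (.n 1 (.l 672) (.l 2156)) (.n 15 (.n 17 (.l 1825) (.l 1889)) (.l 2017))) (.n 1 (.n 8 (.l 227) (.l 234)) (.l 437))) (.n 1 (.n 15 (.n 17 (.l 1839) (.l 1903)) (.l 2031)) (.n 8 (.n 10 (.l 1393) (.l 1201)) (.l 2863)))) (.n 2 (.n 4 (.n 15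 (.n 3 (.l 2081) (.l 2095)) (.n 8 (.l 2602) (.l 2280))) (.n 1 (.l 1333) (.n 16 (.l 3448) (.l 53)))) (.n 1 (.n 15 (.n 17 (.l 668) (.l 669)) (.l 671)) (.n 4 (.l 684) (.l 2406))))))) (.n 13 (.n 4 (.n 3 (.n 8 (.n 15 (.n 17 (.n 6 (.l 1837) (.l 2093)) (.n 1 (.l 2929) (.l 1901))) (.n 1 (.l 2995) (.n 7 (.l 2029) (.l 2733)))) (.n 2 (.n 9 (.l 2285) (.l 876)) (.n 9 (.n 11 (.l 2868) (.l 2870)) (.l 750)))) (.n 7 (.n 15 (.n 8 (.n 9 (.l 484) (.l 996)) (.l 311)) (.n 1 (.n 8 (.l 2288) (.l 2736)) (.l 804))) (.n 17 (.n 12 (.n 6 (.l 1374) (.l 1387)) (.n 1 (.l 1904) (.l 3121))) (.n 6 (.n 15 (.l 1840) (.l 2032)) (.l 2096))))) (.n 6 (.n 15 (.n 1 (.n 9 (.l 1650) (.l 625)) (.n 2 (.n 7 (.n 17 (.l 604) (.l 605)) (.l 1760)) (.n 8 (.l 1572) (.l 1700)))) (.n 2 (.n 7 (.n 8 (.l 607) (.l 101)) (.n 8 (.l 618) (.l 611))) (.n 8 (.l 2670) (.n 11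 (.l 2222) (.l 942))))) (.n 7 (.n 9 (.n 8 (.n 10 (.l 608) (.l 1770)) (.l 1763)) (.n 3 (.l 885) (.n 8 (.l 1060) (.l 1124)))) (.n 2 (.n 17 (.n 15 (.l 1756) (.l 1759)) (.n 1 (.l 1777) (.l 1757))) (.n 11 (.n 15 (.l 2343) (.l 3446)) (.l 3381)))))) (.n 11 (.n 15 (.n 8 (.n 17 (.n 2 (.n 7 (.n 9 (.l 1976) (.l 874)) (.n 3 (.l 863) (.l 1182))) (.n 6 (.l 1844) (.l 2100))) (.n 1 (.n 2 (.n 6 (.l 30) (.l 414)) (.l 1908)) (.l 2864))) (.n 4 (.n 1 (.n 9 (.l 2861) (.l 867)) (.l 1323)) (.n 6 (.l 620) (.l 1772)))) (.n 7 (.n 8 (.n 1 (.l 2036) (.n 2 (.l 1310) (.l 3190))) (.n 6 (.n 12 (.l 427) (.l 1655)) (.n 16 (.l 2808) (.l 43)))) (.n 9 (.n 2 (.l 1195) (.n 8 (.l 2740) (.l 2292))) (.n 6 (.n 17 (.l 860) (.l 861)) (.l 864))))) (.n 7 (.n 15 (.n 1 (.n 12 (.n 2 (.l 1781) (.l 2038)) (.n 6 (.l 222) (.l 1960))) (.n 2 (.n 8 (.l 1508) (.l 3125))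 (.l 3188))) (.n 2 (.n 6 (.n 8 (.l 1262) (.l 2603)) (.l 235)) (.n 17 (.n 6 (.l 1846) (.l 2102)) (.n 1 (.l 1910) (.l 306))))) (.n 6 (.n 2 (.n 1 (.n 3 (.l 1953) (.l 1967)) (.l 881)) (.n 8 (.l 2742) (.n 10 (.l 683) (.l 2294)))) (.n 8 (.n 2 (.n 4 (.l 629) (.l 2933)) (.l 670)) (.n 3 (.n 4 (.l 2155) (.l 558)) (.l 2799)))))))
noncomputable def dp2 : DT := .n 10 (.n 8 (.n 12 (.n 7 (.n 18 (.n 1 (.n 2 (.n 16 (.l 824) (.l 12)) (.n 4 (.l 406) (.n 11 (.l 820) (.l 822)))) (.n 4 (.n 3 (.l 588) (.l 2483)) (.n 9 (.l 980) (.l 813)))) (.n 15 (.n 2 (.n 1 (.l 799) (.l 2478)) (.n 9 (.l 1056) (.l 1504))) (.n 17 (.n 13 (.l 796) (.l 798)) (.n 1 (.l 797) (.l 817))))) (.n 9 (.n 11 (.n 14 (.n 3 (.l 1002) (.l 978)) (.n 1 (.l 781) (.l 1051))) (.n 1 (.n 3 (.l 656) (.l 815)) (.l 1077))) (.n 1 (.n 3 (.l 663) (.n 4 (.l 1569) (.l 789))) (.n 3 (.n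 11 (.l 1525) (.l 1499)) (.l 2148))))) (.n 16 (.n 3 (.n 2 (.n 1 (.n 4 (.l 1712) (.l 7)) (.n 4 (.l 457) (.l 364))) (.n 4 (.n 9 (.l 1131) (.l 1512)) (.l 2473))) (.n 4 (.n 1 (.n 9 (.l 423) (.l 1578)) (.n 9 (.l 1708) (.l 1304))) (.n 2 (.n 11 (.l 368) (.l 469)) (.n 1 (.l 1316) (.l 2346))))) (.n 14 (.n 9 (.n 7 (.n 1 (.l 1064) (.l 497)) (.n 3 (.l 993) (.l 495))) (.n 18 (.n 4 (.l 1176) (.l 504)) (.n 15 (.n 17 (.l 476) (.l 477)) (.l 479)))) (.n 2 (.n 1 (.n 7 (.l 478) (.l 461)) (.l 493)) (.n 1 (.n 11 (.l 502) (.l 500)) (.l 1188)))))) (.n 3 (.n 13 (.n 11 (.n 2 (.n 7 (.l 350) (.n 16 (.l 333) (.l 995))) (.n 12 (.n 9 (.l 934) (.l 372)) (.n 1 (.l 1120) (.l 1115)))) (.n 2 (.n 4 (.n 9 (.l 657) (.l 1711)) (.l 207)) (.n 4 (.n 9 (.l 1128) (.l 1515)) (.n 9 (.l 2214) (.l 374))))) (.n 1 (.n 15 (.n 17 (.n 16 (.l 349) (.l 5)) (.n 18 (.l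 376) (.l 348))) (.n 2 (.n 4 (.l 1370) (.l 351)) (.l 1067))) (.n 11 (.n 4 (.l 329) (.n 12 (.l 365) (.l 812))) (.n 2 (.n 9 (.l 369) (.l 492)) (.l 1141))))) (.n 14 (.n 15 (.n 18 (.n 11 (.n 16 (.l 1720) (.l 26)) (.l 216)) (.n 1 (.n 17 (.l 1692) (.l 1693)) (.l 1713))) (.n 2 (.n 1 (.n 7 (.l 1695) (.l 1571)) (.l 2482)) (.n 1 (.n 11 (.l 742) (.l 549)) (.l 136)))) (.n 7 (.n 1 (.n 2 (.l 1694) (.n 11 (.l 1716) (.l 1718))) (.n 17 (.n 4 (.l 1709) (.l 602)) (.n 2 (.l 1638) (.l 228)))) (.n 11 (.n 12 (.n 4 (.l 858) (.l 341)) (.n 1 (.l 816) (.l 2276))) (.n 9 (.l 367) (.l 496))))))) (.n 3 (.n 9 (.n 14 (.n 17 (.n 18 (.n 4 (.n 8 (.l 1583) (.l 1178)) (.l 1016)) (.n 1 (.n 15 (.l 988) (.l 991)) (.l 1004))) (.n 2 (.n 8 (.n 16 (.l 15) (.l 989)) (.n 11 (.l 199) (.l 204))) (.n 1 (.n 8 (.l 407) (.l 1451)) (.l 1435)))) (.n 2 (.n 1 (.n 4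 (.l 662) (.n 11 (.l 990) (.l 197))) (.n 4 (.l 591) (.l 1005))) (.n 13 (.n 1 (.n 11 (.l 1440) (.l 1448)) (.l 2351)) (.n 1 (.n 11 (.l 1012) (.l 1014)) (.l 1461))))) (.n 15 (.n 8 (.n 1 (.n 2 (.n 16 (.l 810) (.l 481)) (.l 400)) (.n 11 (.l 788) (.l 1009))) (.n 2 (.n 4 (.l 1584) (.n 11 (.l 803) (.l 353))) (.n 1 (.l 294) (.l 2352)))) (.n 13 (.n 7 (.n 1 (.l 401) (.l 468)) (.n 8 (.n 16 (.l 801) (.l 490)) (.l 483))) (.n 16 (.n 1 (.n 8 (.l 355) (.l 362)) (.l 340)) (.n 1 (.n 4 (.l 1368) (.l 847)) (.l 1380)))))) (.n 4 (.n 18 (.n 11 (.n 1 (.n 13 (.n 16 (.l 1592) (.l 24)) (.n 2 (.l 856) (.l 1588))) (.n 8 (.n 9 (.l 1254) (.l 1581)) (.l 1306))) (.n 2 (.n 7 (.l 218) (.n 8 (.l 2536) (.l 1697))) (.n 13 (.l 679) (.l 1590)))) (.n 17 (.n 8 (.n 2 (.n 13 (.n 15 (.l 1564) (.l 1567)) (.l 1566)) (.l 612)) (.n 1 (.l 1706) (.l 1580))) (.n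 7 (.n 1 (.l 1565) (.l 1585)) (.n 8 (.n 9 (.l 1699) (.l 2087)) (.l 2539))))) (.n 2 (.n 1 (.n 8 (.n 11 (.n 9 (.l 981) (.l 786)) (.n 12 (.l 1007) (.l 466))) (.n 9 (.l 1008) (.l 338))) (.n 17 (.n 11 (.n 13 (.l 600) (.l 2356)) (.l 2358)) (.n 11 (.n 13 (.l 1767) (.l 2487)) (.l 2549)))) (.n 17 (.n 13 (.n 18 (.n 15 (.l 1828) (.l 2020)) (.n 1 (.l 2349) (.l 2360))) (.n 1 (.l 2348) (.n 7 (.l 1956) (.l 868)))) (.n 11 (.n 16 (.l 1892) (.l 36)) (.n 1 (.l 2353) (.l 72)))))))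
noncomputable def dp3 : DT := .n 9 (.n 7 (.n 16 (.n 8 (.n 1 (.n 3 (.n 2 (.n 4 (.l 2543) (.l 396)) (.n 10 (.l 16) (.l 22))) (.n 10 (.n 12 (.l 1707) (.l 408)) (.l 871))) (.n 4 (.n 15 (.l 1521) (.l 1132)) (.n 3 (.n 10 (.l 592) (.l 598)) (.l 420)))) (.n 15 (.n 2 (.n 3 (.n 4 (.l 1142) (.l 326)) (.n 11 (.l 1696) (.l 1704))) (.n 1 (.l 1119) (.l 1108))) (.n 14 (.n 17 (.n 18 (.l 1144) (.l 1116)) (.l 1117)) (.n 1 (.n 2 (.l 1140) (.l 1118)) (.l 1133))))) (.n 17 (.n 14 (.n 10 (.n 1 (.n 15 (.n 18 (.l 1080) (.l 1052)) (.l 1055)) (.l 1068)) (.n 1 (.n 11 (.l 992) (.l 1000)) (.l 1044))) (.n 2 (.n 4 (.n 11 (.l 1076) (.l 1078)) (.l 1003)) (.n 1 (.n 10 (.l 1054) (.l 1437)) (.n 4 (.l 1069) (.l 593))))) (.n 13 (.n 14 (.n 10 (.n 8 (.l 1053) (.l 17)) (.n 1 (.l 391) (.l 1453))) (.n 15 (.n 18 (.l 1464) (.l 1436)) (.n 1 (.l 1439) (.l 1302))))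 (.n 2 (.n 11 (.l 1460) (.l 1462)) (.n 1 (.n 8 (.l 1438) (.l 215)) (.l 1452)))))) (.n 8 (.n 3 (.n 10 (.n 2 (.n 1 (.n 11 (.l 68) (.l 169)) (.l 2409)) (.n 11 (.l 1450) (.n 12 (.l 855) (.l 1441)))) (.n 11 (.n 1 (.n 12 (.l 1066) (.l 1123)) (.l 987)) (.n 1 (.n 4 (.l 1057) (.l 655)) (.l 1013)))) (.n 10 (.n 13 (.n 1 (.n 15 (.l 1174) (.l 1136)) (.l 179)) (.n 4 (.n 15 (.l 1519) (.l 1045)) (.l 2419))) (.n 1 (.n 4 (.n 13 (.l 1042) (.l 1366)) (.l 1253)) (.n 2 (.l 2545) (.l 147))))) (.n 17 (.n 1 (.n 10 (.n 11 (.n 3 (.l 1443) (.l 1109)) (.n 2 (.l 231) (.l 666))) (.n 3 (.n 11 (.l 1130) (.l 1121)) (.n 15 (.l 1456) (.l 1106)))) (.n 2 (.n 11 (.n 13 (.l 1691) (.l 550)) (.l 1717)) (.n 4 (.l 110) (.l 119)))) (.n 2 (.n 1 (.n 3 (.n 11 (.l 142) (.l 162)) (.l 139)) (.n 3 (.n 11 (.l 2213) (.l 933)) (.l 741))) (.n 12 (.n 1 (.n 3 (.l 1059)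 (.l 1637)) (.l 153)) (.n 1 (.n 4 (.l 1072) (.l 2418)) (.l 178))))))) (.n 2 (.n 10 (.n 18 (.n 17 (.n 11 (.n 1 (.n 4 (.l 1526) (.l 488)) (.l 795)) (.n 1 (.n 4 (.l 1524) (.l 808)) (.l 475))) (.n 12 (.n 1 (.n 3 (.l 399) (.l 2151)) (.l 347)) (.n 1 (.n 4 (.l 1191) (.l 360)) (.l 1319)))) (.n 4 (.n 1 (.n 8 (.l 2538) (.l 2279)) (.n 8 (.n 11 (.l 501) (.l 821)) (.l 373))) (.n 8 (.n 11 (.n 17 (.l 800) (.l 363)) (.l 480)) (.n 11 (.n 17 (.l 811) (.l 352)) (.l 491))))) (.n 14 (.n 17 (.n 7 (.n 11 (.l 1568) (.l 1576)) (.n 1 (.n 16 (.l 1895) (.l 39)) (.l 1589))) (.n 18 (.n 3 (.l 1383) (.n 7 (.l 410) (.l 2552))) (.n 1 (.n 15 (.l 1831) (.l 2023)) (.l 2540)))) (.n 3 (.n 12 (.n 4 (.l 2544) (.n 8 (.l 98) (.l 105))) (.n 1 (.n 8 (.l 78) (.l 132)) (.l 293))) (.n 1 (.n 7 (.l 1579) (.n 11 (.l 1959) (.l 75))) (.n 16 (.n 4 (.l 2541) (.l 676))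 (.n 17 (.l 1563) (.l 615))))))) (.n 10 (.n 7 (.n 1 (.n 18 (.n 8 (.n 16 (.l 1528) (.l 23)) (.l 214)) (.n 13 (.l 1502) (.n 15 (.n 17 (.l 1500) (.l 1501)) (.l 1503)))) (.n 8 (.n 4 (.n 13 (.l 1073) (.l 1517)) (.l 599)) (.n 15 (.l 1516) (.l 1137)))) (.n 16 (.n 3 (.n 4 (.l 849) (.n 8 (.l 652) (.l 330))) (.n 4 (.n 13 (.l 1135) (.l 1520)) (.l 2414))) (.n 14 (.n 3 (.l 458) (.n 15 (.l 1071) (.l 1367))) (.n 1 (.l 848) (.n 8 (.l 174) (.l 83)))))) (.n 15 (.n 14 (.n 3 (.n 7 (.l 208) (.l 1505)) (.n 11 (.l 1764) (.n 12 (.l 1175) (.l 664)))) (.n 1 (.n 11 (.l 2548) (.n 12 (.l 1455) (.l 2357))) (.n 3 (.l 1457) (.n 11 (.l 2084) (.l 2344))))) (.n 1 (.n 3 (.n 16 (.n 8 (.l 1514) (.l 1507)) (.n 7 (.l 209) (.l 854))) (.n 13 (.l 2423) (.l 2550))) (.n 4 (.n 3 (.l 1303) (.n 8 (.l 114) (.l 115))) (.n 7 (.l 2347) (.n 11 (.l 183) (.l 89))))))))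
noncomputable def dp4 : DT := .n 8 (.n 3 (.n 15 (.n 5 (.n 7 (.n 2 (.n 6 (.n 11 (.l 2039) (.l 217)) (.l 547)) (.n 13 (.l 3511) (.l 2407))) (.n 6 (.n 9 (.n 10 (.l 555) (.l 887)) (.l 2743)) (.n 2 (.l 164) (.l 1573)))) (.n 9 (.n 2 (.n 10 (.n 11 (.l 979) (.l 814)) (.l 1011)) (.n 6 (.l 529) (.l 1189))) (.n 11 (.n 2 (.l 370) (.l 2415)) (.n 10 (.l 499) (.l 467))))) (.n 6 (.n 13 (.n 5 (.n 2 (.n 7 (.l 1975) (.l 1635)) (.n 17 (.l 3383) (.l 2342))) (.n 9 (.l 494) (.n 10 (.l 819) (.l 1006)))) (.n 18 (.n 5 (.n 17 (.l 1847) (.l 1911)) (.l 787)) (.n 7 (.n 16 (.l 3576) (.l 55)) (.l 2167)))) (.n 2 (.n 9 (.n 12 (.l 1643) (.l 439)) (.n 7 (.n 11 (.l 2103) (.l 2615)) (.l 200))) (.n 9 (.n 10 (.n 11 (.l 1113) (.l 1381)) (.l 1527)) (.n 5 (.l 695) (.n 10 (.l 1463) (.l 1079))))))) (.n 11 (.n 7 (.n 2 (.n 13 (.n 15 (.l 1626) (.l 614)) (.n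 5 (.l 560) (.n 15 (.l 677) (.l 1591)))) (.n 5 (.n 9 (.l 940) (.l 2673)) (.n 6 (.l 155) (.l 2149)))) (.n 6 (.n 9 (.n 2 (.l 1648) (.l 2408)) (.n 10 (.n 12 (.l 1509) (.l 1207)) (.l 1399))) (.n 13 (.n 2 (.n 16 (.l 2422) (.l 1766)) (.l 137)) (.n 16 (.l 2551) (.l 538))))) (.n 6 (.n 7 (.n 10 (.n 5 (.n 12 (.l 2220) (.l 2669)) (.l 181)) (.n 9 (.l 1321) (.l 300))) (.n 2 (.n 10 (.l 1061) (.n 12 (.l 1445) (.l 3063))) (.n 9 (.l 2085) (.l 421)))) (.n 18 (.n 15 (.n 13 (.l 1957) (.n 17 (.l 1893) (.l 1829))) (.n 7 (.l 2410) (.l 2021))) (.n 2 (.n 13 (.l 2420) (.l 2485)) (.n 7 (.l 869) (.n 16 (.l 2424) (.l 37)))))))) (.n 13 (.n 2 (.n 9 (.n 18 (.n 16 (.n 3 (.l 25) (.n 6 (.l 1177) (.l 533))) (.n 6 (.n 7 (.l 1656) (.l 1633)) (.l 1640))) (.n 15 (.n 5 (.n 6 (.n 17 (.l 1628) (.l 1629)) (.l 1632)) (.l 1010)) (.n 6 (.n 7 (.l 1631) (.l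 1642)) (.l 542)))) (.n 12 (.n 5 (.n 3 (.n 10 (.l 525) (.l 409)) (.l 1647)) (.n 10 (.l 498) (.l 339))) (.n 3 (.n 5 (.l 2807) (.l 818)) (.n 6 (.n 16 (.l 740) (.l 1561)) (.l 1639))))) (.n 3 (.n 17 (.n 7 (.n 5 (.l 587) (.l 1049)) (.n 11 (.l 731) (.l 665))) (.n 5 (.n 11 (.l 564) (.l 566)) (.n 6 (.l 535) (.l 1433)))) (.n 11 (.n 9 (.n 10 (.l 941) (.l 916)) (.n 5 (.l 2225) (.l 117))) (.n 12 (.n 5 (.l 945) (.l 2411)) (.n 10 (.l 2221) (.l 1314)))))) (.n 7 (.n 2 (.n 10 (.n 5 (.n 3 (.n 11 (.l 1630) (.l 247)) (.l 559)) (.n 9 (.l 366) (.l 371))) (.n 3 (.n 11 (.l 554) (.l 545)) (.n 5 (.l 530) (.n 16 (.l 1719) (.l 551))))) (.n 3 (.n 5 (.n 11 (.l 1652) (.n 17 (.l 1654) (.l 522))) (.n 9 (.l 2416) (.n 10 (.l 1497) (.l 1143)))) (.n 9 (.n 5 (.n 10 (.l 2668) (.l 305)) (.l 2277)) (.n 5 (.n 10 (.l 276) (.l 301)) (.l 91))))) (.n 6 (.n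 9 (.n 2 (.n 3 (.n 11 (.l 544) (.l 552)) (.n 11 (.l 1369) (.l 1125))) (.n 10 (.l 528) (.l 534))) (.n 10 (.n 12 (.l 857) (.l 2295)) (.n 3 (.l 392) (.l 3127)))) (.n 17 (.n 2 (.n 11 (.n 16 (.l 8) (.l 541)) (.l 100)) (.n 3 (.l 757) (.n 11 (.l 229) (.l 73)))) (.n 15 (.n 2 (.l 543) (.l 1701)) (.n 3 (.n 18 (.l 568) (.l 540)) (.l 536)))))))
noncomputable def dp5 : DT := .n 18 (.n 17 (.n 14 (.n 12 (.n 6 (.n 3 (.n 10 (.n 9 (.l 51) (.l 1966)) (.n 2 (.l 1272) (.l 724))) (.n 16 (.n 5 (.l 1263) (.l 1242)) (.n 10 (.l 1171) (.l 1237)))) (.n 2 (.n 8 (.l 435) (.l 2798)) (.n 5 (.l 659) (.n 9 (.l 1043) (.l 1239))))) (.n 6 (.n 7 (.n 9 (.n 15 (.l 1842) (.l 2034)) (.n 3 (.l 243) (.l 1240))) (.n 8 (.l 1249) (.l 2738))) (.n 2 (.n 3 (.n 8 (.l 1256) (.l 2098)) (.l 2547)) (.n 3 (.l 1107) (.l 109))))) (.n 2 (.n 15 (.n 9 (.n 3 (.n 5 (.l 1970)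 (.l 985)) (.l 3123)) (.n 5 (.n 7 (.l 2030) (.l 2734)) (.l 473))) (.n 6 (.n 5 (.n 7 (.l 1838) (.l 851)) (.l 793)) (.n 5 (.n 9 (.l 2802) (.l 2094)) (.l 328)))) (.n 6 (.n 3 (.n 8 (.n 11 (.l 1268) (.l 1270)) (.l 749)) (.n 8 (.l 617) (.n 11 (.l 590) (.l 610)))) (.n 5 (.n 8 (.l 1769) (.n 11 (.l 923) (.l 1762))) (.n 3 (.l 1459) (.l 84)))))) (.n 13 (.n 3 (.n 11 (.n 2 (.n 7 (.n 8 (.l 3320) (.l 1906)) (.l 2290)) (.n 8 (.l 1075) (.l 1139))) (.n 6 (.n 7 (.l 1902) (.n 8 (.l 2163) (.l 2286))) (.n 2 (.l 2611) (.l 691)))) (.n 7 (.n 10 (.n 8 (.l 2477) (.l 1715)) (.n 9 (.l 1318) (.l 1587))) (.n 2 (.n 9 (.l 1203) (.l 3059)) (.n 10 (.l 173) (.l 148))))) (.n 6 (.n 9 (.n 2 (.n 3 (.l 19) (.n 8 (.l 1395) (.l 1264))) (.n 11 (.l 3316) (.l 3318))) (.n 8 (.n 5 (.l 883) (.l 345)) (.n 2 (.l 211) (.l 265)))) (.n 8 (.n 2 (.n 3 (.l 403) (.l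 1255)) (.n 9 (.l 1238) (.l 1523))) (.n 10 (.n 11 (.l 524) (.l 456)) (.n 2 (.l 527) (.l 283))))))) (.n 15 (.n 8 (.n 13 (.n 17 (.n 3 (.n 5 (.n 10 (.l 1907) (.l 1246)) (.l 2345)) (.n 2 (.l 1714) (.l 177))) (.n 3 (.n 6 (.n 9 (.l 1843) (.l 242)) (.l 2099)) (.l 3122))) (.n 2 (.n 10 (.n 3 (.n 7 (.l 1971) (.l 878)) (.l 1390)) (.n 5 (.n 6 (.n 17 (.l 1244) (.l 1245)) (.l 1248)) (.l 823))) (.n 3 (.n 9 (.l 748) (.l 2998)) (.n 9 (.n 10 (.l 2677) (.l 997)) (.l 485))))) (.n 2 (.n 9 (.n 7 (.n 6 (.n 16 (.l 3256) (.l 50)) (.l 2610)) (.n 3 (.l 2162) (.l 1202))) (.n 3 (.n 5 (.l 434) (.n 11 (.l 932) (.l 2212))) (.n 5 (.l 3058) (.n 6 (.l 1586) (.l 2546))))) (.n 5 (.n 3 (.n 6 (.n 9 (.l 3252) (.l 753)) (.l 690)) (.n 9 (.n 11 (.l 2229) (.l 949)) (.l 357))) (.n 9 (.n 3 (.n 10 (.l 1074) (.l 1458)) (.l 172)) (.n 13 (.l 1134) (.l 1522))))))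 (.n 9 (.n 8 (.n 5 (.n 7 (.n 6 (.n 10 (.l 2035) (.l 1247)) (.l 430)) (.n 3 (.n 10 (.l 1258) (.l 2739)) (.l 2991))) (.n 2 (.n 3 (.l 503) (.n 6 (.l 1582) (.l 2542))) (.n 13 (.l 1138) (.l 1518)))) (.n 10 (.n 12 (.n 5 (.n 6 (.l 1251) (.l 2803)) (.l 292)) (.n 2 (.n 5 (.l 1394) (.l 2476)) (.l 3254))) (.n 5 (.n 6 (.n 7 (.l 238) (.l 2291)) (.l 1259)) (.n 2 (.l 375) (.l 113))))) (.n 7 (.n 5 (.n 2 (.n 6 (.n 16 (.l 3000) (.l 46)) (.l 2606)) (.l 2996)) (.n 2 (.n 3 (.l 1015) (.n 8 (.l 2481) (.l 1710))) (.n 10 (.l 1070) (.l 1454)))) (.n 2 (.n 3 (.n 8 (.l 2158) (.l 882)) (.n 8 (.l 1198) (.l 2992))) (.n 10 (.n 3 (.l 686) (.l 805)) (.n 5 (.l 309) (.l 108)))))))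
noncomputable def dp6 : DT := .n 16 (.n 8 (.n 13 (.n 10 (.n 6 (.n 3 (.n 5 (.n 9 (.l 2224) (.l 2671)) (.l 1698)) (.n 17 (.n 15 (.n 18 (.l 2680) (.l 1833)) (.l 2025)) (.n 2 (.l 806) (.l 1897)))) (.n 2 (.n 5 (.l 681) (.l 1122)) (.n 7 (.n 11 (.l 2601) (.l 2089)) (.l 135)))) (.n 7 (.n 5 (.n 6 (.l 206) (.l 425)) (.n 3 (.l 1577) (.n 9 (.l 2350) (.l 2355)))) (.n 6 (.n 11 (.l 2153) (.n 17 (.l 2666) (.l 2211))) (.n 2 (.l 1269) (.n 3 (.l 2537) (.l 143)))))) (.n 2 (.n 9 (.n 3 (.n 6 (.l 3191) (.l 3317)) (.n 11 (.l 2678) (.l 2676))) (.n 6 (.n 10 (.l 1335) (.l 2935)) (.n 3 (.l 2997) (.l 1513)))) (.n 5 (.n 18 (.n 7 (.l 196) (.l 873)) (.n 6 (.l 1961) (.l 2219))) (.n 6 (.n 3 (.l 331) (.l 1252)) (.n 9 (.n 10 (.l 2413) (.l 1317)) (.l 2417)))))) (.n 15 (.n 6 (.n 3 (.n 9 (.n 5 (.n 10 (.l 2672) (.l 914)) (.l 1705)) (.n 5 (.n 10 (.l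 2223) (.l 277)) (.l 1570))) (.n 11 (.n 5 (.n 7 (.l 14) (.l 2146)) (.l 2354)) (.n 13 (.n 17 (.n 18 (.l 2232) (.l 1826)) (.l 1890)) (.n 2 (.l 2228) (.l 1954))))) (.n 2 (.n 5 (.n 3 (.l 3253) (.l 674)) (.n 9 (.n 10 (.l 912) (.l 918)) (.l 1506))) (.n 5 (.n 9 (.n 11 (.l 2216) (.l 2082)) (.l 418)) (.n 3 (.l 2215) (.l 2412))))) (.n 9 (.n 7 (.n 2 (.n 5 (.l 2230) (.l 1129)) (.n 6 (.l 2018) (.l 2667))) (.n 11 (.n 3 (.l 917) (.l 71)) (.n 17 (.l 2218) (.l 2281)))) (.n 2 (.n 5 (.n 3 (.l 2871) (.l 358)) (.n 10 (.l 278) (.l 272))) (.n 3 (.n 5 (.l 274) (.l 716)) (.n 6 (.n 7 (.l 4) (.l 866)) (.l 79))))))) (.n 11 (.n 14 (.n 10 (.n 18 (.n 2 (.n 3 (.l 1645) (.l 913)) (.n 3 (.l 922) (.n 6 (.l 952) (.l 140)))) (.n 6 (.n 15 (.n 17 (.l 924) (.l 925)) (.l 927)) (.n 2 (.l 556) (.l 928)))) (.n 9 (.n 2 (.n 3 (.l 532) (.l 998)) (.n 3 (.l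 719) (.n 8 (.l 931) (.l 938)))) (.n 12 (.n 6 (.n 8 (.l 226) (.l 233)) (.l 398)) (.n 2 (.l 310) (.n 6 (.l 920) (.l 935)))))) (.n 7 (.n 3 (.n 8 (.n 10 (.n 12 (.l 627) (.l 1644)) (.l 595)) (.n 10 (.l 626) (.l 1305))) (.n 2 (.n 5 (.l 948) (.l 279)) (.n 6 (.l 926) (.n 8 (.l 939) (.l 296))))) (.n 2 (.n 8 (.n 10 (.l 1779) (.l 1243)) (.n 3 (.n 12 (.l 557) (.l 1778)) (.l 266))) (.n 3 (.n 8 (.l 944) (.l 303)) (.n 6 (.n 17 (.l 846) (.l 289)) (.l 133)))))) (.n 9 (.n 6 (.n 3 (.n 8 (.n 10 (.l 1385) (.l 1193)) (.n 5 (.n 10 (.l 1378) (.l 1186)) (.l 280))) (.n 7 (.n 2 (.l 950) (.n 8 (.l 41) (.l 34))) (.n 17 (.l 929) (.l 269)))) (.n 2 (.n 8 (.n 10 (.l 1065) (.l 1449)) (.n 5 (.l 654) (.n 10 (.l 1058) (.l 1442)))) (.n 7 (.n 13 (.l 936) (.l 262)) (.n 3 (.l 295) (.n 8 (.l 69) (.l 76)))))) (.n 10 (.n 7 (.n 3 (.n 2 (.n 8 (.l 622) (.l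 1649)) (.l 459)) (.n 5 (.l 486) (.l 919))) (.n 2 (.n 8 (.l 1774) (.l 561)) (.n 3 (.l 943) (.n 8 (.l 291) (.l 298))))) (.n 18 (.n 2 (.n 5 (.l 308) (.l 273)) (.n 3 (.n 5 (.l 304) (.l 282)) (.l 312))) (.n 6 (.n 13 (.l 286) (.n 15 (.l 287) (.n 17 (.l 285) (.l 284)))) (.n 8 (.l 299) (.l 288)))))))
noncomputable def dp7 : DT := .n 8 (.n 2 (.n 3 (.n 9 (.n 13 (.n 5 (.n 10 (.n 15 (.l 2931) (.l 2993)) (.l 1331)) (.n 6 (.l 1190) (.l 721))) (.n 5 (.n 10 (.n 15 (.l 2866) (.l 1236)) (.l 1261)) (.l 1382))) (.n 7 (.n 15 (.n 10 (.l 3187) (.n 13 (.l 1326) (.l 1265))) (.n 10 (.l 2926) (.n 13 (.l 1574) (.l 631)))) (.n 11 (.n 13 (.l 2471) (.l 1783)) (.n 5 (.n 13 (.l 3447) (.l 2341)) (.l 2479))))) (.n 7 (.n 18 (.n 6 (.n 11 (.n 16 (.l 2488) (.l 38)) (.l 138)) (.n 9 (.l 2472) (.l 422))) (.n 6 (.n 13 (.n 15 (.l 2022) (.n 17 (.l 1894)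 (.l 1830))) (.l 1958)) (.l 2086))) (.n 5 (.n 9 (.n 10 (.l 144) (.l 150)) (.n 10 (.l 151) (.l 81))) (.n 6 (.n 9 (.n 11 (.l 2474) (.l 2150)) (.l 870)) (.n 11 (.l 180) (.l 182)))))) (.n 6 (.n 11 (.n 16 (.n 14 (.n 3 (.l 739) (.n 17 (.l 730) (.l 2421))) (.n 5 (.l 752) (.n 17 (.l 2359) (.l 2484)))) (.n 7 (.n 3 (.l 167) (.n 13 (.l 489) (.l 334))) (.n 9 (.l 160) (.l 134)))) (.n 9 (.n 10 (.n 7 (.n 16 (.l 2486) (.l 1765)) (.l 168)) (.n 15 (.l 1001) (.l 261))) (.n 10 (.n 13 (.l 809) (.l 354)) (.n 3 (.l 203) (.l 107))))) (.n 7 (.n 13 (.n 15 (.n 3 (.n 9 (.l 146) (.l 175)) (.l 161)) (.n 5 (.n 10 (.l 1062) (.l 1446)) (.l 170))) (.n 3 (.n 5 (.l 747) (.n 9 (.l 149) (.l 112))) (.n 5 (.l 1510) (.n 11 (.l 141) (.l 99))))) (.n 18 (.n 15 (.n 3 (.l 152) (.n 16 (.l 2) (.l 184))) (.n 3 (.l 90) (.n 11 (.l 67) (.l 678)))) (.n 13 (.n 15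 (.n 17 (.l 157) (.l 156)) (.l 159)) (.n 11 (.l 158) (.l 613))))))) (.n 3 (.n 2 (.n 14 (.n 6 (.n 12 (.n 11 (.n 15 (.l 601) (.l 1702)) (.l 565)) (.n 10 (.n 9 (.l 2867) (.l 3186)) (.n 15 (.l 1260) (.l 1330)))) (.n 5 (.n 11 (.l 1627) (.l 651)) (.n 9 (.l 720) (.l 727)))) (.n 15 (.n 6 (.n 12 (.l 756) (.l 2930)) (.n 5 (.l 1653) (.l 726))) (.n 7 (.n 9 (.n 11 (.l 539) (.l 758)) (.l 2862)) (.n 5 (.l 521) (.l 2480))))) (.n 6 (.n 18 (.n 7 (.n 11 (.n 16 (.l 760) (.l 11)) (.l 103)) (.n 9 (.l 737) (.l 717))) (.n 15 (.n 13 (.n 17 (.l 732) (.l 733)) (.l 734)) (.n 7 (.l 735) (.l 746)))) (.n 5 (.n 7 (.n 9 (.n 11 (.l 736) (.l 744)) (.l 395)) (.n 11 (.l 154) (.l 88))) (.n 9 (.n 10 (.l 176) (.l 111)) (.n 10 (.l 82) (.l 85)))))) (.n 11 (.n 7 (.n 9 (.n 6 (.n 13 (.l 911) (.l 263)) (.n 2 (.l 2475) (.n 5 (.l 1126) (.l 163)))) (.n 10 (.n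 6 (.n 15 (.l 482) (.l 782)) (.l 97)) (.n 2 (.l 74) (.n 16 (.l 728) (.l 1636))))) (.n 12 (.n 5 (.n 10 (.l 725) (.l 722)) (.n 2 (.l 2278) (.n 9 (.l 171) (.l 104)))) (.n 2 (.n 5 (.n 10 (.l 145) (.l 87)) (.l 118)) (.n 13 (.l 743) (.l 548))))) (.n 6 (.n 14 (.n 15 (.n 5 (.l 751) (.n 9 (.l 994) (.l 462))) (.n 2 (.n 5 (.l 86) (.l 230)) (.l 802))) (.n 7 (.n 9 (.l 268) (.n 15 (.l 361) (.l 271))) (.n 2 (.l 80) (.n 9 (.l 70) (.l 96))))) (.n 18 (.n 13 (.n 2 (.l 116) (.n 7 (.l 77) (.l 131))) (.n 16 (.l 1) (.l 120))) (.n 15 (.n 7 (.l 106) (.l 95)) (.n 13 (.l 94) (.n 17 (.l 92) (.l 93))))))))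
noncomputable def dp : DT := .n 0 (.n 5 (.n 18 dp0 dp1) (.n 6 dp2 dp3)) (.n 1 (.n 4 dp4 dp5) (.n 4 dp6 dp7))
def ks : List ℕ := [28, 30, 32, 34, 44, 46, 60, 76, 156, 160, 164, 168, 170, 284, 286, 300, 1756, 2076]
def Go : List (ℕ × ℕ) := [(880, 0x10000000000000001000100000000000000010000000000000000000100000000000100010000000000010000000000000000000000000000000000010000000000000000000000010000000000000000000100000000000100000000000100000000000000010000000100010000),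
  (864, 0x1000000010000000000000000000000000000000000000000000100000000000000010001000000010000000000000000000000000000000000000000000100010000000000000000000100010000000100000000000100010000000000000000000000010000000100010000),
  (848, 0x100000000000000010000000000000001000100000000000100000000000100000001000000010000000000000000000000000001000000000000000000000000000100000000000000000000000100000000000100000001000000000000000000010000000100010000),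
  (832, 0x10000000000000000000100010001000100000000000100010000000100000000000000010001000000000000000000000001000000000000000000010000000100000000000100010000000000000000000000000001000000010000000000010001000000010000),
  (816, 0x1000100010000000000010001000100000000000100000000000000000000000000010000000000000000000000000000000000000000000000000000000100010000000000000001000100000001000000000000000000010000000100010000000000000000),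
  (800, 0x100000001000000000000000100010000000000000000000000000000000100010000000000000000000000000000000100010000000000000000000000000000000100000000000100000000000100000000000100000000000100010001000000010000),
  (784, 0x10000000000000001000100010000000100010001000100010001000000010000000100000000000000000000000000000000000100010000000100000000000100010000000100000000000100010001000100000001000000010000000000000000)]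
def Gi : List (ℕ × ℕ) := [(768, 0x1000100000000000000000000000100000001000100010001000000010000000000000000000000000000000100000001000000000001000000000001000000000000000100000000000000000000000000000000000000010000000100010000),
  (752, 0x100010001000100000000000000000001000100010001000000000000000000000000000000000000000000010001000100000000000100000000000000000001000000010000000100000000000100000001000000010001000100000000),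
  (736, 0x10000000000000001000100000000000100000001000100010001000100010000000000000001000000000001000100010001000100000000000000010000000000000000000000000000000000000000000100010000000100000000),
  (720, 0x1000000010001000000000001000000010001000100010001000100010000000100000001000100010001000100000001000000010000000100010001000000000001000100000000000000010001000000000000000000010001),
  (704, 0x100010000000000000000000000010000000000000000000000000001000000000001000000010000000000010001000000010000000100010001000000010001000100010001000000010000000000010000000100000000),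
  (688, 0x10001000100010001000100010001000100010001000100000000000000000000000100000001000100010000000000000000000100010000000100010000000000000000000000000001000000010000000100010000),
  (624, 0x1000100010001000000000000000000000000000000000000000100000001000100010000000000000000000100010001000000000001000000000000000000010000000100000000000100010000),
  (560, 0x100010001000100000000000000000000000100000001000100010000000000000000000100010001000000000001000100010001000100000001000000010000000100010000),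
  (496, 0x10001000100010001000000010000000000010001000000000001000000010001000100000000000000000001000100010000000000010000000000000000),
  (432, 0x1000000010000000000010001000000000001000000010001000100000000000000000001000100010000000000010001000100010001),
  (416, 0x100010000000000010000000100010001000000000000000000010001000100000000000100010001000100010001000000010000),
  (400, 0x10001000100000000000100010001000100010001000000010000000000010001000000000001000000010001000100000000)]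
end CfH4.Ru
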