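import Cfsg.Agent.H4.CopAut
import Cfsg.Agent.H8.Coprime
import Cfsg.Agent.FT.Stmt

/-! The `Z*`-theorem for arbitrary `2`-elements, and an application. -/

set_option autoImplicit false
open Cfsg CfH4 CfH5 CfH9 CfH7 Subgroup
open scoped commutatorElement

namespace CfH4

universe u

variable {G : Type u} [Group G]

theorem iso_pow [Finite G] {p : ℕ} [Fact p.Prime] {x : G} {k : ℕ} (hk : x ^ p ^ k = 1)
    (hiso : IsIsolated x) (n : ℕ) : IsIsolated (x ^ n) := by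
  obtain ⟨S, hS, hxS⟩ := exists_sylIn_ge (isPGroup_zpowers hk) (le_top (a := zpowers x))
  have hxS := zpowers_le.1 hxS
  refine iso_of_weakly_closed hS (S.pow_mem hxS n) fun g hg => ?_
  have h1 : x ∈ Cx(g * x ^ n * g⁻¹) := mem_Cx.2 (mem_Cx.1 (iso_le_Cx hiso hS.pgrp hxS hg)).symm
  have h2 : g * x * g⁻¹ ∈ Cx(g * x ^ n * g⁻¹) := mem_Cx.2 (by group)
  obtain ⟨c, hc, hcg⟩ := iso_conj hiso hk h1 h2
  have h3 : c * g * x ^ n * (c * g)⁻¹ = x ^ n := by
    rw [← conj_pow, mem_Cx'.1 hcg]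
  rw [← mem_Cx'.1 hc]
  conv_rhs => rw [← h3]
  group

/-- Glauberman's `Z*`-theorem for `2`-elements. -/
theorem zstar_gen (G : Type u) [Group G] [Finite G] :
    ∀ (x : G) (k : ℕ), x ^ 2 ^ k = 1 → IsIsolated x → InZStar 2 x := by
  refine group_induction
    (P := fun G _ _ => ∀ (x : G) (k : ℕ), x ^ 2 ^ k = 1 → IsIsolated x → InZStar 2 x) ?_ G
  intro G _ _ ih x k hk hiso
  have hq : ∀ (N : Subgroup G) [N.Normal], N ≠ ⊥ → InZStar 2 (QuotientGroup.mk' N x) := by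
    intro N _ h1
    exact ih _ (card_quot_lt h1) _ k (by rw [← map_pow, hk, map_one])
      (iso_map hiso hk (QuotientGroup.mk'_surjective N))
  by_cases hO : pPrimeCore 2 G = ⊥
  swap
  · exact inZStar_of_map (QuotientGroup.mk'_surjective (pPrimeCore 2 G))
      (by rw [QuotientGroup.ker_mk']; exact coprime_card_pPrimeCore 2 G) (hq _ hO)
  by_cases hx : x = 1
  · intro g; simp [hx]
  obtain ⟨n, hn⟩ := exists_pow_orderOf_eq_prime hk hx
  have hO' : ∀ N : Subgroup G, N.Normal → pPrimeCoreOf 2 N = ⊥ := fun N hN =>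
    eq_bot_iff.2 (hO ▸ pPrimeCoreOf_le_pPrimeCore_of_subnormal hN.isSubnormal)
  have hu : x ^ n ∈ center G := mem_center_iff.2 fun g => by
    have := zstar G _ hn (iso_pow hk hiso n) g
    rwa [hO, mem_bot, mul_inv_eq_one, mul_inv_eq_iff_eq_mul] at this
  set u := x ^ n
  have h2 : zpowers u ≤ center G := zpowers_le.2 hu
  haveI := normal_of_le_center h2
  have h3 := hq (zpowers u) (zpowers_ne_bot' (ne_one_of_orderOf_eq_prime hn))
  let M := (pPrimeCore 2 (G ⧸ zpowers u)).comap (QuotientGroup.mk' (zpowers u))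
  have h4 : PNil 2 M := by
    refine PNil.of_map_of_ker_le_Cz (f := QuotientGroup.mk' (zpowers u)) ?_
      (pNil_of_coprime (coprime_card_of_le (map_comap_le _ _) (coprime_card_pPrimeCore 2 _)))
    rw [QuotientGroup.ker_mk']
    exact inf_le_right.trans (h2.trans (center_le_centralizer _))
  intro g
  suffices h : g * x * g⁻¹ = x by simp [h]
  refine hiso g ?_
  have h5 : g * x * g⁻¹ * x⁻¹ ∈ M := by simpa [M] using h3 g
  obtain ⟨a, b, ha', hb', hab, he, ha2, hb2⟩ := exists_pElt_mul_pReg Nat.prime_two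
    (g * x * g⁻¹ * x⁻¹)
  have h6 := h4.mem_pPrimeCoreOf (zpowers_le.2 h5 hb2) hb'
  rw [hO' M inferInstance, mem_bot] at h6
  rw [h6, mul_one] at he
  have h7 := (ha'.map (QuotientGroup.mk' (zpowers u))).eq_one
    (coprime_orderOf_of_mem (coprime_card_pPrimeCore 2 _) (he ▸ h5))
  have h8 := mem_center_iff.1 (h2 ((QuotientGroup.eq_one_iff a).1 h7)) x
  rw [mul_inv_eq_iff_eq_mul.1 he, Commute, SemiconjBy, ← mul_assoc, h8]

theorem shared_centralizer_iso (N Q : Subgroup G) [hN : N.Normal] (hG : Q ⊔ N = ⊤)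
    (t : G) (htZ : t ∈ Q ⊓ Cz(Q)) (htQ : t ∈ ⁅Q, Q⁆)
    (hC : N ⊓ Cz(Q) = N ⊓ Cx(t)) : IsIsolated t := by
  have hdec : ∀ g : G, ∃ n ∈ N, ∃ q ∈ Q, n * q = g := fun g =>
    (mem_sup_of_le_Nm' (A := N) (B := Q) (le_normalizer_of_normal)).1
      (by rw [sup_comm, hG]; exact mem_top g)
  have htc : ∀ q ∈ Q, q * t * q⁻¹ = t := fun q hq => by
    rw [mem_centralizer_iff.1 htZ.2 q hq]; group
  have hCQ : ∀ c ∈ N, c ∈ Cx(t) → ∀ q ∈ Q, q * c = c * q := fun c h1 h2 q hq =>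
    mem_centralizer_iff.1 (mi2 (hC ▸ mi h1 h2 : c ∈ N ⊓ Cz(Q))) q hq
  intro g hg
  obtain ⟨n, hn, q0, hq0, rfl⟩ := hdec g
  have e0 : n * q0 * t * (n * q0)⁻¹ = n * t * n⁻¹ := by
    conv_rhs => rw [← htc q0 hq0]
    group
  rw [e0] at hg ⊢
  -- `u = n t n⁻¹ t⁻¹` centralizes `Q`
  have hu : n * t * n⁻¹ * t⁻¹ ∈ N := by
    have := N.mul_mem hn (hN.conj_mem _ (N.inv_mem hn) t)
    simpa [mul_assoc] using this
  have hu2 : n * t * n⁻¹ * t⁻¹ ∈ Cx(t) := mem_Cx.2 (by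
    rw [inv_mul_cancel_right, ← mul_assoc, hg.eq, mul_inv_cancel_right])
  have hQ' : ∀ q ∈ Q, q * (n * t * n⁻¹) = n * t * n⁻¹ * q := fun q hq => by
    have h1 := hCQ _ hu hu2 q hq
    have h2 := mem_centralizer_iff.1 htZ.2 q hq
    calc q * (n * t * n⁻¹) = q * (n * t * n⁻¹ * t⁻¹) * t := by group
      _ = n * t * n⁻¹ * t⁻¹ * (q * t) := by rw [h1]; group
      _ = _ := by rw [h2]; group
  -- `c q = n q⁻¹ n⁻¹ q`
  have hcN : ∀ q : G, n * q⁻¹ * n⁻¹ * q ∈ N := fun q => by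
    have := N.mul_mem hn (hN.conj_mem _ (N.inv_mem hn) q⁻¹)
    simpa [mul_assoc] using this
  have hc1 : ∀ q ∈ Q, ∀ q' ∈ Q, n * q' * n⁻¹ * (n * q⁻¹ * n⁻¹ * q) =
      n * q⁻¹ * n⁻¹ * q * (n * q' * n⁻¹) := fun q hq q' hq' => by
    have h1 : n⁻¹ * (n * q⁻¹ * n⁻¹ * q) * n ∈ N := hN.conj_mem' _ (hcN q) n
    have h2 : n⁻¹ * (n * q⁻¹ * n⁻¹ * q) * n ∈ Cx(t) := by
      have h3 := hQ' q hq
      have h4 := htc q⁻¹ (Q.inv_mem hq)
      refine mem_Cx'.2 ?_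
      calc _ = q⁻¹ * n⁻¹ * (q * (n * t * n⁻¹)) * q⁻¹ * n * q := by group
        _ = q⁻¹ * t * q⁻¹⁻¹ := by rw [h3]; group
        _ = t := h4
    have h3 := hCQ _ h1 h2 q' hq'
    calc _ = n * (q' * (n⁻¹ * (n * q⁻¹ * n⁻¹ * q) * n)) * n⁻¹ := by group
      _ = _ := by rw [h3]; group
  let c : Q →* G :=
    { toFun := fun q => n * (q : G)⁻¹ * n⁻¹ * q
      map_one' := by simp
      map_mul' := fun a b => by
        have h1 := hc1 a a.2 (b : G)⁻¹ (Q.inv_mem b.2)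
        calc n * ((a * b : Q) : G)⁻¹ * n⁻¹ * (a * b : Q)
            = n * (b : G)⁻¹ * n⁻¹ * (n * (a : G)⁻¹ * n⁻¹ * a) * b := by push_cast; group
          _ = _ := by rw [h1]; group }
  have hct : ∀ q : Q, c q ∈ Cx(t) := fun q => by
    have h1 : c q * c ⟨t, htZ.1⟩ = c ⟨t, htZ.1⟩ * c q := by
      rw [← map_mul, ← map_mul]
      congr 1
      exact Subtype.ext (mem_centralizer_iff.1 htZ.2 q q.2)
    have h2 := hc1 q q.2 t htZ.1
    have h3 : t = n * t * n⁻¹ * c ⟨t, htZ.1⟩ := by simp [c, mul_assoc]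
    rw [mem_Cx]
    change n * t * n⁻¹ * c q = c q * (n * t * n⁻¹) at h2
    conv_lhs => rw [h3]
    conv_rhs => rw [h3]
    rw [← mul_assoc, ← h2, mul_assoc, h1, ← mul_assoc]
  have hcc : ∀ a b : Q, c a * c b = c b * c a := fun a b => by
    have h1 := hCQ _ (hcN b) (hct b) a a.2
    have h2 := hc1 b b.2 (a : G)⁻¹ (Q.inv_mem a.2)
    change (a : G) * c b = c b * a at h1
    change n * (a : G)⁻¹ * n⁻¹ * c b = c b * (n * (a : G)⁻¹ * n⁻¹) at h2
    change n * (a : G)⁻¹ * n⁻¹ * a * c b = c b * (n * (a : G)⁻¹ * n⁻¹ * a)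
    rw [mul_assoc, h1, ← mul_assoc, h2, mul_assoc]
  have h5 : ⁅Q, Q⁆ ≤ c.ker.map Q.subtype := commutator_le.2 fun a ha b hb =>
    ⟨⁅(⟨a, ha⟩ : Q), ⟨b, hb⟩⁆, by
      rw [SetLike.mem_coe, MonoidHom.mem_ker, map_commutatorElement,
        commutatorElement_eq_one_iff_mul_comm]
      exact hcc _ _, rfl⟩
  obtain ⟨t', h6, h7⟩ := h5 htQ
  have h8 : n * t⁻¹ * n⁻¹ * t = 1 := by rw [← h7]; exact h6
  rw [mul_eq_one_iff_eq_inv] at h8
  simpa [mul_assoc] using congrArg (·⁻¹) h8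

theorem shared_centralizer [Finite G] (hFT : CfFT.FeitThompson.{u}) (N Q : Subgroup G)
    [hN : N.Normal] (hG : Q ⊔ N = ⊤) (hQ : IsPGroup 2 Q) (t : G)
    (htZ : t ∈ Q ⊓ Cz(Q)) (htQ : t ∈ ⁅Q, Q⁆)
    (hC : N ⊓ Cz(Q) = N ⊓ Cx(t)) :
    Group.IsSolvable ↥⁅N, Q⁆ ∧ Odd (Nat.card ↥⁅N, Q⁆) := by
  obtain ⟨k, hk⟩ := isPGroup_iff_mem.1 hQ t htZ.1
  have hiso := shared_centralizer_iso N Q hG t htZ htQ hC
  have hz := zstar_gen G t k hk hiso
  have h1 : ⁅N, Q⁆ ≤ pPrimeCore 2 G := commutator_le.2 fun n hn q hq => by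
    obtain ⟨m, hm, c, hc, he⟩ := CfH8.exists_mul_centralizer_of_commutator_mem
      (A := zpowers t) (M := N ⊓ pPrimeCore 2 G) le_normalizer_of_normal
      (CfH8.coprime_card_of_isPGroup' (isPGroup_zpowers hk)
        (coprime_card_of_le inf_le_right (coprime_card_pPrimeCore 2 G))).symm
      (Or.inl (CfH8.isSolvable_zpowers t)) (x := n) fun a ha => by
        refine mi (commutator_mem_left hn (mem_Nm_of_normal _ _)) ?_
        obtain ⟨j, rfl⟩ := mem_zpowers_iff.1 ha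
        have h2 : ∀ y : G ⧸ pPrimeCore 2 G, y * (t : G ⧸ pPrimeCore 2 G) = t * y := fun y => by
          obtain ⟨g, rfl⟩ := QuotientGroup.mk_surjective y
          have := (QuotientGroup.eq_one_iff _).2 (hz g)
          simpa [mul_inv_eq_iff_eq_mul] using this
        rw [← QuotientGroup.eq_one_iff]
        have h3 : Commute (n : G ⧸ pPrimeCore 2 G) ((t : G ⧸ pPrimeCore 2 G) ^ j) :=
          Commute.zpow_right (h2 n) j
        simpa [commutatorElement_def, mul_inv_eq_iff_eq_mul] using h3.eq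
    rw [Cz_zpowers] at hc
    have h2 : c ∈ N := by
      have := N.mul_mem (N.inv_mem hm.1) hn
      rwa [he, inv_mul_cancel_left] at this
    have h3 := mem_centralizer_iff.1 (mi2 (hC ▸ mi h2 hc : c ∈ N ⊓ Cz(Q))) q hq
    have h4 : ⁅n, q⁆ = ⁅m, q⁆ := by
      rw [he, commutatorElement_def, commutatorElement_def, mul_assoc m c q, ← h3]; group
    rw [h4]
    exact commutator_mem_left hm.2 (mem_Nm_of_normal _ _)
  have h2 : Odd (Nat.card ↥⁅N, Q⁆) :=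
    Nat.coprime_two_right.1 (coprime_card_of_le h1 (coprime_card_pPrimeCore 2 G))
  exact ⟨hFT.subgroup _ h2, h2⟩

end CfH4
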